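import Cfsg.Agent.H200.STwo.FamDat
import Cfsg.Agent.H493.PGRows2_mg
import Cfsg.Agent.H426.LieEx_m3
import Cfsg.Agent.H415.PG.Def
import Cfsg.Agent.H902.Iso
import Cfsg.Agent.H72.F4I.Num_m3
import Cfsg.Agent.H94.Sp.Base_m3
import Mathlib
import Cfsg.Agent.H416.E8Iso
import Cfsg.Agent.H493.PGRows
import Cfsg.Agent.H77.E4Poly_m3
import Cfsg.Agent.PreUniq.Cases
import Cfsg.Agent.S0205
import Cfsg.Agent.H378.SmallTor_m3
import Cfsg.Agent.H129.TorusChar
import Cfsg.Agent.S1059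
import Cfsg.Agent.H564.TWP.Main_m3
import Cfsg.Agent.H564.U.FTab_m3
import Cfsg.Agent.H564.U.F4_m3
import Cfsg.Agent.KFacts.TwF4.Full
import Cfsg.Agent.H45.Uni.Q.Transfer
import Cfsg.Agent.KFacts.TwF4.Arc
import Cfsg.Agent.FastGrp
import Cfsg.Agent.Prune
set_option linter.all false

section
prune_inst 0x7ff8fff88fb80ddfdfff7e7fae90dffc18949fffa6dff943ffe4e1ff8bdf130209c16b8d0de010fe0ed6e23410b87803fbffda3fe26bd87ffffd1ff45ffbee0fe5f6bd0851d280240f3c2ff703f07f8e7f3fffffffffffffffffffffffffffbeffbfffffffff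

-- part: H200/PG/Ident
section
set_option linter.all false
open scoped Cfsg.Agent.FastGrp

-- part: H200/PG/Arith
section
/-!
# Exponent comparison for `F₄(2^k)`, `²F₄(q)`, `G₂(3^k)` (helper200)

`cS` is the order of a group of Lie type in characteristic `p`, its primes divide the order `cL` of `L`.

* `Al` : `e ≤ N k`, the exponents more than half of the top one;
* `al_f4`, `al_tf4`, `al_g2` : the exponents of `S` allowed by `L`;
* `top_eq` : `f * top g = N k`.
-/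

set_option autoImplicit false

namespace Cfsg.Agent.H200.PG

open Cfsg Cfsg.Agent.OrdDiv Cfsg.Agent.H436 Cfsg.Agent.H425.PartP
open Cfsg.Agent.H425.Chr hiding Dat
open Cfsg.Agent.H200.STwo

variable {p k cL cS : ℕ}

theorem In.of_dvd {e : ℕ} (hπ : ∀ w : ℕ, w.Prime → w ∣ cS → w ∣ cL) (h : In p cS e) : In p cL e := by
  obtain ⟨w, hw, hwc⟩ := h
  exact ⟨w, hw, hπ w hw.prime hwc⟩

/-- the quotient by the gcd -/
theorem split {e : ℕ} (hk : 1 ≤ k) : e = Nat.gcd e k * (e / Nat.gcd e k) ∧ 1 ≤ Nat.gcd e k ∧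
    (Nat.gcd e k = k ∨ 2 * Nat.gcd e k ≤ k) := by
  have hg : 0 < Nat.gcd e k := Nat.gcd_pos_of_pos_right _ hk
  refine ⟨(Nat.mul_div_cancel' (Nat.gcd_dvd_left _ _)).symm, hg, ?_⟩
  obtain ⟨j, hj⟩ := Nat.gcd_dvd_right e k
  rcases Nat.lt_or_ge j 2 with h | h
  · left
    have h1 : j ≠ 0 := by
      rintro rfl
      omega
    have h2 : j = 1 := by omega
    rw [h2, mul_one] at hj
    exact hj.symm
  · right
    calc 2 * Nat.gcd e k = Nat.gcd e k * 2 := mul_comm _ _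
      _ ≤ Nat.gcd e k * j := Nat.mul_le_mul_left _ h
      _ = k := hj.symm

theorem al_f4 (hk : 1 ≤ k) (D : Dat 2 k cL (.f4 (2 ^ k))) (hπ : ∀ w : ℕ, w.Prime → w ∣ cS → w ∣ cL) {e : ℕ}
    (h : In 2 cS e) : e ≤ 12 * k ∧ (6 * k < e → e = 8 * k ∨ e = 12 * k) := by
  have h0 := In.of_dvd hπ h
  obtain ⟨h1, h2, h3⟩ := split (e := e) hk
  have h4 : 3 ≤ e / Nat.gcd e k → K (.f4 (2 ^ k)) (e / Nat.gcd e k) := fun h5 => D.in_cls h5 h0
  generalize e / Nat.gcd e k = d at h1 h4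
  generalize Nat.gcd e k = g at h1 h2 h3
  rcases Nat.lt_or_ge d 3 with h5 | h5
  · have : g * d ≤ g * 2 := Nat.mul_le_mul_left _ (by omega)
    omega
  · have h6 := K_f4 (h4 h5)
    have h7 : d = 3 ∨ d = 4 ∨ d = 6 ∨ d = 8 ∨ d = 12 := by (clear * - h5 h6; solve | lia | omega)
    rcases h7 with rfl | rfl | rfl | rfl | rfl <;> (clear * - h3 h1; solve | lia | omega)

theorem al_tf4 (hk : 1 ≤ k) (D : Dat 2 k cL (.tf4 (2 ^ k))) (hπ : ∀ w : ℕ, w.Prime → w ∣ cS → w ∣ cL) {e : ℕ}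
    (h : In 2 cS e) : e ≤ 12 * k ∧ (6 * k < e → e = 12 * k) := by
  have h0 := In.of_dvd hπ h
  obtain ⟨h1, h2, h3⟩ := split (e := e) hk
  have h4 : 3 ≤ e / Nat.gcd e k → K (.tf4 (2 ^ k)) (e / Nat.gcd e k) := fun h5 => D.in_cls h5 h0
  generalize e / Nat.gcd e k = d at h1 h4
  generalize Nat.gcd e k = g at h1 h2 h3
  rcases Nat.lt_or_ge d 3 with h5 | h5
  · have : g * d ≤ g * 2 := Nat.mul_le_mul_left _ (by omega)
    omega
  · have h6 := K_tf4 (h4 h5)
    have h7 : d = 4 ∨ d = 6 ∨ d = 12 := by omega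
    rcases h7 with rfl | rfl | rfl <;> (clear * - h3 h1; solve | lia | omega)

/-- no exponent `3 k` -/
theorem no_three_tf4 (hk : 1 ≤ k) (D : Dat 2 k cL (.tf4 (2 ^ k))) (hπ : ∀ w : ℕ, w.Prime → w ∣ cS → w ∣ cL) :
    ¬ In 2 cS (3 * k) := by
  intro h
  have h1 : 3 * k / Nat.gcd (3 * k) k = 3 := by
    rw [Nat.gcd_eq_right (Dvd.intro_left _ rfl)]
    exact Nat.mul_div_cancel _ hk
  have h2 := D.in_cls (e := 3 * k) (by rw [h1]) (In.of_dvd hπ h)
  rw [h1] at h2
  have := K_tf4 h2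
  omega

theorem al_g2 (hk : 1 ≤ k) (D : Dat 3 k cL (.g2 (3 ^ k))) (hπ : ∀ w : ℕ, w.Prime → w ∣ cS → w ∣ cL) {e : ℕ}
    (h : In 3 cS e) : e ≤ 6 * k ∧ (3 * k < e → e = 6 * k) := by
  have h0 := In.of_dvd hπ h
  obtain ⟨h1, h2, h3⟩ := split (e := e) hk
  have h4 : 3 ≤ e / Nat.gcd e k → K (.g2 (3 ^ k)) (e / Nat.gcd e k) := fun h5 => D.in_cls h5 h0
  generalize e / Nat.gcd e k = d at h1 h4
  generalize Nat.gcd e k = g at h1 h2 h3
  rcases Nat.lt_or_ge d 3 with h5 | h5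
  · have : g * d ≤ g * 2 := Nat.mul_le_mul_left _ (by omega)
    (clear * - h1 h3 this; solve | lia | omega)
  · have h6 := K_g2 (h4 h5)
    have h7 : d = 3 ∨ d = 6 := by omega
    rcases h7 with rfl | rfl <;> omega

variable {f : ℕ} {g : Grp}

/-- the top exponent -/
theorem top_eq (H : Dat p f cS g) {N : ℕ} (hN6 : 6 ≤ N) (hN : ∀ e, In p cS e → e ≤ N) (h : In p cS N) :
    f * top g = N := by
  have h2 := two_le_top H.cond H.q_ne
  have h1 : N ≤ f * top g := H.le_top (fun d h3 h4 => K_le_top H.cond H.q_ne h3 h4) h h2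
  rcases Nat.lt_or_ge 6 (f * top g) with h3 | h3
  · exact le_antisymm (hN _ (H.in_top (by omega) (by omega))) h1
  · omega

/-- the second class of the orthogonal groups of minus type -/
theorem second_ominus {m q : ℕ} (H : Dat p f cS (.ominus m q)) {N : ℕ} (hN : 8 < N)
    (ht : f * top (.ominus m q) = N) : ∃ e, In p cS e ∧ e < N ∧ 3 * N ≤ 4 * e := by
  have hm : 4 ≤ m := H.cond.1
  have hf := H.hf
  have e0 : f * (2 * m) = N := ht
  have e1 : f * (2 * (m - 1)) + 2 * f = f * (2 * m) := by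
    obtain ⟨j, rfl⟩ : ∃ j, m = j + 1 := ⟨m - 1, by omega⟩
    rw [Nat.add_sub_cancel]
    ring
  have e2 : 8 * f ≤ f * (2 * m) := by
    rw [mul_comm 8 f]
    exact Nat.mul_le_mul_left _ (by omega)
  have e3 : K (.ominus m q) (2 * (m - 1)) := (K_ominus (m := m) (by omega) (by omega)).2 (by omega)
  have e4 : 3 ≤ 2 * (m - 1) := by omega
  have e5 : In p cS (f * (2 * (m - 1))) := by
    refine H.in_mul e4 ?_ e3
    intro h6
    rw [h6] at e1
    omega
  refine ⟨_, e5, ?_, ?_⟩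
  · generalize f * (2 * (m - 1)) = x at *
    generalize f * (2 * m) = y at *
    omega
  · generalize f * (2 * (m - 1)) = x at *
    generalize f * (2 * m) = y at *
    omega

/-- the primes dividing `q - 1` divide the order of `PSL₂(q)` -/
theorem dvd_psl_two {q w c : ℕ} (h : den (.psl 2 q) * c = num (.psl 2 q)) (hq : 2 ≤ q) (hw : w.Prime) (h2 : w ≠ 2)
    (hd : w ∣ q - 1) : w ∣ c := by
  have h1 : Nat.gcd 2 (q - 1) * (q - 1) * c = glN 2 q := h
  have h3 : glN 2 q = (q - 1) * ((q - 1) * (q * (q + 1))) := by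
    have : glN 2 q = (q ^ 2 - q ^ 0) * (q ^ 2 - q ^ 1) := by
      simp only [glN, List.range_succ, _root_.List.range_zero, _root_.List.nil_append, _root_.List.cons_append, _root_.List.map_cons, _root_.pow_zero, _root_.pow_one, _root_.List.map_nil, _root_.List.prod_cons, _root_.List.prod_nil, _root_.mul_one]
    rw [this, pow_zero, pow_one]
    obtain ⟨j, rfl⟩ : ∃ j, q = j + 1 := ⟨q - 1, by omega⟩
    rw [Nat.add_sub_cancel]
    have e1 : (j + 1) ^ 2 - 1 = j * (j + 1 + 1) := by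
      have : (j + 1) ^ 2 = j * (j + 1 + 1) + 1 := by ring
      omega
    have e2 : (j + 1) ^ 2 - (j + 1) = j * (j + 1) := by
      have : (j + 1) ^ 2 = j * (j + 1) + (j + 1) := by ring
      omega
    rw [e1, e2]
    ring
  rw [h3] at h1
  have h4 : Nat.gcd 2 (q - 1) * c = (q - 1) * (q * (q + 1)) := by
    apply Nat.eq_of_mul_eq_mul_left (show 0 < q - 1 by omega)
    rw [← h1]
    ring
  have h5 : w ∣ Nat.gcd 2 (q - 1) * c := by
    rw [h4]
    exact hd.mul_right _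
  rcases hw.dvd_mul.1 h5 with h6 | h6
  · exact absurd ((Nat.prime_dvd_prime_iff_eq hw Nat.prime_two).1 (h6.trans (Nat.gcd_dvd_left _ _))) h2
  · exact h6

/-- the exponent `j` of `PSL₂(p^f)`, `j ∣ f` -/
theorem in_psl_two {q : ℕ} (hq : q = p ^ f) (H : Dat p f cS (.psl 2 q)) {j : ℕ} (hj : 3 ≤ j) (h6 : j ≠ 6) (hd : j ∣ f) :
    In p cS j := by
  obtain ⟨w, hw⟩ := exists_prim_two H.hp hj h6
  refine ⟨w, hw, dvd_psl_two H.eq (by rw [hq]; exact H.two_le) hw.prime ?_ ?_⟩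
  · have := hw.odd (by omega)
    omega
  · rw [hq]
    exact hw.dvd hd

/-- the exponents of the Suzuki groups -/
theorem in_sz {q : ℕ} (hq : q = p ^ f) (H : Dat p f cS (.sz q)) {j : ℕ} (hj : 3 ≤ j) (h6 : j ≠ 6) (hd : j ∣ f) :
    In p cS j := by
  obtain ⟨w, hw⟩ := exists_prim_two H.hp hj h6
  refine ⟨w, hw, ?_⟩
  have h1 : 1 * cS = num (.sz q) := H.eq
  rw [one_mul] at h1
  rw [h1]
  have h2 : w ∣ q - 1 := by
    rw [hq]
    exact hw.dvd hd
  change w ∣ q ^ 2 * _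
  refine Dvd.dvd.mul_left ?_ _
  first | exact Dvd.dvd.mul_left h2 _ | exact Dvd.dvd.mul_right h2 _

end Cfsg.Agent.H200.PG
end

-- part: H200/PG/Tri
section
/-!
# The families of groups of Lie type with at least three components of the prime graph (helper200)

* `Isol S n` : `n` odd, the primes of `n` divide `|S|` and are not adjacent to the primes not dividing `n`;
* `Tri S` : two odd primes of `|S|`, in different components, which are not the component of 2;
* `Tri.fam` : `S` of family `fam` over the field with `p ^ f` elements with `Tri S` : `fam` is `PSL₂`, `PSL₃(2)`, `PSL₃(4)`,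
  `PSU₄(3)`, `PSU₆(2)`, `PΩ⁻`, `G₂`, `F₄`, `E₇`, `E₈`, `²E₆`, `Sz`, `²G₂`, `²F₄`.
-/

set_option autoImplicit false

namespace Cfsg.Agent.H200.PG

open Cfsg Cfsg.Agent.H493.PG

universe u v

/-- `n` is odd, the primes of `n` are not adjacent to the primes not dividing `n` -/
structure Isol (S : Type u) [Group S] (n : ℕ) : Prop where
  odd : Odd n
  dvd : ∀ r : ℕ, r.Prime → r ∣ n → r ∣ Nat.card S
  nadj : ∀ r s : ℕ, r.Prime → s.Prime → r ∣ n → ¬ s ∣ n → ¬ ∃ x : S, orderOf x = r * s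

variable {S : Type u} [Group S] {n m : ℕ}

theorem Isol.conn (h : Isol S n) {a b : ℕ} (ha : a ∣ n) (hc : Conn S a b) : b ∣ n := by
  induction hc with
  | refl => exact ha
  | tail _ h1 ih =>
    obtain ⟨h2, h3, -, g, hg⟩ := h1
    by_contra hb
    exact h.nadj _ _ h2 h3 ih hb ⟨g, hg⟩

theorem Isol.ne_two (h : Isol S n) {a : ℕ} (ha : a ∣ n) : a ≠ 2 := by
  rintro rfl
  have := h.odd
  rw [← Nat.not_even_iff_odd, even_iff_two_dvd] at this
  exact this ha

theorem Isol.not_two (h : Isol S n) {a : ℕ} (ha : a ∣ n) : ¬ Conn S 2 a := fun hc =>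
  h.ne_two (h.conn ha hc.symm) rfl

/-- three components -/
def Tri (S : Type u) [Group S] : Prop :=
  ∃ a b : ℕ, a.Prime ∧ b.Prime ∧ a ≠ 2 ∧ b ≠ 2 ∧ a ∣ Nat.card S ∧ b ∣ Nat.card S ∧ a ≠ b ∧
    ¬ Conn S 2 a ∧ ¬ Conn S 2 b ∧ ¬ Conn S a b

theorem Isol.tri (h : Isol S n) (h' : Isol S m) (hn : n ≠ 1) (hm : m ≠ 1) (hc : Nat.Coprime n m) : Tri S := by
  obtain ⟨a, ha, han⟩ := Nat.exists_prime_and_dvd hn
  obtain ⟨b, hb, hbm⟩ := Nat.exists_prime_and_dvd hm
  have hab : ∀ c : ℕ, c.Prime → c ∣ n → ¬ c ∣ m := by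
    intro c hc1 h1 h2
    have := Nat.dvd_gcd h1 h2
    rw [hc] at this
    exact hc1.one_lt.ne' (Nat.dvd_one.1 this)
  refine ⟨a, b, ha, hb, h.ne_two han, h'.ne_two hbm, h.dvd a ha han, h'.dvd b hb hbm, ?_, h.not_two han, h'.not_two hbm, ?_⟩
  · rintro rfl
    exact hab a ha han hbm
  · intro hcab
    exact hab b hb (h.conn han hcab) hbm

theorem Tri.not_few (T : Tri S) (h2 : 2 ∣ Nat.card S) : ¬ Few 3 S := by
  obtain ⟨a, b, ha, hb, ha2, hb2, haS, hbS, hab, h1, h3, h4⟩ := T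
  intro hF
  obtain ⟨i, j, hij, hc⟩ := hF ![2, a, b] (by
    intro i j h
    fin_cases i <;> fin_cases j
    · rfl
    · exact absurd (show (2 : ℕ) = a from h).symm ha2
    · exact absurd (show (2 : ℕ) = b from h).symm hb2
    · exact absurd (show a = 2 from h) ha2
    · rfl
    · exact absurd (show a = b from h) hab
    · exact absurd (show b = 2 from h) hb2
    · exact absurd (show b = a from h).symm hab
    · rfl) (by
    intro i
    fin_cases i
    · exact ⟨Nat.prime_two, h2⟩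
    · exact ⟨ha, haS⟩
    · exact ⟨hb, hbS⟩)
  fin_cases i <;> fin_cases j
  · exact hij rfl
  · exact h1 hc
  · exact h3 hc
  · exact h1 hc.symm
  · exact hij rfl
  · exact h4 hc
  · exact h3 hc.symm
  · exact h4 hc.symm
  · exact hij rfl

theorem Tri.congr {S' : Type v} [Group S'] (e : S ≃* S') (T : Tri S) : Tri S' := by
  obtain ⟨a, b, ha, hb, ha2, hb2, haS, hbS, hab, h1, h3, h4⟩ := T
  have key : ∀ x y : ℕ, Conn S' x y → Conn S x y := by
    intro x y h
    induction h with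
    | refl => exact Conn.refl _
    | tail _ h ih =>
      obtain ⟨h5, h6, h7, g, hg⟩ := h
      exact Relation.ReflTransGen.tail ih ⟨h5, h6, h7, e.symm g, by rw [MulEquiv.orderOf_eq, hg]⟩
  rw [Nat.card_congr e.toEquiv] at haS hbS
  exact ⟨a, b, ha, hb, ha2, hb2, haS, hbS, hab, fun h => h1 (key _ _ h), fun h => h3 (key _ _ h), fun h => h4 (key _ _ h)⟩

open Cfsg.Agent.H493.PGRows

theorem Tri.fam [Finite S] (T : Tri S) (h2 : 2 ∣ Nat.card S) {p f : ℕ} (hp : p.Prime) (hf : 1 ≤ f)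
    {fam : H426.LieFam.Fam} (h : fam.Is p f S) :
    fam = .psl 2 ∨ (fam = .psl 3 ∧ (p ^ f = 2 ∨ p ^ f = 4)) ∨ (fam = .psu 4 ∧ p ^ f = 3) ∨ (fam = .psu 6 ∧ p ^ f = 2) ∨
      (∃ m, fam = .ominus m) ∨ fam = .g2 ∨ fam = .f4 ∨ fam = .e7 ∨ fam = .e8 ∨ fam = .te6 ∨ fam = .sz ∨ fam = .ree ∨
      fam = .tf4 := by
  cases fam with
  | psl n =>
    obtain ⟨hn, h4, F, _, _, _, hF, ⟨e⟩⟩ := h
    rcases Nat.lt_or_ge n 3 with h3 | h3
    · obtain rfl : n = 2 := by omega
      exact Or.inl rfl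
    · obtain ⟨a, b, ha, hb, ha2, hb2, haS, hbS, -, h5, h6, h7⟩ := T.congr e
      rcases H371.Psl.three h3 ha hb ha2 hb2 haS hbS with h | h | h | ⟨rfl, h⟩
      · exact absurd (conn_of h) h5
      · exact absurd (conn_of h) h6
      · exact absurd (conn_of h) h7
      · rw [Nat.card_eq_fintype_card, hF] at h
        exact Or.inr (Or.inl ⟨rfl, h⟩)
  | psp m =>
    obtain ⟨hm, h3, F, _, _, _, hF, e⟩ := h
    exact absurd (few_psp ⟨F, _, _, m, hm, fun h => by rw [hF]; exact h3 h, e⟩) (T.not_few h2)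
  | oodd m =>
    obtain ⟨hm, h3, F, _, _, _, hF, e⟩ := h
    exact absurd (few_omegaOdd ⟨F, _, _, m, hm, by rwa [hF], e⟩) (T.not_few h2)
  | oplus m =>
    obtain ⟨hm, F, _, _, _, hF, e⟩ := h
    exact absurd (few_omegaPlus ⟨F, _, ‹_›, m, hm, e⟩) (T.not_few h2)
  | psu n =>
    obtain ⟨hn, h4, F, _, _, _, hF, ⟨e⟩⟩ := h
    have : Finite (PSU n F (p ^ f)) := Finite.of_equiv S e.toEquiv
    obtain ⟨a, b, ha, hb, ha2, hb2, haS, hbS, hab, h5, h6, h7⟩ := T.congr e
    rcases H948.UMain.psu_two hF hn h4 ha hb ha2 hb2 hab haS hbS with h | h | h | ⟨rfl, h⟩ | ⟨rfl, h⟩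
    · exact absurd (conn_of h.conn).symm h5
    · exact absurd (conn_of h.conn).symm h6
    · exact absurd (conn_of h.conn) h7
    · exact Or.inr (Or.inr (Or.inl ⟨rfl, h⟩))
    · exact Or.inr (Or.inr (Or.inr (Or.inl ⟨rfl, h⟩)))
  | td4 =>
    obtain ⟨K, _, _, _, hK, ⟨e⟩⟩ := h
    exact absurd (Few.congr e.symm (H493.PGD4T.few_tw (hp.isPrimePow.pow (by omega)) hK)) (T.not_few h2)
  | e6 =>
    obtain ⟨F, _, _, _, hF, e⟩ := h
    exact absurd (few_isoE6 ⟨F, _, ‹_›, e⟩) (T.not_few h2)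
  | ominus m => simp
  | g2 => simp
  | f4 => simp
  | e7 => simp
  | e8 => simp
  | te6 => simp
  | sz => simp
  | ree => simp
  | tf4 => simp

end Cfsg.Agent.H200.PG
end

-- part: H200/PG/Same
section
/-!
# The same characteristic: `F₄(2^k)`, `²F₄(q)`, `G₂(3^k)` (helper200)

`S` of Lie type in the characteristic of `L`, `π(S) ⊆ π(L)`, two isolated coprime odd numbers: `S` and `L` have the same
family and the same field.

* `same_f4`, `same_tf4`, `same_g2`.
-/

set_option autoImplicit false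

namespace Cfsg.Agent.H200.PG

open Cfsg Cfsg.Agent.OrdDiv Cfsg.Agent.H436 Cfsg.Agent.H425.PartP
open Cfsg.Agent.H425.Chr hiding Dat
open Cfsg.Agent.H200.STwo
open Cfsg.Agent.H493.PG Cfsg.Agent.H493.PGRows Cfsg.Agent.H493.PGCyc Cfsg.Agent.H493.PGTorus
open Cfsg.Agent.H415.PG3 (Ip)

universe u v

theorem isol_of_ip {S : Type u} [Group S] {n : ℕ} (h : Ip S n) : Isol S n :=
  ⟨Nat.odd_iff.2 (by have := h.not_two_dvd; omega), h.dvd, h.iso⟩

theorem tri_of_ip {S : Type u} [Group S] {n m : ℕ} (h : Ip S n) (h' : Ip S m) (hc : Nat.Coprime n m) : Tri S :=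
  (isol_of_ip h).tri (isol_of_ip h') h.one_lt.ne' h'.one_lt.ne' hc

theorem in_of_ip {S : Type u} [Group S] {p n e : ℕ} (hp : p.Prime) (h : Ip S n) (he : 3 ≤ e) (h6 : e ≠ 6)
    (hd : ∀ w, Prim p e w → w ∣ n) : In p (Nat.card S) e := by
  obtain ⟨w, hw⟩ := exists_prim_two hp he h6
  exact ⟨w, hw, h.dvd w hw.prime (hd w hw)⟩

theorem in_of_ip_mul {S : Type u} [Group S] {p n m e : ℕ} (hp : p.Prime) (h : Ip S n) (h' : Ip S m) (he : 3 ≤ e)
    (h6 : e ≠ 6) (hd : ∀ w, Prim p e w → w ∣ n * m) : In p (Nat.card S) e := by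
  obtain ⟨w, hw⟩ := exists_prim_two hp he h6
  refine ⟨w, hw, ?_⟩
  rcases hw.prime.dvd_mul.1 (hd w hw) with h1 | h1
  · exact h.dvd w hw.prime h1
  · exact h'.dvd w hw.prime h1

theorem cube_add {x : ℕ} (hx : 1 ≤ x) : x ^ 3 + 1 = (x + 1) * (x ^ 2 - x + 1) := by
  obtain ⟨j, rfl⟩ : ∃ j, x = j + 1 := ⟨x - 1, by omega⟩
  have : (j + 1) ^ 2 - (j + 1) = (j + 1) * j := by
    have : (j + 1) ^ 2 = (j + 1) * j + (j + 1) := by ring
    omega
  rw [this]
  ring

theorem cube_sub {x : ℕ} (hx : 1 ≤ x) : x ^ 3 - 1 = (x - 1) * (x ^ 2 + x + 1) := by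
  obtain ⟨j, rfl⟩ : ∃ j, x = j + 1 := ⟨x - 1, by omega⟩
  rw [Nat.add_sub_cancel]
  have : (j + 1) ^ 3 = j * ((j + 1) ^ 2 + (j + 1) + 1) + 1 := by ring
  omega

section prims

variable {p k w : ℕ}

theorem prim_eight (hk : 1 ≤ k) (hw : Prim p (8 * k) w) : w ∣ (p ^ k) ^ 4 + 1 := by
  have h := (add_iff hw (by omega) (4 * k)).2 ⟨⟨1, by ring⟩, fun h => by have := Nat.le_of_dvd (by omega) h; omega⟩
  rwa [mul_comm, pow_mul] at h

theorem prim_twelve (hp : p.Prime) (hk : 1 ≤ k) (hw : Prim p (12 * k) w) : w ∣ (p ^ k) ^ 4 - (p ^ k) ^ 2 + 1 := by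
  have h := (add_iff hw (by omega) (6 * k)).2 ⟨⟨1, by ring⟩, fun h => by have := Nat.le_of_dvd (by omega) h; omega⟩
  have h1 : ¬ w ∣ p ^ (2 * k) + 1 := fun h1 => by
    have h2 := ((add_iff hw (by omega) (2 * k)).1 h1).1
    have := Nat.le_of_dvd (by omega) h2
    omega
  have h2 : p ^ (6 * k) = (p ^ (2 * k)) ^ 3 := by
    rw [← pow_mul]
    congr 1
    ring
  rw [h2, cube_add (Nat.one_le_pow _ _ hp.pos)] at h
  have h3 : p ^ (2 * k) = (p ^ k) ^ 2 := by
    rw [← pow_mul, mul_comm]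
  have h4 : (p ^ (2 * k)) ^ 2 = (p ^ k) ^ 4 := by
    rw [h3, ← pow_mul]
  rw [h4] at h
  have h5 := (hw.prime.dvd_mul.1 h).resolve_left h1
  rwa [h3] at h5

theorem prim_six (hp : p.Prime) (hk : 1 ≤ k) (hw : Prim p (6 * k) w) : w ∣ (p ^ k) ^ 2 - p ^ k + 1 := by
  have h := (add_iff hw (by omega) (3 * k)).2 ⟨⟨1, by ring⟩, fun h => by have := Nat.le_of_dvd (by omega) h; omega⟩
  have h1 : ¬ w ∣ p ^ k + 1 := fun h1 => by
    have h2 := ((add_iff hw (by omega) k).1 h1).1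
    have := Nat.le_of_dvd (by omega) h2
    omega
  have h2 : p ^ (3 * k) = (p ^ k) ^ 3 := by
    rw [← pow_mul, mul_comm]
  rw [h2, cube_add (Nat.one_le_pow _ _ hp.pos)] at h
  exact (hw.prime.dvd_mul.1 h).resolve_left h1

theorem prim_three (hp : p.Prime) (hk : 1 ≤ k) (hw : Prim p (3 * k) w) : w ∣ (p ^ k) ^ 2 + p ^ k + 1 := by
  have h : w ∣ p ^ (3 * k) - 1 := hw.dvd dvd_rfl
  have h1 : ¬ w ∣ p ^ k - 1 := fun h1 => by
    have := Nat.le_of_dvd (by omega) ((hw.dvd_iff k).1 h1)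
    omega
  have h2 : p ^ (3 * k) = (p ^ k) ^ 3 := by
    rw [← pow_mul, mul_comm]
  rw [h2, cube_sub (Nat.one_le_pow _ _ hp.pos)] at h
  exact (hw.prime.dvd_mul.1 h).resolve_left h1

end prims

section cls

variable {p f c : ℕ} {g : Grp}

/-- the quotient of `a k` by the gcd with `b k` -/
theorem quot_eq {k : ℕ} (hk : 1 ≤ k) (a b : ℕ) : a * k / Nat.gcd (a * k) (b * k) = a / Nat.gcd a b := by
  rw [Nat.gcd_mul_right, Nat.mul_div_mul_right _ _ hk]

theorem cls_of {k : ℕ} (hk : 1 ≤ k) {a b d : ℕ} (H : Dat p f c g) (hf : f = b * k) (hd : a / Nat.gcd a b = d)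
    (h3 : 3 ≤ d) (h : In p c (a * k)) : K g d := by
  have h1 : a * k / Nat.gcd (a * k) f = d := by rw [hf, quot_eq hk, hd]
  have := H.in_cls (e := a * k) (by rwa [h1]) h
  rwa [h1] at this

end cls

theorem not_both {n m : ℕ} (hc : Nat.Coprime n m) {a : ℕ} (ha : a.Prime) (h1 : a ∣ n) (h2 : a ∣ m) : False := by
  have := Nat.dvd_gcd h1 h2
  rw [hc] at this
  exact ha.one_lt.ne' (Nat.dvd_one.1 this)

/-- `3 ^ k + 1` is not a power of two -/
theorem exists_odd_prime {k : ℕ} (hk : 2 ≤ k) : ∃ u : ℕ, u.Prime ∧ u ≠ 2 ∧ u ∣ 3 ^ k + 1 := by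
  obtain ⟨a, b, hb, hab⟩ := Nat.exists_eq_two_pow_mul_odd (n := 3 ^ k + 1) (Nat.succ_ne_zero _)
  have h9 : 3 ^ 2 ≤ 3 ^ k := Nat.pow_le_pow_right (by norm_num) hk
  have hb1 : b ≠ 1 := by
    rintro rfl
    rw [mul_one] at hab
    have h8 : (3 ^ k + 1) % 8 = 2 ∨ (3 ^ k + 1) % 8 = 4 := by
      rcases Nat.even_or_odd' k with ⟨j, rfl | rfl⟩
      · left
        rw [pow_mul, Nat.add_mod, Nat.pow_mod]
        norm_num
      · right
        rw [pow_succ, pow_mul, Nat.add_mod, Nat.mul_mod, Nat.pow_mod]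
        norm_num
    have ha : a < 3 := by
      by_contra hc
      obtain ⟨j, rfl⟩ : ∃ j, a = 3 + j := ⟨a - 3, by omega⟩
      rw [pow_add] at hab
      omega
    have : 2 ^ a ≤ 2 ^ 2 := Nat.pow_le_pow_right (by norm_num) (by omega)
    omega
  obtain ⟨u, hu, hub⟩ := Nat.exists_prime_and_dvd hb1
  refine ⟨u, hu, ?_, ?_⟩
  · rintro rfl
    exact (Nat.not_even_iff_odd.2 hb) (even_iff_two_dvd.2 hub)
  · rw [hab]
    exact hub.mul_left _

theorem not_both_three {k u : ℕ} (hu : u.Prime) (h1 : u ∣ 3 ^ k + 1) (h2 : u ∣ (3 ^ k) ^ 2 - 3 ^ k + 1) : False := by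
  have h3 : (3 ^ k) ^ 2 - 3 ^ k + 1 + 3 * 3 ^ k = (3 ^ k + 1) * (3 ^ k + 1) := by
    have h4 : 3 ^ k ≤ (3 ^ k) ^ 2 := Nat.le_self_pow (by norm_num) _
    zify [h4]
    ring
  have h5 : u ∣ 3 * 3 ^ k := by
    have h6 : u ∣ (3 ^ k) ^ 2 - 3 ^ k + 1 + 3 * 3 ^ k := h3 ▸ h1.mul_right _
    exact (Nat.dvd_add_right h2).1 h6
  have h7 : u ∣ 3 ^ (k + 1) := by
    rwa [pow_succ, mul_comm]
  have h8 : u = 3 := (Nat.prime_dvd_prime_iff_eq hu Nat.prime_three).1 (hu.dvd_of_dvd_pow h7)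
  subst h8
  rcases Nat.eq_zero_or_pos k with rfl | hk
  · norm_num at h1
  · have h9 : 3 ∣ 3 ^ k := dvd_pow_self 3 (by omega)
    have := (Nat.dvd_add_right h9).1 h1
    omega

variable {k : ℕ} {L : Type v} [Group L] [Finite L] {S : Type u} [Group S] [Finite S]

theorem pow_cases {f : ℕ} (h : 2 ^ f = 2 ∨ 2 ^ f = 4) : f ≤ 2 := by
  by_contra hc
  have : 2 ^ 3 ≤ 2 ^ f := Nat.pow_le_pow_right (by norm_num) (by omega)
  omega

/-- **`F₄(2^k)`** -/
theorem same_f4 (hk : 1 ≤ k) (hL : H426.LieFam.Fam.Is 2 k L .f4) (hl : IsLieTypeChar 2 S)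
    (hπ : ∀ r : ℕ, r.Prime → r ∣ Nat.card S → r ∣ Nat.card L) (h1 : Ip S ((2 ^ k) ^ 4 + 1))
    (h2 : Ip S ((2 ^ k) ^ 4 - (2 ^ k) ^ 2 + 1)) (hc : Nat.Coprime ((2 ^ k) ^ 4 + 1) ((2 ^ k) ^ 4 - (2 ^ k) ^ 2 + 1)) :
    H426.LieFam.Fam.Is 2 k S .f4 := by
  obtain ⟨fam, f, d, N, hIs, hSh⟩ := H426.LieFam.exists_fam Nat.prime_two hl
  have H := dat_of_is Nat.prime_two hSh.f_pos hIs
  have DL := dat_of_is Nat.prime_two hk hL
  have hf := hSh.f_pos
  have hA := fun {e : ℕ} (h : In 2 (Nat.card S) e) => al_f4 hk DL hπ h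
  have i8 : In 2 (Nat.card S) (8 * k) := in_of_ip Nat.prime_two h1 (by omega) (by omega) fun w hw => prim_eight hk hw
  have i12 : In 2 (Nat.card S) (12 * k) := in_of_ip Nat.prime_two h2 (by omega) (by omega)
    fun w hw => prim_twelve Nat.prime_two hk hw
  have ht := top_eq H (N := 12 * k) (by omega) (fun e he => (hA he).1) i12
  rcases (tri_of_ip h1 h2 hc).fam hSh.chr Nat.prime_two hSh.f_pos hIs with h | ⟨h, h0⟩ | ⟨h, h0⟩ | ⟨h, h0⟩ | ⟨m, h⟩ |
    h | h | h | h | h | h | h | h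
  · subst h
    have ht' : f * 2 = 12 * k := ht
    have := cls_of (a := 8) (b := 6) (d := 4) hk H (by omega) (by norm_num) (by norm_num) i8
    change 4 ≤ 2 at this
    omega
  · subst h
    have ht' : f * 3 = 12 * k := ht
    have := pow_cases h0
    omega
  · have : 2 ∣ 2 ^ f := dvd_pow_self 2 (by omega)
    rw [h0] at this
    omega
  · subst h
    have ht' : f * 10 = 12 * k := ht
    have := pow_cases (Or.inl h0)
    omega
  · subst h
    obtain ⟨e, he, he1, he2⟩ := second_ominus H (N := 12 * k) (by omega) ht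
    have := hA he
    omega
  · subst h
    have ht' : f * 6 = 12 * k := ht
    have := K_g2 (cls_of (a := 8) (b := 2) (d := 4) hk H (by omega) (by norm_num) (by norm_num) i8)
    omega
  · subst h
    have ht' : f * 12 = 12 * k := ht
    have : f = k := by omega
    rwa [this] at hIs
  · subst h
    have ht' : f * 18 = 12 * k := ht
    have := hA (H.in_mul (d := 14) (by norm_num) (by omega) (show 14 ∣ 2 ∨ _ by norm_num))
    omega
  · subst h
    have ht' : f * 30 = 12 * k := ht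
    have := hA (H.in_mul (d := 24) (by norm_num) (by omega) (show 24 ∣ 2 ∨ _ by norm_num))
    omega
  · subst h
    have ht' : f * 18 = 12 * k := ht
    have := hA (H.in_mul (d := 10) (by norm_num) (by omega) (show 10 ∣ 2 ∨ _ by norm_num))
    omega
  · subst h
    have ht' : f * 4 = 12 * k := ht
    have := K_sz (cls_of (a := 8) (b := 3) (d := 8) hk H (by omega) (by norm_num) (by norm_num) i8)
    omega
  · subst h
    have ht' : f * 6 = 12 * k := ht
    have := K_ree (cls_of (a := 8) (b := 2) (d := 4) hk H (by omega) (by norm_num) (by norm_num) i8)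
    omega
  · subst h
    have ht' : f * 12 = 12 * k := ht
    have := K_tf4 (cls_of (a := 8) (b := 1) (d := 8) hk H (by omega) (by norm_num) (by norm_num) i8)
    omega

/-- **`²F₄(2^k)`** -/
theorem same_tf4 (hk : 3 ≤ k) (hL : H426.LieFam.Fam.Is 2 k L .tf4) (hl : IsLieTypeChar 2 S)
    (hπ : ∀ r : ℕ, r.Prime → r ∣ Nat.card S → r ∣ Nat.card L) {n₁ n₂ : ℕ} (h1 : Ip S n₁) (h2 : Ip S n₂)
    (hn : n₁ * n₂ = (2 ^ k) ^ 4 - (2 ^ k) ^ 2 + 1) (hc : Nat.Coprime n₁ n₂) :
    H426.LieFam.Fam.Is 2 k S .tf4 := by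
  obtain ⟨fam, f, d, N, hIs, hSh⟩ := H426.LieFam.exists_fam Nat.prime_two hl
  have hk1 : 1 ≤ k := by omega
  have H := dat_of_is Nat.prime_two hSh.f_pos hIs
  have DL := dat_of_is Nat.prime_two hk1 hL
  have hf := hSh.f_pos
  have hA := fun {e : ℕ} (h : In 2 (Nat.card S) e) => al_tf4 hk1 DL hπ h
  have hB := no_three_tf4 hk1 DL hπ
  have i12 : In 2 (Nat.card S) (12 * k) := in_of_ip_mul Nat.prime_two h1 h2 (by omega) (by omega)
    fun w hw => hn ▸ prim_twelve Nat.prime_two hk1 hw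
  have ht := top_eq H (N := 12 * k) (by omega) (fun e he => (hA he).1) i12
  rcases (tri_of_ip h1 h2 hc).fam hSh.chr Nat.prime_two hSh.f_pos hIs with h | ⟨h, h0⟩ | ⟨h, h0⟩ | ⟨h, h0⟩ | ⟨m, h⟩ |
    h | h | h | h | h | h | h | h
  · subst h
    have ht' : f * 2 = 12 * k := ht
    exact absurd (in_psl_two rfl H (j := 3 * k) (by omega) (by omega) ⟨2, by omega⟩) hB
  · subst h
    have ht' : f * 3 = 12 * k := ht
    have := pow_cases h0
    omega
  · have : 2 ∣ 2 ^ f := dvd_pow_self 2 (by omega)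
    rw [h0] at this
    omega
  · subst h
    have ht' : f * 10 = 12 * k := ht
    have := pow_cases (Or.inl h0)
    omega
  · subst h
    obtain ⟨e, he, he1, he2⟩ := second_ominus H (N := 12 * k) (by omega) ht
    have := hA he
    omega
  · subst h
    have ht' : f * 6 = 12 * k := ht
    exfalso
    obtain ⟨-, F, _, _, _, hF, ⟨e⟩⟩ := hIs
    obtain ⟨a, ha, han⟩ := Nat.exists_prime_and_dvd h1.one_lt.ne'
    obtain ⟨b, hb, hbn⟩ := Nat.exists_prime_and_dvd h2.one_lt.ne'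
    have hq : Nat.card F = (2 ^ k) ^ 2 := by
      rw [Nat.card_eq_fintype_card, hF, ← pow_mul]
      congr 1
      omega
    have hpv : pv c6 (Nat.card F) = ((n₁ * n₂ : ℕ) : ℤ) := by
      have hle : (2 ^ k) ^ 2 ≤ (2 ^ k) ^ 4 := Nat.pow_le_pow_right (Nat.two_pow_pos k) (by norm_num)
      rw [pv_c6, hn, hq]
      push_cast [Nat.cast_sub hle]
      ring
    have key := Cfsg.Agent.H493.PGG2.conn6 (F := F) ha hb (hpv ▸ Int.natCast_dvd_natCast.2 (han.mul_right _))
      (hpv ▸ Int.natCast_dvd_natCast.2 (hbn.mul_left _))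
    exact not_both hc hb ((isol_of_ip (h1.congr e)).conn han key) hbn
  · subst h
    have ht' : f * 12 = 12 * k := ht
    have := hA (H.in_mul (d := 8) (by norm_num) (by omega) (show 8 ∣ 2 ∨ _ by norm_num))
    omega
  · subst h
    have ht' : f * 18 = 12 * k := ht
    have := hA (H.in_mul (d := 14) (by norm_num) (by omega) (show 14 ∣ 2 ∨ _ by norm_num))
    omega
  · subst h
    have ht' : f * 30 = 12 * k := ht
    have := hA (H.in_mul (d := 24) (by norm_num) (by omega) (show 24 ∣ 2 ∨ _ by norm_num))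
    omega
  · subst h
    have ht' : f * 18 = 12 * k := ht
    have := hA (H.in_mul (d := 10) (by norm_num) (by omega) (show 10 ∣ 2 ∨ _ by norm_num))
    omega
  · subst h
    have ht' : f * 4 = 12 * k := ht
    exact absurd (in_sz rfl H (j := 3 * k) (by omega) (by omega) ⟨1, by omega⟩) hB
  · subst h
    exact absurd hIs.1 (by norm_num)
  · subst h
    have ht' : f * 12 = 12 * k := ht
    have : f = k := by omega
    rwa [this] at hIs

/-- **`G₂(3^k)`** -/
theorem same_g2 (hk : 2 ≤ k) (hL : H426.LieFam.Fam.Is 3 k L .g2) (hl : IsLieTypeChar 3 S) (he : 2 ∣ Nat.card S)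
    (hπ : ∀ r : ℕ, r.Prime → r ∣ Nat.card S → r ∣ Nat.card L) (h1 : Ip S ((3 ^ k) ^ 2 + 3 ^ k + 1))
    (h2 : Ip S ((3 ^ k) ^ 2 - 3 ^ k + 1)) (hc : Nat.Coprime ((3 ^ k) ^ 2 + 3 ^ k + 1) ((3 ^ k) ^ 2 - 3 ^ k + 1)) :
    H426.LieFam.Fam.Is 3 k S .g2 := by
  obtain ⟨fam, f, d, N, hIs, hSh⟩ := H426.LieFam.exists_fam Nat.prime_three hl
  have hk1 : 1 ≤ k := by omega
  have H := dat_of_is Nat.prime_three hSh.f_pos hIs
  have DL := dat_of_is Nat.prime_three hk1 hL
  have hf := hSh.f_pos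
  have hA := fun {e : ℕ} (h : In 3 (Nat.card S) e) => al_g2 hk1 DL hπ h
  have h3f : 3 ∣ 3 ^ f := dvd_pow_self 3 (by omega)
  have i3 : In 3 (Nat.card S) (3 * k) := by
    obtain ⟨w, hw⟩ := exists_prim (q := 3) (e := 3 * k) (by norm_num) (by omega) (by omega)
    exact ⟨w, hw, h1.dvd w hw.prime (prim_three Nat.prime_three hk1 hw)⟩
  have i6 : In 3 (Nat.card S) (6 * k) := in_of_ip Nat.prime_three h2 (by omega) (by omega)
    fun w hw => prim_six Nat.prime_three hk1 hw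
  have ht := top_eq H (N := 6 * k) (by omega) (fun e he => (hA he).1) i6
  rcases (tri_of_ip h1 h2 hc).fam he Nat.prime_three hSh.f_pos hIs with h | ⟨h, h0⟩ | ⟨h, h0⟩ | ⟨h, h0⟩ | ⟨m, h⟩ |
    h | h | h | h | h | h | h | h
  · subst h
    have ht' : f * 2 = 6 * k := ht
    exfalso
    obtain ⟨-, h4, F, _, _, _, hF, ⟨e⟩⟩ := hIs
    obtain ⟨u, hu, hu2, huq⟩ := exists_odd_prime hk
    obtain ⟨r, hr, hrn⟩ := Nat.exists_prime_and_dvd h2.one_lt.ne'
    have hr2 := (isol_of_ip h2).ne_two hrn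
    have := Fact.mk Nat.prime_three
    have hS := Cfsg.Agent.S2475.result (F := F) 3 (by rw [hF]; exact h4 rfl)
    have hQ : Fintype.card F = (3 ^ k) ^ 3 := by
      rw [hF, ← pow_mul]
      congr 1
      omega
    have hodd : Odd (Fintype.card F) := by
      rw [hF]
      exact Odd.pow (by decide)
    have hg2 : Nat.gcd 2 (Fintype.card F - 1) = 2 := by
      apply Nat.gcd_eq_left
      obtain ⟨j, hj⟩ := hodd
      exact ⟨j, by (clear * - hj; omega)⟩
    have hg : (Fintype.card F + 1) / 2 ∈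
        Set.range (orderOf : Matrix.ProjectiveSpecialLinearGroup (Fin 2) F → ℕ) := by
      rw [hS, hg2]
      exact Or.inr (Or.inr dvd_rfl)
    obtain ⟨g, hg⟩ := hg
    have hfac : Fintype.card F + 1 = (3 ^ k + 1) * ((3 ^ k) ^ 2 - 3 ^ k + 1) := by
      rw [hQ, cube_add (Nat.one_le_pow _ _ (by norm_num))]
    have hhalf : ∀ w : ℕ, w.Prime → w ≠ 2 → w ∣ Fintype.card F + 1 → w ∣ (Fintype.card F + 1) / 2 := by
      intro w hw hw2 hd
      obtain ⟨j, hj⟩ := hodd
      have e1 : Fintype.card F + 1 = 2 * ((Fintype.card F + 1) / 2) := by (clear * - hj; omega)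
      rw [e1] at hd
      exact (hw.dvd_mul.1 hd).resolve_left fun h => hw2 ((Nat.prime_dvd_prime_iff_eq hw Nat.prime_two).1 h)
    have key : Conn (Matrix.ProjectiveSpecialLinearGroup (Fin 2) F) r u :=
      conn_of_dvd_orderOf (g := g) hr hu (hg ▸ hhalf r hr hr2 (hfac ▸ hrn.mul_left _))
        (hg ▸ hhalf u hu hu2 (hfac ▸ huq.mul_right _))
    have hun := (isol_of_ip (h2.congr e)).conn hrn key
    exact not_both_three hu huq hun
  · rcases h0 with h0 | h0 <;> rw [h0] at h3f <;> omega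
  · subst h
    have ht' : f * 6 = 6 * k := ht
    have : f = 1 := by
      by_contra hne
      have : 3 ^ 2 ≤ 3 ^ f := Nat.pow_le_pow_right (by norm_num) (by omega)
      omega
    omega
  · rw [h0] at h3f
    omega
  · subst h
    obtain ⟨e, he, he1, he2⟩ := second_ominus H (N := 6 * k) (by omega) ht
    have := hA he
    omega
  · subst h
    have ht' : f * 6 = 6 * k := ht
    have : f = k := by omega
    rwa [this] at hIs
  · subst h
    have ht' : f * 12 = 6 * k := ht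
    have := hA (H.in_mul (d := 8) (by norm_num) (by omega) (show 8 ∣ 2 ∨ _ by norm_num))
    omega
  · subst h
    have ht' : f * 18 = 6 * k := ht
    have := hA (H.in_mul (d := 14) (by norm_num) (by omega) (show 14 ∣ 2 ∨ _ by norm_num))
    omega
  · subst h
    have ht' : f * 30 = 6 * k := ht
    have := hA (H.in_mul (d := 24) (by norm_num) (by omega) (show 24 ∣ 2 ∨ _ by norm_num))
    omega
  · subst h
    have ht' : f * 18 = 6 * k := ht
    have := hA (H.in_mul (d := 10) (by norm_num) (by omega) (show 10 ∣ 2 ∨ _ by norm_num))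
    omega
  · subst h
    exact absurd hIs.1 (by norm_num)
  · subst h
    have ht' : f * 6 = 6 * k := ht
    have := K_ree (cls_of (a := 3) (b := 1) (d := 3) hk1 H (by omega) (by norm_num) (by norm_num) i3)
    omega
  · subst h
    exact absurd hIs.1 (by norm_num)

end Cfsg.Agent.H200.PG
end

-- part: H200/PG/FamIso
section
/-!
# Two groups of the same family over fields of the same order are isomorphic (helper200)

* `real_of_is` : `Fam.Is p f S fam` gives `OrdDiv.Real (nm (p ^ f) fam) S`;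
* `iso_fam` : uniqueness.
-/

set_option autoImplicit false

namespace Cfsg.Agent.H200.PG

open Cfsg Cfsg.Agent.OrdDiv
open Cfsg.Agent.H200.STwo

universe u v

theorem real_of_is {p f : ℕ} {S : Type u} [Group S] {fam : H426.LieFam.Fam} (h : fam.Is p f S) :
    OrdDiv.Real (nm (p ^ f) fam) S := by
  cases fam with
  | psl n =>
    obtain ⟨-, -, F, _, _, _, hF, e⟩ := h
    exact ⟨F, _, _, hF, e⟩
  | psp n =>
    obtain ⟨-, -, F, _, _, _, hF, e⟩ := h
    exact ⟨F, _, _, hF, e⟩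
  | psu n =>
    obtain ⟨-, -, F, _, _, _, hF, e⟩ := h
    exact ⟨F, _, _, hF, e⟩
  | oodd n =>
    obtain ⟨-, -, F, _, _, _, hF, e⟩ := h
    exact ⟨F, _, _, hF, e⟩
  | oplus n =>
    obtain ⟨-, F, _, _, _, hF, e⟩ := h
    exact ⟨F, _, _, hF, e⟩
  | ominus n =>
    obtain ⟨-, F, _, _, _, a, b, hF, hab, e⟩ := h
    exact ⟨F, _, _, a, b, hF, hab, e⟩
  | g2 =>
    obtain ⟨-, F, _, _, _, hF, e⟩ := h
    exact ⟨F, _, _, hF, e⟩
  | f4 =>
    obtain ⟨F, _, _, _, hF, e⟩ := h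
    exact ⟨F, _, _, hF, e⟩
  | e6 =>
    obtain ⟨F, _, _, _, hF, e⟩ := h
    exact ⟨F, _, _, hF, e⟩
  | e7 =>
    obtain ⟨F, _, _, _, hF, e⟩ := h
    exact ⟨F, _, _, hF, e⟩
  | e8 =>
    obtain ⟨F, _, _, _, hF, e⟩ := h
    exact ⟨F, _, _, hF, e⟩
  | te6 =>
    obtain ⟨F, _, _, _, hF, e⟩ := h
    exact ⟨F, _, _, hF, e⟩
  | td4 =>
    obtain ⟨F, _, _, _, hF, e⟩ := h
    exact ⟨F, _, _, hF, e⟩
  | sz =>
    obtain ⟨rfl, m, hm, rfl, F, _, _, hF, e⟩ := h
    exact ⟨F, _, _, m, hm, hF, rfl, e⟩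
  | tf4 =>
    obtain ⟨rfl, m, hm, rfl, F, _, _, hF, e⟩ := h
    exact ⟨F, _, _, m, hm, hF, rfl, e⟩
  | ree =>
    obtain ⟨rfl, m, hm, rfl, F, _, _, hF, e⟩ := h
    exact ⟨F, _, _, m, hm, hF, rfl, e⟩

/-- **same family, same field order: isomorphic** -/
theorem iso_fam {p f : ℕ} {S : Type u} [Group S] {T : Type v} [Group T] {fam : H426.LieFam.Fam} (h : fam.Is p f S)
    (h' : fam.Is p f T) : Nonempty (S ≃* T) :=
  H902.Iso.real_unique _ (real_of_is h) (real_of_is h')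

end Cfsg.Agent.H200.PG
end

-- part: H200/PG/Ident
section
/-!
# The identification for S3635, `S` of Lie type in the characteristic of `L` (helper200)

* `iso_f4`, `iso_tf4`, `iso_g2` : `S ≃* L`.
-/

set_option autoImplicit false

namespace Cfsg.Agent.H200.PG

open Cfsg
open Cfsg.Agent.H415.PG3 (Ip)

universe u v

variable {k : ℕ} {L : Type v} [Group L] [Finite L] {S : Type u} [Group S] [Finite S]

/-- **`L = F₄(2^k)`** -/
theorem iso_f4 (hk : 1 ≤ k) (hL : H426.LieFam.Fam.Is 2 k L .f4) (hl : IsLieTypeChar 2 S)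
    (hπ : ∀ r : ℕ, r.Prime → r ∣ Nat.card S → r ∣ Nat.card L) (h1 : Ip S ((2 ^ k) ^ 4 + 1))
    (h2 : Ip S ((2 ^ k) ^ 4 - (2 ^ k) ^ 2 + 1)) (hc : Nat.Coprime ((2 ^ k) ^ 4 + 1) ((2 ^ k) ^ 4 - (2 ^ k) ^ 2 + 1)) :
    Nonempty (S ≃* L) :=
  iso_fam (same_f4 hk hL hl hπ h1 h2 hc) hL

/-- **`L = ²F₄(2^k)`** -/
theorem iso_tf4 (hk : 3 ≤ k) (hL : H426.LieFam.Fam.Is 2 k L .tf4) (hl : IsLieTypeChar 2 S)
    (hπ : ∀ r : ℕ, r.Prime → r ∣ Nat.card S → r ∣ Nat.card L) {n₁ n₂ : ℕ} (h1 : Ip S n₁) (h2 : Ip S n₂)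
    (hn : n₁ * n₂ = (2 ^ k) ^ 4 - (2 ^ k) ^ 2 + 1) (hc : Nat.Coprime n₁ n₂) : Nonempty (S ≃* L) :=
  iso_fam (same_tf4 hk hL hl hπ h1 h2 hn hc) hL

/-- **`L = G₂(3^k)`** -/
theorem iso_g2 (hk : 2 ≤ k) (hL : H426.LieFam.Fam.Is 3 k L .g2) (hl : IsLieTypeChar 3 S) (he : 2 ∣ Nat.card S)
    (hπ : ∀ r : ℕ, r.Prime → r ∣ Nat.card S → r ∣ Nat.card L) (h1 : Ip S ((3 ^ k) ^ 2 + 3 ^ k + 1))
    (h2 : Ip S ((3 ^ k) ^ 2 - 3 ^ k + 1)) (hc : Nat.Coprime ((3 ^ k) ^ 2 + 3 ^ k + 1) ((3 ^ k) ^ 2 - 3 ^ k + 1)) :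
    Nonempty (S ≃* L) :=
  iso_fam (same_g2 hk hL hl he hπ h1 h2 hc) hL

end Cfsg.Agent.H200.PG
end

private theorem dce_bf43c886f14f : _root_.True := by
  try have : _root_.True := by simp only [_root_.Cfsg.Agent.OrdDiv.glN.eq_1]
  exact _root_.True.intro
end

-- part: H72/PGF/Basic_mg
section
prune_inst 0x300045007b2202000000051692000034040004900020000080a001420809c320490221000e8010000048028010050000024c00d0424000000e000000000501209000500013100c0404008f800004000000000000000000000000000000000004000000000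
set_option linter.all false
open scoped Cfsg.Agent.FastGrp

-- part: H72/PGF/Basic
section
/-!
# Prime graph of `F₄(2^k)`: the situation (helper72, statement S3635)

`PS q S`, `q = 2^k` : `q⁴ + 1` and `mm q = q⁴ - q² + 1` are isolated in the prime graph of `S`, the primes of `|S|` divide
`q (q⁸ - 1) (q¹² - 1)`.
-/

set_option autoImplicit false
set_option linter.unusedSectionVars false

namespace Cfsg.Agent.H72.PGF

open Cfsg.Agent.H72.F4I Cfsg.Agent.H200.PG Cfsg.Agent.H564.NearTwo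

/-- the situation -/
structure PS (q : ℕ) (S : Type*) [Group S] : Prop where
  two : ∃ k : ℕ, 1 ≤ k ∧ q = 2 ^ k
  i₁ : Isol S (q ^ 4 + 1)
  i₂ : Isol S (mm q)
  pi : ∀ r : ℕ, r.Prime → r ∣ Nat.card S → r ∣ q ∨ r ∣ q ^ 8 - 1 ∨ r ∣ q ^ 12 - 1
  /-- the primes of `q⁴ + 1` are pairwise adjacent -/
  clq : ∀ r s : ℕ, r.Prime → s.Prime → r ≠ s → r ∣ q ^ 4 + 1 → s ∣ q ^ 4 + 1 → ∃ x : S, orderOf x = r * s

universe u v

theorem Isol.congr {S : Type u} {S' : Type v} [Group S] [Group S'] {n : ℕ} (h : Isol S n) (e : S ≃* S') :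
    Isol S' n where
  odd := h.odd
  dvd r hr hrn := by
    rw [← Nat.card_congr e.toEquiv]
    exact h.dvd r hr hrn
  nadj r s hr hs hrn hsn := fun ⟨x, hx⟩ => h.nadj r s hr hs hrn hsn ⟨e.symm x, by rw [MulEquiv.orderOf_eq, hx]⟩

/-- `N` an element order divisible by a prime of `n` : the primes of `N` divide `n` -/
theorem Isol.prime_of_elt {S : Type*} [Group S] [Finite S] {n N : ℕ} (h : Isol S n) (hN : ∃ x : S, orderOf x = N)
    {r s : ℕ} (hr : r.Prime) (hrn : r ∣ n) (hrN : r ∣ N) (hs : s.Prime) (hsN : s ∣ N) : s ∣ n := by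
  by_contra hsn
  have hne : r ≠ s := by
    rintro rfl
    exact hsn hrn
  obtain ⟨x, rfl⟩ := hN
  have h1 : r * s ∣ orderOf x := ((Nat.coprime_primes hr hs).2 hne).mul_dvd_of_dvd_of_dvd hrN hsN
  refine h.nadj r s hr hs hrn hsn ⟨x ^ (orderOf x / (r * s)), ?_⟩
  exact orderOf_pow_orderOf_div (orderOf_pos x).ne' h1

theorem Isol.not_near {S : Type*} [Group S] {n : ℕ} (h : Isol S n) {s : ℕ} (hs : s ∣ n) : ¬ Near S s := by
  have adj : ∀ {a b : ℕ}, a ∣ n → H94.PG.Adj S a b → b ∣ n := by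
    rintro a b ha ⟨h1, h2, hne, x, y, hx, hy, hxy⟩
    by_contra hb
    have hco : (orderOf x).Coprime (orderOf y) := by rw [hx, hy]; exact (Nat.coprime_primes h1 h2).2 hne
    have h3 := hxy.orderOf_mul_eq_mul_orderOf_of_coprime hco
    rw [hx, hy] at h3
    exact h.nadj a b h1 h2 ha hb ⟨x * y, h3⟩
  rintro (h1 | h1 | ⟨r, h1, h2⟩)
  · exact h.ne_two hs h1
  · exact h.ne_two (adj hs h1) rfl
  · exact h.ne_two (adj (adj hs h1) h2) rfl

/-! ### numbers -/

section num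

variable {q : ℕ}

/-- a number `≢ 1` modulo `m` with all prime divisors `≡ 1`: impossible -/
theorem mod_one_of_primes {m n : ℕ} (hn : n ≠ 0) (h : ∀ r : ℕ, r.Prime → r ∣ n → r ≡ 1 [MOD m]) : n ≡ 1 [MOD m] := by
  induction n using Nat.recOnMul with
  | zero => exact absurd rfl hn
  | one => exact Nat.ModEq.rfl
  | prime p hp => exact h p hp dvd_rfl
  | mul a b ha hb =>
    have ha0 : a ≠ 0 := by rintro rfl; simp at hn
    have hb0 : b ≠ 0 := by rintro rfl; simp at hn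
    have h1 := ha ha0 fun r hr hd => h r hr (hd.mul_right b)
    have h2 := hb hb0 fun r hr hd => h r hr (hd.mul_left a)
    simpa using h1.mul h2

theorem exists_prime_of_mod {m n : ℕ} (hn : n ≠ 0) (h : ¬ n ≡ 1 [MOD m]) : ∃ r : ℕ, r.Prime ∧ r ∣ n ∧ ¬ r ≡ 1 [MOD m] := by
  by_contra hcon
  push Not at hcon
  exact h (mod_one_of_primes hn hcon)

theorem exists_mod_three {k : ℕ} : ∃ r : ℕ, r.Prime ∧ r ∣ (2 ^ k) ^ 4 + 1 ∧ ¬ r ≡ 1 [MOD 3] := by
  refine exists_prime_of_mod (by omega) ?_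
  rw [← pow_mul, mul_comm, pow_mul]
  intro h
  have h1 : (2 ^ 4) ^ k ≡ 1 ^ k [MOD 3] := Nat.ModEq.pow k (by decide)
  rw [one_pow] at h1
  have h2 := (h1.add_right 1).symm.trans h
  revert h2
  decide

theorem exists_mod_five {k : ℕ} : ∃ r : ℕ, r.Prime ∧ r ∣ (2 ^ k) ^ 4 + 1 ∧ ¬ r ≡ 1 [MOD 5] := by
  refine exists_prime_of_mod (by omega) ?_
  rw [← pow_mul, mul_comm, pow_mul]
  intro h
  have h1 : (2 ^ 4) ^ k ≡ 1 ^ k [MOD 5] := Nat.ModEq.pow k (by decide)
  rw [one_pow] at h1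
  have h2 := (h1.add_right 1).symm.trans h
  revert h2
  decide

end num

namespace PS

variable {q : ℕ} {S : Type*} [Group S]

theorem congr {S' : Type*} [Group S'] (h : PS q S) (e : S ≃* S') : PS q S' where
  two := h.two
  i₁ := Isol.congr h.i₁ e
  i₂ := Isol.congr h.i₂ e
  pi r hr hd := h.pi r hr (by rwa [Nat.card_congr e.toEquiv])
  clq r s hr hs hne h1 h2 := by
    obtain ⟨x, hx⟩ := h.clq r s hr hs hne h1 h2
    exact ⟨e x, by rw [MulEquiv.orderOf_eq, hx]⟩

variable (h : PS q S)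

include h

theorem two_le : 2 ≤ q := by
  obtain ⟨k, hk, rfl⟩ := h.two
  calc 2 = 2 ^ 1 := rfl
    _ ≤ 2 ^ k := Nat.pow_le_pow_right (by norm_num) hk

theorem even : 2 ∣ q := by
  obtain ⟨k, hk, rfl⟩ := h.two
  exact dvd_pow_self 2 (by omega)

theorem odd_four : ¬ 2 ∣ q ^ 4 + 1 := by
  intro h1
  have h2 := (Nat.dvd_add_right (dvd_pow h.even (by norm_num : (4 : ℕ) ≠ 0))).1 h1
  omega

/-- primes of `n₁ = q⁴ + 1` -/
theorem mod_eight {s : ℕ} (hs : s.Prime) (hd : s ∣ q ^ 4 + 1) : s % 8 = 1 :=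
  prime_eight hs (by rintro rfl; exact h.odd_four hd) hd

theorem ge_seventeen {s : ℕ} (hs : s.Prime) (hd : s ∣ q ^ 4 + 1) : 17 ≤ s :=
  prime_eight_ge hs (by rintro rfl; exact h.odd_four hd) hd

/-- primes of `n₂ = q⁴ - q² + 1` -/
theorem mod_twelve {s : ℕ} (hs : s.Prime) (hd : s ∣ mm q) : s % 12 = 1 :=
  prime_mm (by have := h.two_le; omega) hs hd

theorem ge_thirteen {s : ℕ} (hs : s.Prime) (hd : s ∣ mm q) : 13 ≤ s :=
  prime_mm_ge (by have := h.two_le; omega) hs hd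

theorem not_both {s : ℕ} (hs : s.Prime) (h1 : s ∣ mm q) : ¬ s ∣ q ^ 4 + 1 :=
  not_dvd_both (by have := h.two_le; omega) hs h1

theorem three : ∃ r : ℕ, r.Prime ∧ r ∣ q ^ 4 + 1 ∧ ¬ r ≡ 1 [MOD 3] := by
  obtain ⟨k, -, rfl⟩ := h.two
  exact exists_mod_three

theorem five : ∃ r : ℕ, r.Prime ∧ r ∣ q ^ 4 + 1 ∧ ¬ r ≡ 1 [MOD 5] := by
  obtain ⟨k, -, rfl⟩ := h.two
  exact exists_mod_five

theorem exists_prime_two : ∃ r : ℕ, r.Prime ∧ r ∣ mm q := by
  have := mm_ge h.two_le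
  exact Nat.exists_prime_and_dvd (by omega)

end PS

end Cfsg.Agent.H72.PGF
end

-- part: H203/GI/Arith
section
/-!
# Arithmetic of `q² + q + 1`, `q² - q + 1`, `q = 3 ^ k` (helper203, for S3635)
-/

set_option autoImplicit false

namespace Cfsg.Agent.H203.GI

/-- prime divisors of `x² + x + 1` -/
theorem mod_three {x : ℤ} {r : ℕ} (hr : r.Prime) (h3 : r ≠ 3) (h : (r : ℤ) ∣ x ^ 2 + x + 1) : 3 ∣ r - 1 := by
  have : Fact r.Prime := ⟨hr⟩
  have h1 : ((x : ZMod r)) ^ 2 + x + 1 = 0 := by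
    have := (ZMod.intCast_zmod_eq_zero_iff_dvd (x ^ 2 + x + 1) r).2 h
    push_cast at this
    exact this
  have h2 : (x : ZMod r) ^ 3 = 1 := by
    have : (x : ZMod r) ^ 3 - 1 = (x - 1) * ((x : ZMod r) ^ 2 + x + 1) := by ring
    rw [h1, mul_zero, sub_eq_zero] at this
    exact this
  have h4 : (x : ZMod r) ≠ 1 := by
    intro h4
    rw [h4] at h1
    have h5 : ((3 : ℕ) : ZMod r) = 0 := by
      push_cast
      linear_combination h1
    rw [ZMod.natCast_eq_zero_iff] at h5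
    exact h3 ((Nat.prime_dvd_prime_iff_eq hr Nat.prime_three).1 h5)
  have h5 : orderOf (x : ZMod r) = 3 := orderOf_eq_prime h2 h4
  have h6 : (x : ZMod r) ≠ 0 := by
    intro h6
    rw [h6] at h2
    norm_num at h2
  rw [← h5]
  exact ZMod.orderOf_dvd_card_sub_one h6

/-- the two numbers -/
def n₁ (k : ℕ) : ℕ := (3 ^ k) ^ 2 + 3 ^ k + 1
def n₂ (k : ℕ) : ℕ := (3 ^ k) ^ 2 - 3 ^ k + 1

theorem cast_n₁ (k : ℕ) : (n₁ k : ℤ) = ((3 : ℤ) ^ k) ^ 2 + 3 ^ k + 1 := by
  rw [n₁]; push_cast; ring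

theorem le_sq (k : ℕ) : 3 ^ k ≤ (3 ^ k) ^ 2 := Nat.le_self_pow (by norm_num) _

theorem cast_n₂ (k : ℕ) : (n₂ k : ℤ) = ((3 : ℤ) ^ k) ^ 2 - 3 ^ k + 1 := by
  rw [n₂]; push_cast [le_sq]; ring

theorem odd_n₁ (k : ℕ) : n₁ k % 2 = 1 := by
  have h : Odd (3 ^ k) := Odd.pow (by decide)
  obtain ⟨m, hm⟩ := h
  rw [n₁, hm]
  have : (2 * m + 1) ^ 2 + (2 * m + 1) + 1 = 2 * (2 * m ^ 2 + 3 * m + 1) + 1 := by ring
  omega

theorem odd_n₂ (k : ℕ) : n₂ k % 2 = 1 := by
  have h : Odd (3 ^ k) := Odd.pow (by decide)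
  obtain ⟨m, hm⟩ := h
  rw [n₂, hm]
  have : (2 * m + 1) ^ 2 = 2 * (2 * m ^ 2 + m) + (2 * m + 1) := by ring
  omega

theorem three_n₁ {k : ℕ} (hk : 1 ≤ k) : n₁ k % 3 = 1 := by
  obtain ⟨j, rfl⟩ : ∃ j, k = j + 1 := ⟨k - 1, by omega⟩
  have h1 : ((n₁ (j + 1) : ℕ) : ℤ) = 3 * (3 * (3 ^ j) ^ 2 + 3 ^ j) + 1 := by
    rw [cast_n₁, pow_succ]; ring
  omega

theorem three_n₂ {k : ℕ} (hk : 1 ≤ k) : n₂ k % 3 = 1 := by
  obtain ⟨j, rfl⟩ : ∃ j, k = j + 1 := ⟨k - 1, by omega⟩
  have h1 : ((n₂ (j + 1) : ℕ) : ℤ) = 3 * (3 * (3 ^ j) ^ 2 - 3 ^ j) + 1 := by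
    rw [cast_n₂, pow_succ]; ring
  omega

theorem mod_six_of {r n : ℕ} (hr : r.Prime) (ho : n % 2 = 1) (h3 : n % 3 = 1) (hd : r ∣ n)
    (h : ∃ x : ℤ, (n : ℤ) = x ^ 2 + x + 1) : r % 6 = 1 := by
  have hr2 : r ≠ 2 := by rintro rfl; omega
  have hr3 : r ≠ 3 := by rintro rfl; omega
  obtain ⟨x, hx⟩ := h
  have h1 := mod_three hr hr3 (hx ▸ Int.natCast_dvd_natCast.2 hd)
  have h2 : r % 2 = 1 := hr.eq_two_or_odd.resolve_left hr2
  have := hr.two_le
  (clear * - h1 h2; omega)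

theorem mod_six₁ {k r : ℕ} (hk : 1 ≤ k) (hr : r.Prime) (hd : r ∣ n₁ k) : r % 6 = 1 :=
  mod_six_of hr (odd_n₁ k) (three_n₁ hk) hd ⟨3 ^ k, cast_n₁ k⟩

theorem mod_six₂ {k r : ℕ} (hk : 1 ≤ k) (hr : r.Prime) (hd : r ∣ n₂ k) : r % 6 = 1 :=
  mod_six_of hr (odd_n₂ k) (three_n₂ hk) hd ⟨-3 ^ k, by rw [cast_n₂]; ring⟩

theorem coprime_n {k : ℕ} (hk : 1 ≤ k) : Nat.Coprime (n₁ k) (n₂ k) := by
  rw [Nat.coprime_iff_gcd_eq_one]
  by_contra h
  obtain ⟨r, hr, hd⟩ := Nat.exists_prime_and_dvd h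
  have h1 := hd.trans (Nat.gcd_dvd_left _ _)
  have h2 := hd.trans (Nat.gcd_dvd_right _ _)
  have h3 := mod_six₁ hk hr h1
  have h4 : (r : ℤ) ∣ 2 * 3 ^ k := by
    have := dvd_sub (Int.natCast_dvd_natCast.2 h1) (Int.natCast_dvd_natCast.2 h2)
    rw [cast_n₁, cast_n₂] at this
    have e : (((3 : ℤ) ^ k) ^ 2 + 3 ^ k + 1 - ((3 ^ k) ^ 2 - 3 ^ k + 1)) = 2 * 3 ^ k := by ring
    rwa [e] at this
  have h5 : r ∣ 2 * 3 ^ k := by exact_mod_cast h4
  rcases hr.dvd_mul.1 h5 with h6 | h6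
  · have := (Nat.prime_dvd_prime_iff_eq hr Nat.prime_two).1 h6
    omega
  · have := (Nat.prime_dvd_prime_iff_eq hr Nat.prime_three).1 (hr.dvd_of_dvd_pow h6)
    omega

/-- 3-adic size: `y ^ d - 1 = 3 ^ k * c`, `y = 1 mod 3`, `y ≠ 1 mod 9` -/
theorem dvd_exp {y d k : ℕ} (h1 : 3 ∣ y - 1) (h9 : ¬ 9 ∣ y - 1) (hy : 1 < y) (hd : d ≠ 0) (hk : 1 ≤ k)
    (h : 3 ^ k ∣ y ^ d - 1) : 3 ^ (k - 1) ∣ d := by
  have : Fact (Nat.Prime 3) := ⟨Nat.prime_three⟩
  have hyk : 1 < y ^ d := Nat.one_lt_pow hd hy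
  have h3y : ¬ 3 ∣ y := by omega
  have key := padicValNat.pow_sub_pow (p := 3) (x := y) (y := 1) (by decide) hy h1 h3y hd
  rw [one_pow] at key
  have e1 : padicValNat 3 (y - 1) = 1 := by
    apply le_antisymm
    · by_contra hc
      exact h9 ((padicValNat_dvd_iff_le (p := 3) (n := 2) (by omega)).2 (by omega))
    · exact (padicValNat_dvd_iff_le (p := 3) (n := 1) (by omega)).1 (by simpa only [_root_.pow_one] using h1)
  have h2 : k ≤ padicValNat 3 (y ^ d - 1) := (padicValNat_dvd_iff_le (by omega)).1 h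
  exact (padicValNat_dvd_iff_le hd).2 (by omega)

theorem size {x : ℕ} (hx : 3 ≤ x) : 3 * x * (3 * x + 1) < 2 * (4 ^ x - 1) := by
  have key : 3 * x * (3 * x + 1) + 2 < 2 * 4 ^ x := by
    induction x, hx using Nat.le_induction with
    | base => norm_num
    | succ n hn ih =>
      rw [pow_succ]
      nlinarith
  omega

/-- `X (X + 1) = 2 (7 ^ c - 1)`, `X = ± 3 ^ k` -/
theorem no_seven {k c : ℕ} (hk : 2 ≤ k) (h : 3 ^ k * (3 ^ k + 1) = 2 * (7 ^ c - 1) ∨
    3 ^ k * (3 ^ k - 1) = 2 * (7 ^ c - 1)) : False := by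
  have h9 : 3 ^ 2 ≤ 3 ^ k := Nat.pow_le_pow_right (by norm_num) hk
  have hc : c ≠ 0 := by
    rintro rfl
    rcases h with h | h
    · have : 0 < 3 ^ k * (3 ^ k + 1) := by positivity
      simp at h
    · have : 0 < 3 ^ k * (3 ^ k - 1) := Nat.mul_pos (by omega) (by omega)
      rw [h] at this
      simp at this
  have hd : 3 ^ k ∣ 7 ^ c - 1 := by
    have h1 : 3 ^ k ∣ 2 * (7 ^ c - 1) := by
      rcases h with h | h
      · rw [← h]; exact dvd_mul_right _ _
      · rw [← h]; exact dvd_mul_right _ _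
    exact (Nat.Coprime.pow_left k (by norm_num : Nat.Coprime 3 2)).dvd_of_dvd_mul_left h1
  have h2 := dvd_exp (by norm_num) (by norm_num) (by norm_num) hc (by omega) hd
  have h3 : 3 ^ (k - 1) ≤ c := Nat.le_of_dvd (by omega) h2
  have h4 : 3 ≤ 3 ^ (k - 1) := by
    calc 3 = 3 ^ 1 := by norm_num
      _ ≤ _ := Nat.pow_le_pow_right (by norm_num) (by omega)
  have h5 := size h4
  have h6 : 3 * 3 ^ (k - 1) = 3 ^ k := by
    rw [← pow_succ']
    congr 1
    omega
  rw [h6] at h5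
  have h7 : 4 ^ 3 ^ (k - 1) ≤ 7 ^ c :=
    (Nat.pow_le_pow_left (by norm_num) _).trans (Nat.pow_le_pow_right (by norm_num) h3)
  have h8 : 3 ^ k * (3 ^ k - 1) ≤ 3 ^ k * (3 ^ k + 1) := Nat.mul_le_mul_left _ (by omega)
  omega

/-- `X (X + 1) = 2 (2 ^ c - 1)`, `X = ± 3 ^ k` -/
theorem no_two {k c : ℕ} (hk : 2 ≤ k) (h : 3 ^ k * (3 ^ k + 1) = 2 * (2 ^ c - 1) ∨
    3 ^ k * (3 ^ k - 1) = 2 * (2 ^ c - 1)) : False := by
  have h9 : 3 ^ 2 ≤ 3 ^ k := Nat.pow_le_pow_right (by norm_num) hk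
  have hd : 3 ^ k ∣ 2 ^ c - 1 := by
    have h1 : 3 ^ k ∣ 2 * (2 ^ c - 1) := by
      rcases h with h | h
      · rw [← h]; exact dvd_mul_right _ _
      · rw [← h]; exact dvd_mul_right _ _
    exact (Nat.Coprime.pow_left k (by norm_num : Nat.Coprime 3 2)).dvd_of_dvd_mul_left h1
  have he : Even c := by
    by_contra ho
    rw [Nat.not_even_iff_odd] at ho
    obtain ⟨m, rfl⟩ := ho
    have h3 : 3 ∣ 2 ^ (2 * m + 1) - 1 := (dvd_pow_self 3 (by omega)).trans hd
    have h4 : 2 ^ (2 * m + 1) % 3 = 2 := by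
      rw [pow_succ, pow_mul, Nat.mul_mod, Nat.pow_mod]
      norm_num
    clear hd h
    generalize 2 ^ (2 * m + 1) = z at *
    omega
  obtain ⟨d, rfl⟩ := he
  have e4 : 2 ^ (d + d) = 4 ^ d := by
    rw [← two_mul, pow_mul]; norm_num
  rw [e4] at hd h
  have hd0 : d ≠ 0 := by
    rintro rfl
    rcases h with h | h
    · have : 0 < 3 ^ k * (3 ^ k + 1) := by positivity
      simp at h
    · have : 0 < 3 ^ k * (3 ^ k - 1) := Nat.mul_pos (by omega) (by omega)
      rw [h] at this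
      simp at this
  have h2 := dvd_exp (y := 4) (by norm_num) (by norm_num) (by norm_num) hd0 (by omega) hd
  have h3 : 3 ^ (k - 1) ≤ d := Nat.le_of_dvd (by omega) h2
  have h4 : 3 ≤ 3 ^ (k - 1) := by
    calc 3 = 3 ^ 1 := by norm_num
      _ ≤ _ := Nat.pow_le_pow_right (by norm_num) (by omega)
  have h5 := size h4
  have h6 : 3 * 3 ^ (k - 1) = 3 ^ k := by
    rw [← pow_succ']
    congr 1
    omega
  rw [h6] at h5
  have h7 : 4 ^ 3 ^ (k - 1) ≤ 4 ^ d := Nat.pow_le_pow_right (by norm_num) h3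
  have h8 : 3 ^ k * (3 ^ k - 1) ≤ 3 ^ k * (3 ^ k + 1) := Nat.mul_le_mul_left _ (by omega)
  omega

/-- `n₁`, `n₂` are not proper prime powers -/
theorem prime_power {k t a n : ℕ} (hk : 2 ≤ k) (ht : t.Prime) (ht6 : t % 6 = 1) (ha : a ≠ 0) (hn : n = n₁ k ∨ n = n₂ k)
    (h : t ^ a = n) : a = 1 := by
  have : Fact (Nat.Prime 3) := ⟨Nat.prime_three⟩
  have hq9 : 3 ^ 2 ≤ 3 ^ k := Nat.pow_le_pow_right (by norm_num) hk
  have ht7 : 7 ≤ t := by
    have := ht.two_le
    omega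
  -- `n - 1 = 3 ^ k * m`
  obtain ⟨m, hm, hm3, hm0⟩ : ∃ m, n - 1 = 3 ^ k * m ∧ ¬ 3 ∣ m ∧ m ≤ 3 ^ k + 1 := by
    have h3k : 3 ∣ 3 ^ k := dvd_pow_self 3 (by omega)
    rcases hn with rfl | rfl
    · refine ⟨3 ^ k + 1, ?_, by omega, le_rfl⟩
      rw [n₁]
      have : (3 ^ k) ^ 2 + 3 ^ k = 3 ^ k * (3 ^ k + 1) := by ring
      omega
    · refine ⟨3 ^ k - 1, ?_, by omega, by omega⟩
      rw [n₂, Nat.mul_sub, mul_one, Nat.add_sub_cancel, sq]
  have hm1 : m ≠ 0 := by
    rintro rfl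
    exact hm3 (dvd_zero _)
  have hval : padicValNat 3 (n - 1) = k := by
    rw [hm, padicValNat.mul (by positivity) hm1, padicValNat.prime_pow, padicValNat.eq_zero_of_not_dvd hm3, add_zero]
  have key := padicValNat.pow_sub_pow (p := 3) (x := t) (y := 1) (by decide) (by omega) (by omega) (by omega) ha
  rw [one_pow, h, hval] at key
  -- sizes
  set b := padicValNat 3 a with hb
  set c := padicValNat 3 (t - 1) with hc
  have hc1 : 1 ≤ c := (padicValNat_dvd_iff_le (p := 3) (n := 1) (by omega)).1 (by rw [pow_one]; omega)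
  have hta : 2 * 3 ^ c + 1 ≤ t := by
    have h1 : 3 ^ c ∣ t - 1 := pow_padicValNat_dvd
    have h2 : 2 ∣ t - 1 := by omega
    have h3 : 2 * 3 ^ c ∣ t - 1 := (Nat.Coprime.pow_right c (by norm_num : Nat.Coprime 2 3)).mul_dvd_of_dvd_of_dvd h2 h1
    have := Nat.le_of_dvd (by omega) h3
    omega
  have hba : 3 ^ b ≤ a := Nat.le_of_dvd (by omega) pow_padicValNat_dvd
  have hnle : n ≤ (3 ^ k) ^ 2 + 3 ^ k + 1 := by
    rcases hn with rfl | rfl
    · exact le_rfl
    · rw [n₂]; omega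
  by_contra ha1
  rcases Nat.eq_zero_or_pos b with hb0 | hb0
  · -- `b = 0`
    rw [hb0, add_zero] at key
    have h1 : (2 * 3 ^ c + 1) ^ 2 ≤ n := by
      rw [← h]
      exact (Nat.pow_le_pow_left hta 2).trans (Nat.pow_le_pow_right (by omega) (by omega))
    rw [← key] at h1
    linarith only [hq9, hnle, h1, _root_.sq_nonneg (3 ^ k : ℤ)]
  · -- `b ≥ 1`
    have h1 : (2 * 3 ^ c + 1) ^ (3 ^ b) ≤ n := by
      rw [← h]
      exact (Nat.pow_le_pow_left hta _).trans (Nat.pow_le_pow_right (by omega) hba)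
    have hn3 : n < 3 ^ (2 * k + 1) := by
      have : 3 ^ (2 * k + 1) = 3 * (3 ^ k) ^ 2 := by
        rw [pow_succ, mul_comm, ← pow_mul, mul_comm k 2]
      rw [this]
      nlinarith only [hq9, hnle]
    have hb3 : 3 ≤ 3 ^ b := by
      calc 3 = 3 ^ 1 := by norm_num
        _ ≤ _ := Nat.pow_le_pow_right (by norm_num) hb0
    by_cases hs : b = 1 ∧ c = 1
    · obtain ⟨hb1, hc1⟩ := hs
      have hk2 : k = 2 := by omega
      subst hk2
      rw [hb1, hc1] at h1
      norm_num at h1 hn3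
      omega
    · -- `3 ^ (c 3^b + 1) ≤ (2 * 3 ^ c) ^ (3 ^ b)`
      have h2 : 3 ^ (c * 3 ^ b + 1) ≤ (2 * 3 ^ c + 1) ^ (3 ^ b) := by
        calc 3 ^ (c * 3 ^ b + 1) = 3 * (3 ^ c) ^ (3 ^ b) := by rw [pow_succ, mul_comm, pow_mul]
          _ ≤ 2 ^ (3 ^ b) * (3 ^ c) ^ (3 ^ b) := by
            apply Nat.mul_le_mul_right
            calc 3 ≤ 2 ^ 3 := by norm_num
              _ ≤ _ := Nat.pow_le_pow_right (by norm_num) hb3
          _ = (2 * 3 ^ c) ^ (3 ^ b) := by rw [mul_pow]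
          _ ≤ _ := Nat.pow_le_pow_left (by omega) _
      have h3 : 2 * k ≤ c * 3 ^ b := by
        rw [key]
        have h4 : 2 * b + 1 ≤ 3 ^ b := by
          clear hs h2 h1 hn3 hba key hb
          have : ∀ b : ℕ, 2 * b + 1 ≤ 3 ^ b := by
            intro b
            induction b with
            | zero => norm_num
            | succ n ih =>
              rw [pow_succ]
              omega
          exact this b
        rcases Nat.lt_or_ge b 2 with hb2 | hb2
        · have : b = 1 := by omega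
          rw [this]
          norm_num
          (clear * - hk key hs hb2; omega)
        · have h5 : 2 * b + 2 ≤ 3 ^ b := by
            have : ∀ b : ℕ, 2 ≤ b → 2 * b + 2 ≤ 3 ^ b := by
              intro b hb
              induction b, hb using Nat.le_induction with
              | base => norm_num
              | succ n hn ih =>
                rw [pow_succ]
                omega
            exact this b hb2
          nlinarith only [hc1, h5]
      have h4 : 3 ^ (2 * k + 1) ≤ 3 ^ (c * 3 ^ b + 1) := Nat.pow_le_pow_right (by norm_num) (by omega)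
      omega

/-- a prime power among `n₁`, `n₂` is a prime `≥ 73` -/
theorem size_prime {k t a n : ℕ} (hk : 2 ≤ k) (ht : t.Prime) (ht6 : t % 6 = 1) (ha : a ≠ 0) (hn : n = n₁ k ∨ n = n₂ k)
    (h : t ^ a = n) : t = n ∧ 73 ≤ t := by
  have h1 := prime_power hk ht ht6 ha hn h
  subst h1
  rw [pow_one] at h
  subst h
  refine ⟨rfl, ?_⟩
  have hq9 : 3 ^ 2 ≤ 3 ^ k := Nat.pow_le_pow_right (by norm_num) hk
  rcases hn with hn | hn
  · rw [hn, n₁]
    nlinarith only [hq9]
  · rw [hn, n₂]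
    have : 9 * 3 ^ k ≤ (3 ^ k) ^ 2 := by
      rw [sq]
      exact Nat.mul_le_mul_right _ hq9
    omega

end Cfsg.Agent.H203.GI
end

-- part: H203/GI/Base
section
/-!
# The hypotheses on the simple group `S` (helper203, for S3635, `L = G₂(3^k)`)

* `Clq S n` : the primes of `n` are pairwise adjacent in the prime graph of `S`;
* `Hyp k S`, `Hyp.conn`, `Hyp.exists_pair`, `Hyp.no_list`.
-/

set_option autoImplicit false

namespace Cfsg.Agent.H203.GI

open Cfsg.Agent.H493.PG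
open Cfsg.Agent.H415.PG3 (Ip)
open Cfsg.Agent.H200.PG (Isol Tri)

universe u v

/-- the primes of `n` are pairwise adjacent -/
def Clq (S : Type u) [Group S] (n : ℕ) : Prop :=
  ∀ r s : ℕ, r.Prime → s.Prime → r ≠ s → r ∣ n → s ∣ n → ∃ x : S, orderOf x = r * s

theorem Clq.congr {S : Type u} {S' : Type v} [Group S] [Group S'] {n : ℕ} (h : Clq S n) (e : S ≃* S') : Clq S' n := by
  intro r s hr hs hne h1 h2
  obtain ⟨x, hx⟩ := h r s hr hs hne h1 h2
  exact ⟨e x, by rw [MulEquiv.orderOf_eq, hx]⟩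

/-- the hypotheses -/
structure Hyp (k : ℕ) (S : Type u) [Group S] : Prop where
  hk : 2 ≤ k
  h1 : Ip S (n₁ k)
  h2 : Ip S (n₂ k)
  hπ : ∀ r : ℕ, r.Prime → r ∣ Nat.card S → r = 3 ∨ r ∣ (3 ^ k) ^ 2 - 1 ∨ r ∣ n₁ k ∨ r ∣ n₂ k
  cl : Clq S (n₁ k)

namespace Hyp

variable {k : ℕ} {S : Type u} [Group S]

theorem congr (H : Hyp k S) {S' : Type v} [Group S'] (e : S ≃* S') : Hyp k S' where
  hk := H.hk
  h1 := H.h1.congr e
  h2 := H.h2.congr e
  hπ := by
    intro r hr hd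
    rw [← Nat.card_congr e.toEquiv] at hd
    exact H.hπ r hr hd
  cl := H.cl.congr e

variable (H : Hyp k S)

include H

theorem hk1 : 1 ≤ k := H.hk.trans' (by norm_num)

theorem isol₁ : Isol S (n₁ k) := ⟨Nat.odd_iff.2 (odd_n₁ k), H.h1.dvd, H.h1.iso⟩

theorem isol₂ : Isol S (n₂ k) := ⟨Nat.odd_iff.2 (odd_n₂ k), H.h2.dvd, H.h2.iso⟩

theorem not_both {r : ℕ} (hr : r.Prime) (h1 : r ∣ n₁ k) (h2 : r ∣ n₂ k) : False := by
  have := Nat.dvd_gcd h1 h2
  rw [coprime_n H.hk1] at this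
  exact hr.one_lt.ne' (Nat.dvd_one.1 this)

theorem mod_six {r : ℕ} (hr : r.Prime) (h : r ∣ n₁ k ∨ r ∣ n₂ k) : r % 6 = 1 :=
  h.elim (mod_six₁ H.hk1 hr) (mod_six₂ H.hk1 hr)

theorem dvd_card {r : ℕ} (hr : r.Prime) (h : r ∣ n₁ k ∨ r ∣ n₂ k) : r ∣ Nat.card S :=
  h.elim (H.h1.dvd r hr) (H.h2.dvd r hr)

theorem conn₁ {r s : ℕ} (h : r ∣ n₁ k) (hc : Conn S r s) : s ∣ n₁ k := H.isol₁.conn h hc

theorem conn₂ {r s : ℕ} (h : r ∣ n₂ k) (hc : Conn S r s) : s ∣ n₂ k := H.isol₂.conn h hc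

theorem conn {r s : ℕ} (h : r ∣ n₁ k ∨ r ∣ n₂ k) (hc : Conn S r s) : s ∣ n₁ k ∨ s ∣ n₂ k :=
  h.imp (fun h => H.conn₁ h hc) (fun h => H.conn₂ h hc)

theorem not_two {r : ℕ} (h : r ∣ n₁ k ∨ r ∣ n₂ k) : ¬ Conn S r 2 := by
  intro hc
  have := H.mod_six Nat.prime_two (H.conn h hc)
  omega

theorem ne_two {r : ℕ} (h : r ∣ n₁ k ∨ r ∣ n₂ k) : r ≠ 2 := by
  rintro rfl
  exact H.not_two h (Conn.refl _)

theorem ne_three {r : ℕ} (hr : r.Prime) (h : r ∣ n₁ k ∨ r ∣ n₂ k) : r ≠ 3 := by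
  rintro rfl
  have := H.mod_six hr h
  omega

theorem not_three {r : ℕ} (h : r ∣ n₁ k ∨ r ∣ n₂ k) : ¬ Conn S r 3 := by
  intro hc
  have := H.mod_six Nat.prime_three (H.conn h hc)
  omega

/-- a prime of each -/
theorem exists_pair : ∃ r s : ℕ, r.Prime ∧ s.Prime ∧ r ∣ n₁ k ∧ s ∣ n₂ k ∧ r ∣ Nat.card S ∧ s ∣ Nat.card S ∧
    ¬ Conn S r s := by
  obtain ⟨r, hr, hrn⟩ := Nat.exists_prime_and_dvd H.h1.one_lt.ne'
  obtain ⟨s, hs, hsn⟩ := Nat.exists_prime_and_dvd H.h2.one_lt.ne'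
  exact ⟨r, s, hr, hs, hrn, hsn, H.h1.dvd r hr hrn, H.h2.dvd s hs hsn, fun hc => H.not_both hs (H.conn₁ hrn hc) hsn⟩

theorem tri : Tri S := H.isol₁.tri H.isol₂ H.h1.one_lt.ne' H.h2.one_lt.ne' (coprime_n H.hk1)

/-- at least two primes, if one is small -/
theorem multi {n t : ℕ} (hn : n = n₁ k ∨ n = n₂ k) (ht : t < 73) : ∃ r : ℕ, r.Prime ∧ r ∣ n ∧ r ≠ t := by
  by_contra hc
  push Not at hc
  have hn1 : 1 < n := by
    rcases hn with rfl | rfl
    · exact H.h1.one_lt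
    · exact H.h2.one_lt
  have h1 := Nat.eq_prime_pow_of_unique_prime_dvd (n := n) (p := t) (by omega) fun {d} hd hdn => hc d hd hdn
  obtain ⟨r, hr, hrn⟩ := Nat.exists_prime_and_dvd hn1.ne'
  obtain rfl := hc r hr hrn
  have h6 : r % 6 = 1 := H.mod_six hr (by rcases hn with rfl | rfl <;> (clear * - k r hrn; tauto))
  have h2 := size_prime H.hk hr h6 (a := n.primeFactorsList.length) (by
    intro h0
    rw [h0, pow_zero] at h1
    omega) hn h1.symm
  omega

/-- not only three small primes -/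
theorem no_list {a b c : ℕ} (ha : a < 73) (hb : b < 73) (hc : c < 73)
    (h : ∀ r : ℕ, r.Prime → r ∣ n₁ k ∨ r ∣ n₂ k → r = a ∨ r = b ∨ r = c) : False := by
  obtain ⟨r, hr, hrn⟩ := Nat.exists_prime_and_dvd H.h1.one_lt.ne'
  obtain ⟨s, hs, hsn⟩ := Nat.exists_prime_and_dvd H.h2.one_lt.ne'
  have h3 := h r hr (Or.inl hrn)
  have h4 := h s hs (Or.inr hsn)
  obtain ⟨r', hr', hrn', hne⟩ := H.multi (Or.inl rfl) (t := r) (by omega)
  obtain ⟨s', hs', hsn', hne'⟩ := H.multi (Or.inr rfl) (t := s) (by omega)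
  have h5 := h r' hr' (Or.inl hrn')
  have h6 := h s' hs' (Or.inr hsn')
  have d1 : r ≠ s := by rintro rfl; exact H.not_both hr hrn hsn
  have d2 : r ≠ s' := by rintro rfl; exact H.not_both hr hrn hsn'
  have d3 : r' ≠ s := by rintro rfl; exact H.not_both hr' hrn' hsn
  have d4 : r' ≠ s' := by rintro rfl; exact H.not_both hr' hrn' hsn'
  (clear * - h3 h4 hne hne' h5 h6 d1 d2 d3 d4; omega)

end Hyp

/-! ### congruences of numbers from their prime divisors -/

theorem mul_ind {P : ℕ → Prop} (h1 : P 1) (hm : ∀ a b, P a → P b → P (a * b)) {n : ℕ} (hn : n ≠ 0)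
    (h : ∀ r, r.Prime → r ∣ n → P r) : P n := by
  induction n using Nat.strong_induction_on with
  | _ n ih =>
    by_cases hn1 : n = 1
    · rw [hn1]; exact h1
    · obtain ⟨r, hr, m, rfl⟩ := Nat.exists_prime_and_dvd hn1
      have hm0 : m ≠ 0 := by
        rintro rfl
        exact hn rfl
      refine hm r m (h r hr (dvd_mul_right _ _)) (ih m ?_ hm0 fun s hs hsm => h s hs (hsm.mul_left _))
      have := hr.two_le
      nlinarith [Nat.pos_of_ne_zero hm0]

theorem mod_one {m n : ℕ} (hn : n ≠ 0) (h : ∀ r, r.Prime → r ∣ n → r % m = 1 % m) : n % m = 1 % m := by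
  refine mul_ind (P := fun x => x % m = 1 % m) rfl ?_ hn h
  intro a b ha hb
  rw [Nat.mul_mod, ha, hb, ← Nat.mul_mod, mul_one]

/-- one of the two numbers is `3` modulo `4` -/
theorem mod_four {k : ℕ} (hk : 1 ≤ k) : n₁ k % 4 = 3 ∨ n₂ k % 4 = 3 := by
  have h : 3 ^ k % 4 = 1 ∨ 3 ^ k % 4 = 3 := by
    have : Odd (3 ^ k) := Odd.pow (by decide)
    obtain ⟨m, hm⟩ := this
    omega
  rcases h with h | h
  · left
    obtain ⟨z, hz⟩ : ∃ z, 3 ^ k = 4 * z + 1 := ⟨3 ^ k / 4, by omega⟩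
    rw [n₁, hz]
    have : (4 * z + 1) ^ 2 = 4 * (4 * z ^ 2 + 2 * z) + 1 := by ring
    omega
  · right
    obtain ⟨z, hz⟩ : ∃ z, 3 ^ k = 4 * z + 3 := ⟨3 ^ k / 4, by omega⟩
    rw [n₂, hz]
    have : (4 * z + 3) ^ 2 = 4 * (4 * z ^ 2 + 6 * z + 2) + 1 := by ring
    omega

/-- not all primes are `1` modulo `4` -/
theorem Hyp.not_mod_four {k : ℕ} {S : Type u} [Group S] (H : Hyp k S)
    (h : ∀ r : ℕ, r.Prime → r ∣ n₁ k ∨ r ∣ n₂ k → r % 4 = 1) : False := by
  have a1 : n₁ k % 4 = 1 := mod_one (by have := H.h1.one_lt; omega) fun r hr hd => h r hr (Or.inl hd)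
  have a2 : n₂ k % 4 = 1 := mod_one (by have := H.h2.one_lt; omega) fun r hr hd => h r hr (Or.inr hd)
  have := mod_four H.hk1
  omega

end Cfsg.Agent.H203.GI
end

-- part: H203/GI/RowE8
section
/-!
# `S = E₈(u)` (helper203, for S3635, `L = G₂(3^k)`)
-/

set_option autoImplicit false

namespace Cfsg.Agent.H203.GI

open Cfsg.Agent.H493.PG Cfsg.Agent.H493.PGRows
open Cfsg.Agent.H378.ExcAdj (od)
open Cfsg.Agent
open Cfsg.Agent.H378.CycTab
open Cfsg.Agent.H493.PGTorus (pv)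

universe u

/-- `5` divides `|S|` : `k` is even -/
theorem even_of_five {k : ℕ} (hk : 1 ≤ k) (h : 5 = 3 ∨ 5 ∣ (3 ^ k) ^ 2 - 1 ∨ 5 ∣ n₁ k ∨ 5 ∣ n₂ k) : Even k := by
  have h5 : Nat.Prime 5 := by norm_num
  rcases h with h | h | h | h
  · omega
  · by_contra ho
    rw [Nat.not_even_iff_odd] at ho
    obtain ⟨m, rfl⟩ := ho
    have e : (3 ^ (2 * m + 1)) ^ 2 = 81 ^ m * 9 := by
      rw [← pow_mul, show (81 : ℕ) = 3 ^ 4 by norm_num, ← pow_mul, show (9 : ℕ) = 3 ^ 2 by norm_num, ← pow_add]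
      congr 1
      ring
    rw [e] at h
    have h1 : 81 ^ m % 5 = 1 := by rw [Nat.pow_mod]; norm_num
    have h2 : 0 < 81 ^ m := by positivity
    omega
  · have := mod_six₁ hk h5 h
    omega
  · have := mod_six₂ hk h5 h
    omega

/-- not all primes of `n₁` are `1` modulo 5 (`k` even) -/
theorem not_mod_five {k : ℕ} (hk : 1 ≤ k) (he : Even k) (h : ∀ r : ℕ, r.Prime → r ∣ n₁ k → r % 5 = 1) : False := by
  obtain ⟨j, rfl⟩ := he
  have hp := fun (n : ℕ) (hn : n ≠ 0) (hd : n ∣ n₁ (j + j)) =>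
    mod_one (m := 5) (n := n) hn fun r hr hrn => h r hr (hrn.trans hd)
  have e1 : n₁ (j + j) = ((3 ^ j) ^ 2 + 3 ^ j + 1) * ((3 ^ j) ^ 2 - 3 ^ j + 1) := by
    have hle := le_sq j
    have : ((n₁ (j + j) : ℕ) : ℤ) = (((3 ^ j) ^ 2 + 3 ^ j + 1) * ((3 ^ j) ^ 2 - 3 ^ j + 1) : ℕ) := by
      rw [cast_n₁, pow_add]
      push_cast [hle]
      ring
    exact_mod_cast this
  have h1 : n₁ (j + j) % 5 = 1 % 5 := hp _ (by rw [n₁]; exact Nat.succ_ne_zero _) dvd_rfl
  have h2 : ((3 ^ j) ^ 2 + 3 ^ j + 1) % 5 = 1 % 5 := hp _ (Nat.succ_ne_zero _) (e1 ▸ dvd_mul_right _ _)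
  have e2 : n₁ (j + j) = ((3 ^ j) ^ 2) ^ 2 + (3 ^ j) ^ 2 + 1 := by
    rw [n₁, pow_add]
    ring
  rw [e2] at h1
  have h0 : 3 ^ j % 5 ≠ 0 := by
    intro h0
    have := (Nat.Prime.dvd_of_dvd_pow (by norm_num : Nat.Prime 5) (Nat.dvd_of_mod_eq_zero h0))
    norm_num at this
  have h3 : ∀ x : ZMod 5, x ≠ 0 → x ^ 2 + x + 1 = 1 → (x ^ 2) ^ 2 + x ^ 2 + 1 = 1 → False := by decide
  refine h3 ((3 ^ j : ℕ) : ZMod 5) ?_ ?_ ?_
  · intro h4
    rw [ZMod.natCast_eq_zero_iff] at h4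
    exact h0 (Nat.mod_eq_zero_of_dvd h4)
  · have := (ZMod.natCast_eq_natCast_iff' _ _ _).2 h2
    push_cast at this ⊢
    exact this
  · have := (ZMod.natCast_eq_natCast_iff' _ _ _).2 h1
    push_cast at this ⊢
    exact this

/-- `n₁ = 3` modulo 8 for `k` even -/
theorem mod_eight {k : ℕ} (he : Even k) : n₁ k % 8 = 3 := by
  obtain ⟨j, rfl⟩ := he
  have h1 : 3 ^ (j + j) % 8 = 1 := by
    rw [← two_mul, pow_mul, Nat.pow_mod]
    norm_num
  obtain ⟨z, hz⟩ : ∃ z, 3 ^ (j + j) = 8 * z + 1 := ⟨3 ^ (j + j) / 8, by omega⟩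
  rw [n₁, hz]
  have : (8 * z + 1) ^ 2 = 8 * (8 * z ^ 2 + 2 * z) + 1 := by ring
  omega

variable {k : ℕ} {F : Type u} [Field F] [Fintype F]

theorem five_dvd_E8 : 5 ∣ Nat.card ↥(Cfsg.Lie.chevE8.group F) := by
  rw [S1065.result (F := F) rfl]
  generalize Fintype.card F = q
  by_cases h : 5 ∣ q
  · refine dvd_mul_of_dvd_left (dvd_mul_of_dvd_left (dvd_mul_of_dvd_left (dvd_mul_of_dvd_left (dvd_mul_of_dvd_left
      (dvd_mul_of_dvd_left (dvd_mul_of_dvd_left (dvd_mul_of_dvd_left ?_ _) _) _) _) _) _) _) _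
    exact dvd_pow h (by norm_num)
  · refine dvd_mul_of_dvd_left (dvd_mul_of_dvd_left (dvd_mul_of_dvd_left (dvd_mul_of_dvd_left (dvd_mul_of_dvd_left
      (dvd_mul_of_dvd_left (dvd_mul_of_dvd_right ?_ _) _) _) _) _) _) _
    have h1 : q ^ 8 % 5 = 1 := by
      have h2 : q % 5 = 1 ∨ q % 5 = 2 ∨ q % 5 = 3 ∨ q % 5 = 4 := by omega
      rcases h2 with h2 | h2 | h2 | h2 <;> (rw [Nat.pow_mod, h2])
    omega

/-- **`E₈(u)`** -/
theorem no_e8 (H : Hyp k ↥(Cfsg.Lie.chevE8.group F)) : False := by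
  have hq : Nat.card F = Fintype.card F := Nat.card_eq_fintype_card
  have hq2 : 2 ≤ Fintype.card F := Fintype.one_lt_card
  have he := even_of_five H.hk1 (H.hπ 5 (by norm_num) five_dvd_E8)
  have h8 := mod_eight he
  have hcase : ∀ t : ℕ, t.Prime → t ∣ n₁ k → (t ∣ H416.Arith.mm (Fintype.card F) 0) ∨ t % 4 = 1 ∨
      (t ∣ H416.Arith.mm (Fintype.card F) 2) := by
    intro t ht htn
    have h2 := ht.two_le
    rcases H378.ExcAdj.adj_E8 F ht (H.dvd_card ht (Or.inl htn)) with h | h | h | h | h | h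
    · exact absurd h (H.ne_two (Or.inl htn))
    · exact absurd (conn_of_adj h) (H.not_two (Or.inl htn))
    · left
      have h1 := dvd15 ht h
      rw [pv15, hq, ← H416.Arith.mm0 hq2] at h1
      exact_mod_cast h1
    · right; left
      have := H378.ExcNear.mod_of_od ht h (by norm_num)
      omega
    · right; left
      have := H378.ExcNear.mod_of_od ht h (by norm_num)
      omega
    · right; right
      have h1 := dvd30 ht h
      rw [pv30, hq, ← H416.Arith.mm2 hq2] at h1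
      exact_mod_cast h1
  -- a prime which is not 1 modulo 4
  obtain ⟨r, hr, hrn, hr4⟩ : ∃ r : ℕ, r.Prime ∧ r ∣ n₁ k ∧ r % 4 ≠ 1 := by
    by_contra hc
    push Not at hc
    have := mod_one (m := 4) (n := n₁ k) (by omega) fun r hr hrn => hc r hr hrn
    omega
  have main : ∀ i : Fin 3, (i = 0 ∨ i = 2) → r ∣ H416.Arith.mm (Fintype.card F) i → False := by
    intro i hi hri
    have h15 : 15 ∣ H416.Arith.ix i := by
      rcases hi with rfl | rfl <;> decide
    have hall : ∀ s : ℕ, s.Prime → s ∣ n₁ k → s ∣ H416.Arith.mm (Fintype.card F) i := by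
      intro s hs hsn
      by_cases hrs : r = s
      · rwa [← hrs]
      · by_contra hns
        obtain ⟨x, hx⟩ := H.cl r s hr hs hrs hrn hsn
        exact H416.E8Iso.isol_E8 (F := F) rfl i r s hr hs hri hns x hx
    refine not_mod_five H.hk1 he fun s hs hsn => ?_
    have h1 := hall s hs hsn
    have h2 : od (Nat.card F) s = H416.Arith.ix i := by
      apply Nat.dvd_antisymm
      · exact H378.ExcAdj.od_dvd Nat.card_pos (by rw [hq]; exact (H416.Arith.order_mm hq2 hs h1 _).2 dvd_rfl)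
      · exact (H416.Arith.order_mm hq2 hs h1 _).1 (by
          rw [← hq]
          exact H378.ExcAdj.dvd_of_od_dvd Nat.card_pos dvd_rfl)
    have h3 := H378.ExcNear.mod_of_od hs h2 (H416.Arith.ix_pos i)
    have h4 := h15.trans h3
    have := hs.two_le
    omega
  rcases hcase r hr hrn with h | h | h
  · exact main 0 (Or.inl rfl) h
  · exact hr4 h
  · exact main 2 (Or.inr rfl) h

end Cfsg.Agent.H203.GI
end

-- part: H203/GI/RowTw
section
/-!
# `S = ²F₄(u)`, `²E₆(u)`, `Sz(u)` (helper203, for S3635, `L = G₂(3^k)`)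
-/

set_option autoImplicit false

namespace Cfsg.Agent.H203.GI

open Cfsg.Agent.H493.PG Cfsg.Agent.H493.PGRows
open Cfsg.Agent
open Cfsg.Agent.H493.PGCyc
open Cfsg.Agent.H493.PGTorus (pv)

universe u

/-- `r ∣ x² + 1` -/
theorem mod_four_of_sq {x : ℤ} {r : ℕ} (hr : r.Prime) (h2 : r ≠ 2) (h : (r : ℤ) ∣ x ^ 2 + 1) : r % 4 = 1 := by
  have : Fact r.Prime := ⟨hr⟩
  have h1 : (x : ZMod r) ^ 2 = -1 := by
    have := (ZMod.intCast_zmod_eq_zero_iff_dvd (x ^ 2 + 1) r).2 h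
    push_cast at this
    linear_combination this
  have h3 := ZMod.mod_four_ne_three_of_sq_eq_neg_one h1
  have h4 : r % 2 = 1 := hr.eq_two_or_odd.resolve_left h2
  omega

section tf4

variable {k : ℕ} {K : Type u} [Field K] [Fintype K] {m : ℕ}

/-- **`²F₄(u)`** -/
theorem no_tf4 (hm : 1 ≤ m) (hK : Fintype.card K = 2 ^ (2 * m + 1)) (H : Hyp k ↥(Cfsg.Lie.twistedF4 K (2 ^ m))) :
    False := H.not_mod_four fun r hr h => by
  have hrG := H.dvd_card hr h
  rw [Cfsg.Agent.S1068.result hK] at hrG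
  have hfac : (H493.PGF4T.fP (2 ^ m)) * (H493.PGF4T.fM (2 ^ m)) * ((2 * ((2 : ℤ) ^ m) ^ 2) ^ 2 + 1) =
      (((2 * ((2 : ℤ) ^ m) ^ 2)) ^ 3) ^ 2 + 1 := by
    unfold H493.PGF4T.fP H493.PGF4T.fM
    ring
  have key : (r : ℤ) ∣ (((2 * ((2 : ℤ) ^ m) ^ 2)) ^ 3) ^ 2 + 1 := by
    rw [← hfac]
    rcases H493.PGF4T.cover hr hrG with h1 | h1 | h1
    · exact absurd (H493.PGF4T.conn_main hm hK hr h1) (H.not_two h)
    · exact (h1.mul_right _).mul_right _
    · exact (h1.mul_left _).mul_right _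
  exact mod_four_of_sq hr (H.ne_two h) key

end tf4

section te6

variable {k : ℕ} {K : Type u} [Field K] [Fintype K] {q : ℕ}

/-- a prime different from 3 of a number prime to 9 -/
theorem exists_ne_three {n : ℕ} (h1 : n ≠ 1) (h3 : n ≠ 3) (h9 : ¬ 9 ∣ n) : ∃ s : ℕ, s.Prime ∧ s ≠ 3 ∧ s ∣ n := by
  by_contra hc
  push Not at hc
  obtain ⟨r, hr, hrn⟩ := Nat.exists_prime_and_dvd h1
  have hr3 : r = 3 := by
    by_contra h
    exact hc r hr h hrn
  subst hr3
  obtain ⟨m, rfl⟩ := hrn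
  have hm1 : m ≠ 1 := by
    rintro rfl
    exact h3 rfl
  obtain ⟨s, hs, hsm⟩ := Nat.exists_prime_and_dvd hm1
  have hs3 : s = 3 := by
    by_contra h
    exact hc s hs h (hsm.mul_left _)
  subst hs3
  obtain ⟨j, rfl⟩ := hsm
  exact h9 ⟨j, by ring⟩

/-- **`²E₆(u)`**, `u` prime to 3 -/
theorem no_te6 (hq : IsPrimePow q) (hK : Fintype.card K = q ^ 2) (h3 : ¬ 3 ∣ q)
    (H : Hyp k ↥(Cfsg.Lie.twistedE6 K q)) : False := by
  obtain ⟨p, n, hp, hn, hpn⟩ := id hq
  have hp := hp.nat_prime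
  have hpq : p ∣ q := hpn ▸ dvd_pow_self p hn.ne'
  have hq2 := hq.two_le
  -- 2 is in the main component
  have h2p : Conn ↥(Cfsg.Lie.twistedE6 K q) 2 p := by
    refine H493.PGE6T.conn_main hq hK Nat.prime_two hp hpq (by norm_num) ?_
    rcases Nat.even_or_odd q with he | ho
    · exact Or.inl he.two_dvd
    · right; left
      rw [pv_c1]
      obtain ⟨z, hz⟩ := ho
      exact ⟨z, by rw [hz]; push_cast; ring⟩
  have hmain : ∀ t : ℕ, t.Prime → t ≠ 3 → (t ∣ q ∨ (t : ℤ) ∣ pv c1 q ∨ (t : ℤ) ∣ pv c2 q ∨ (t : ℤ) ∣ pv c3 q ∨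
      (t : ℤ) ∣ pv c4 q ∨ (t : ℤ) ∣ pv c6 q ∨ (t : ℤ) ∣ pv c10 q) → Conn ↥(Cfsg.Lie.twistedE6 K q) t 2 :=
    fun t ht ht3 h => (H493.PGE6T.conn_main hq hK ht hp hpq ht3 h).trans h2p.symm
  have hcase : ∀ t : ℕ, t.Prime → t ∣ n₁ k ∨ t ∣ n₂ k → (t : ℤ) ∣ pv c8 q ∨ (t : ℤ) ∣ pv c12 q ∨ (t : ℤ) ∣ pv c18 q := by
    intro t ht htn
    have h1 : t ∣ q ^ 36 * (q ^ 2 - 1) * (q ^ 5 + 1) * (q ^ 6 - 1) * (q ^ 8 - 1) * (q ^ 9 + 1) * (q ^ 12 - 1) := by
      rw [← Cfsg.Agent.S1066.result hq hK]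
      exact (H.dvd_card ht htn).mul_left _
    rcases H493.PGE6T.cover hq.two_le ht h1 with h | h
    · exact absurd (hmain t ht (H.ne_three ht htn) h) (H.not_two htn)
    · exact h
  by_cases hq22 : q = 2
  · subst hq22
    refine H.no_list (a := 17) (b := 13) (c := 19) (by norm_num) (by norm_num) (by norm_num) fun r hr hrn => ?_
    rcases hcase r hr hrn with h | h | h
    · left
      rw [pv_c8] at h
      have h1 : r ∣ 17 := by exact_mod_cast (by simpa using h : (r : ℤ) ∣ 17)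
      exact (Nat.prime_dvd_prime_iff_eq hr (by norm_num)).1 h1
    · right; left
      rw [pv_c12] at h
      have h1 : r ∣ 13 := by exact_mod_cast (by simpa using h : (r : ℤ) ∣ 13)
      exact (Nat.prime_dvd_prime_iff_eq hr (by norm_num)).1 h1
    · right; right
      rw [pv_c18] at h
      have h1 : r ∣ 57 := by exact_mod_cast (by simpa using h : (r : ℤ) ∣ 57)
      rw [show 57 = 3 * 19 by norm_num] at h1
      rcases hr.dvd_mul.1 h1 with h2 | h2
      · exact absurd ((Nat.prime_dvd_prime_iff_eq hr Nat.prime_three).1 h2) (H.ne_three hr hrn)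
      · exact (Nat.prime_dvd_prime_iff_eq hr (by norm_num)).1 h2
  · have hq4 : 4 ≤ q := by
      rcases Nat.lt_or_ge q 4 with h | h
      · exfalso
        have : q = 3 := by omega
        exact h3 (by rw [this])
      · exact h
    have hcase' : ∀ t : ℕ, t.Prime → t ∣ n₁ k ∨ t ∣ n₂ k → (t : ℤ) ∣ pv c18 q := by
      intro t ht htn
      have ht3 := H.ne_three ht htn
      rcases hcase t ht htn with h | h | h
      · exfalso
        have hm : q % 3 = 1 ∨ q % 3 = 2 := by omega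
        rcases hm with hm | hm
        · obtain ⟨s, hs, hsd⟩ := Nat.exists_prime_and_dvd (n := q + 1) (by omega)
          have hs3 : s ≠ 3 := by
            rintro rfl
            omega
          have h4 : (s : ℤ) ∣ pv c2 q := by rw [pv_c2]; exact_mod_cast hsd
          exact H.not_two htn ((H493.PGE6T.conn8_2 hq hK ht hs ht3 hs3 h h4).trans (hmain s hs hs3 (by (clear * - h4; tauto))))
        · obtain ⟨s, hs, hsd⟩ := Nat.exists_prime_and_dvd (n := q - 1) (by omega)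
          have hs3 : s ≠ 3 := by
            rintro rfl
            omega
          have h4 : (s : ℤ) ∣ pv c1 q := by
            rw [pv_c1]
            have := Int.natCast_dvd_natCast.2 hsd
            rw [Nat.cast_sub (by omega)] at this
            exact_mod_cast this
          exact H.not_two htn ((H493.PGE6T.conn8_1 hq hK ht hs ht3 hs3 h h4).trans (hmain s hs hs3 (by (clear * - h4; tauto))))
      · exfalso
        have hle : q ≤ q ^ 2 := Nat.le_self_pow (by norm_num) _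
        have hbig : 4 * q ≤ q ^ 2 := by
          rw [sq]
          exact Nat.mul_le_mul_right _ hq4
        obtain ⟨s, hs, hs3, hsd⟩ := exists_ne_three (n := q ^ 2 - q + 1) (by omega) (by omega) (by
          have hm : q % 9 = 0 ∨ q % 9 = 1 ∨ q % 9 = 2 ∨ q % 9 = 3 ∨ q % 9 = 4 ∨ q % 9 = 5 ∨ q % 9 = 6 ∨ q % 9 = 7 ∨
            q % 9 = 8 := by (clear * -; omega)
          have h5 : q ^ 2 % 9 = (q % 9) ^ 2 % 9 := Nat.pow_mod _ _ _
          rcases hm with hm | hm | hm | hm | hm | hm | hm | hm | hm <;> rw [hm] at h5 <;> (clear * - h3 hpn hm h5; omega))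
        have h4 : (s : ℤ) ∣ pv c6 q := by
          rw [pv_c6]
          have := Int.natCast_dvd_natCast.2 hsd
          push_cast [hle] at this
          exact this
        exact H.not_two htn ((H493.PGE6T.conn12_6 hq hK ht hs ht3 hs3 h h4).trans (hmain s hs hs3 (by (clear * - h4; tauto))))
      · exact h
    obtain ⟨r, s, hr, hs, hrn, hsn, hrd, hsd, hc⟩ := H.exists_pair
    exact hc (H493.PGE6T.conn18 hq hK hr hs (H.ne_three hr (Or.inl hrn)) (H.ne_three hs (Or.inr hsn))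
      (hcase' r hr (Or.inl hrn)) (hcase' s hs (Or.inr hsn)))

end te6

section sz

variable {k : ℕ} {F : Type u} [Field F] [Fintype F] {m : ℕ}

/-- adjacent primes of the Suzuki groups -/
theorem sz_adj (hm : 1 ≤ m) (hF : Fintype.card F = 2 ^ (2 * m + 1)) {r s : ℕ} (hr : r.Prime) (hs : s.Prime)
    (hr2 : r ≠ 2) (h : r ∣ 2 ^ (2 * m + 1) - 1) {x : ↥(Cfsg.Sz F m)} (hx : orderOf x = r * s) :
    s ∣ 2 ^ (2 * m + 1) - 1 := by
  have hx1 : x ≠ 1 := by
    rintro rfl
    rw [orderOf_one] at hx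
    have := hr.two_le
    have := hs.two_le
    nlinarith
  obtain ⟨U, ⟨hU, hxU⟩, -⟩ := Cfsg.Agent.S2238.result hm hF x hx1
  have hxo : orderOf (⟨x, hxU⟩ : U) = r * s := by rw [Subgroup.orderOf_mk, hx]
  have hd : r * s ∣ Nat.card U := hxo ▸ orderOf_dvd_natCard _
  rcases hU with ⟨P, rfl⟩ | ⟨-, hN⟩
  · exfalso
    have hc : Nat.card P = 2 ^ _ := P.card_eq_multiplicity
    have h3 : r ∣ Nat.card P := (Dvd.intro _ rfl).trans hd
    rw [hc] at h3
    exact hr2 ((Nat.prime_dvd_prime_iff_eq hr Nat.prime_two).1 (hr.dvd_of_dvd_pow h3))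
  · -- `u² + 1` and `u - 1` are coprime
    have hsq : (2 ^ (m + 1)) ^ 2 = 2 * 2 ^ (2 * m + 1) := by ring
    have hle : 2 ^ (m + 1) ≤ 2 ^ (2 * m + 1) := Nat.pow_le_pow_right (by norm_num) (by omega)
    have hfac : (2 ^ (2 * m + 1) + 2 ^ (m + 1) + 1) * (2 ^ (2 * m + 1) - 2 ^ (m + 1) + 1) =
        (2 ^ (2 * m + 1)) ^ 2 + 1 := by
      zify [hle]
      have : ((2 : ℤ) ^ (m + 1)) ^ 2 = 2 * 2 ^ (2 * m + 1) := by exact_mod_cast hsq
      linear_combination (-1) * this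
    have hno : ∀ N : ℕ, N ∣ (2 ^ (2 * m + 1)) ^ 2 + 1 → r ∣ N → False := by
      intro N hN hrN
      have h4 : r ∣ (2 ^ (2 * m + 1)) ^ 2 + 1 := hrN.trans hN
      have h5 : (2 ^ (2 * m + 1)) ^ 2 + 1 = (2 ^ (2 * m + 1) - 1) * (2 ^ (2 * m + 1) + 1) + 2 := by
        have h1 : 1 ≤ 2 ^ (2 * m + 1) := Nat.one_le_two_pow
        zify [h1]
        ring
      rw [h5] at h4
      have h6 := (Nat.dvd_add_right (h.mul_right _)).1 h4
      exact hr2 ((Nat.prime_dvd_prime_iff_eq hr Nat.prime_two).1 h6)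
    have hrU : r ∣ Nat.card U := (Dvd.intro _ rfl).trans hd
    have hsU : s ∣ Nat.card U := (Dvd.intro_left _ rfl).trans hd
    simp only [Set.mem_insert_iff, Set.mem_singleton_iff] at hN
    rcases hN with hN | hN | hN
    · rwa [hN] at hsU
    · rw [hN] at hrU
      exact (hno _ (hfac ▸ dvd_mul_right _ _) hrU).elim
    · rw [hN] at hrU
      exact (hno _ (hfac ▸ dvd_mul_left _ _) hrU).elim

theorem card_sz (hm : 1 ≤ m) (hF : Fintype.card F = 2 ^ (2 * m + 1)) {r : ℕ} (hr : r.Prime) (hr2 : r ≠ 2)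
    (h : r ∣ Nat.card ↥(Cfsg.Sz F m)) : r ∣ 2 ^ (2 * m + 1) - 1 ∨ r ∣ (2 ^ (2 * m + 1)) ^ 2 + 1 := by
  have := Fact.mk hr
  obtain ⟨x, hx⟩ := exists_prime_orderOf_dvd_card' r h
  have hx1 : x ≠ 1 := by
    rintro rfl
    rw [orderOf_one] at hx
    exact hr.one_lt.ne hx
  obtain ⟨U, ⟨hU, hxU⟩, -⟩ := Cfsg.Agent.S2238.result hm hF x hx1
  have hxo : orderOf (⟨x, hxU⟩ : U) = r := by rw [Subgroup.orderOf_mk, hx]
  have hd : r ∣ Nat.card U := hxo ▸ orderOf_dvd_natCard _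
  rcases hU with ⟨P, rfl⟩ | ⟨-, hN⟩
  · exfalso
    have hc : Nat.card P = 2 ^ _ := P.card_eq_multiplicity
    rw [hc] at hd
    exact hr2 ((Nat.prime_dvd_prime_iff_eq hr Nat.prime_two).1 (hr.dvd_of_dvd_pow hd))
  · have hsq : (2 ^ (m + 1)) ^ 2 = 2 * 2 ^ (2 * m + 1) := by ring
    have hle : 2 ^ (m + 1) ≤ 2 ^ (2 * m + 1) := Nat.pow_le_pow_right (by norm_num) (by omega)
    have hfac : (2 ^ (2 * m + 1) + 2 ^ (m + 1) + 1) * (2 ^ (2 * m + 1) - 2 ^ (m + 1) + 1) =
        (2 ^ (2 * m + 1)) ^ 2 + 1 := by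
      zify [hle]
      have : ((2 : ℤ) ^ (m + 1)) ^ 2 = 2 * 2 ^ (2 * m + 1) := by exact_mod_cast hsq
      linear_combination (-1) * this
    simp only [Set.mem_insert_iff, Set.mem_singleton_iff] at hN
    rcases hN with hN | hN | hN
    · rw [hN] at hd
      exact Or.inl hd
    · rw [hN] at hd
      exact Or.inr (hfac ▸ hd.mul_right _)
    · rw [hN] at hd
      exact Or.inr (hfac ▸ hd.mul_left _)

/-- `r ∣ 2 ^ (2 m + 1) - 1` : `r = ± 1` modulo 8 -/
theorem mod_eight_of {r : ℕ} (hr : r.Prime) (h2 : r ≠ 2) (h : r ∣ 2 ^ (2 * m + 1) - 1) : r % 8 = 1 ∨ r % 8 = 7 := by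
  have : Fact r.Prime := ⟨hr⟩
  have h1 : IsSquare (2 : ZMod r) := by
    refine ⟨2 ^ (m + 1), ?_⟩
    have h3 : ((2 ^ (2 * m + 1) - 1 : ℕ) : ZMod r) = 0 := (ZMod.natCast_eq_zero_iff _ _).2 h
    rw [Nat.cast_sub Nat.one_le_two_pow] at h3
    push_cast at h3
    have h4 : (2 : ZMod r) ^ (m + 1) * 2 ^ (m + 1) = 2 * 2 ^ (2 * m + 1) := by ring
    rw [h4]
    linear_combination (-2) * h3
  exact (ZMod.exists_sq_eq_two_iff h2).1 h1

/-- **`Sz(u)`** -/
theorem no_sz (hm : 1 ≤ m) (hF : Fintype.card F = 2 ^ (2 * m + 1)) (H : Hyp k ↥(Cfsg.Sz F m)) : False := by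
  have h5 : 5 ∣ Nat.card ↥(Cfsg.Sz F m) := by
    rw [Cfsg.Agent.S0324.result hm hF]
    refine dvd_mul_of_dvd_left (dvd_mul_of_dvd_right ?_ _) _
    have e : (2 ^ (2 * m + 1)) ^ 2 = 16 ^ m * 4 := by
      rw [← pow_mul, show (16 : ℕ) = 2 ^ 4 by norm_num, ← pow_mul, show (4 : ℕ) = 2 ^ 2 by norm_num, ← pow_add]
      congr 1
      ring
    rw [e]
    have h1 : 16 ^ m % 5 = 1 := by rw [Nat.pow_mod]; norm_num
    omega
  have he := even_of_five H.hk1 (H.hπ 5 (by norm_num) h5)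
  have h8 := mod_eight he
  obtain ⟨r, hr, hrn, hr4⟩ : ∃ r : ℕ, r.Prime ∧ r ∣ n₁ k ∧ r % 4 ≠ 1 := by
    by_contra hc
    push Not at hc
    have := mod_one (m := 4) (n := n₁ k) (by omega) fun r hr hrn => hc r hr hrn
    omega
  have hr2 := H.ne_two (Or.inl hrn)
  have hru : r ∣ 2 ^ (2 * m + 1) - 1 := by
    rcases card_sz hm hF hr hr2 (H.dvd_card hr (Or.inl hrn)) with h | h
    · exact h
    · exfalso
      exact hr4 (mod_four_of_sq (x := 2 ^ (2 * m + 1)) hr hr2 (by exact_mod_cast h))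
  have hall : ∀ s : ℕ, s.Prime → s ∣ n₁ k → s ∣ 2 ^ (2 * m + 1) - 1 := by
    intro s hs hsn
    by_cases hrs : r = s
    · rwa [← hrs]
    · obtain ⟨x, hx⟩ := H.cl r s hr hs hrs hrn hsn
      exact sz_adj hm hF hr hs hr2 hru hx
  have := mul_ind (P := fun x => x % 8 = 1 ∨ x % 8 = 7) (Or.inl rfl) (fun a b ha hb => by
    have e : a * b % 8 = (a % 8) * (b % 8) % 8 := Nat.mul_mod _ _ _
    rcases ha with ha | ha <;> rcases hb with hb | hb <;> rw [ha, hb] at e <;> (clear * - e; omega)) (n := n₁ k) (by omega)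
    fun s hs hsn => mod_eight_of hs (H.ne_two (Or.inl hsn)) (hall s hs hsn)
  omega

end sz

end Cfsg.Agent.H203.GI
end

-- part: H203/GI/RowChev
section
/-!
# `S = G₂(u)`, `F₄(u)`, `E₇(u)`, `E₈(u)` (helper203, for S3635, `L = G₂(3^k)`)
-/

set_option autoImplicit false

namespace Cfsg.Agent.H203.GI

open Cfsg.Agent.H493.PG Cfsg.Agent.H493.PGRows
open Cfsg.Agent.H378.ExcAdj (od)
open Cfsg.Agent
open Cfsg.Agent.H378.CycTab
open Cfsg.Agent.H493.PGTorus (pv)

universe u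

variable {k : ℕ} {F : Type u} [Field F] [Finite F]

/-- **`G₂(u)`**, `u` prime to 3 -/
theorem no_g2 (h3 : ¬ 3 ∣ Nat.card F) (H : Hyp k ↥(Cfsg.Lie.chevG2.group F)) : False := by
  obtain ⟨r, s, hr, hs, hrn, hsn, hrd, hsd, hc⟩ := H.exists_pair
  have key : ((3 : ℕ) : ℤ) ∣ pv c3 (Nat.card F : ℕ) ∨ ((3 : ℕ) : ℤ) ∣ pv c6 (Nat.card F : ℕ) := by
    rw [pv3, pv6]
    have h1 : (Nat.card F : ℤ) % 3 = 1 ∨ (Nat.card F : ℤ) % 3 = 2 := by omega
    rcases h1 with h1 | h1
    · left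
      obtain ⟨z, hz⟩ : ∃ z, (Nat.card F : ℤ) = 3 * z + 1 := ⟨(Nat.card F : ℤ) / 3, by omega⟩
      rw [hz]
      exact ⟨3 * z ^ 2 + 3 * z + 1, by push_cast; ring⟩
    · right
      obtain ⟨z, hz⟩ : ∃ z, (Nat.card F : ℤ) = 3 * z + 2 := ⟨(Nat.card F : ℤ) / 3, by omega⟩
      rw [hz]
      exact ⟨3 * z ^ 2 + 3 * z + 1, by push_cast; ring⟩
  have hcase : ∀ t : ℕ, t.Prime → t ∣ n₁ k ∨ t ∣ n₂ k → od (Nat.card F) t = 3 ∨ od (Nat.card F) t = 6 := by
    intro t ht htn
    rcases H378.ExcAdj.adj_G2 F ht (H.dvd_card ht htn) with h | h | h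
    · exact absurd h (H.ne_two htn)
    · exact absurd (conn_of_adj h) (H.not_two htn)
    · exact h
  rcases hcase r hr (Or.inl hrn) with h | h <;> rcases hcase s hs (Or.inr hsn) with h' | h'
  · exact hc (H493.PGG2.conn3 hr hs (dvd3 hr h) (dvd3 hs h'))
  · rcases key with k3 | k3
    · exact H.not_three (Or.inl hrn) (H493.PGG2.conn3 hr Nat.prime_three (dvd3 hr h) k3)
    · exact H.not_three (Or.inr hsn) (H493.PGG2.conn6 hs Nat.prime_three (dvd6 hs h') k3)
  · rcases key with k3 | k3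
    · exact H.not_three (Or.inr hsn) (H493.PGG2.conn3 hs Nat.prime_three (dvd3 hs h') k3)
    · exact H.not_three (Or.inl hrn) (H493.PGG2.conn6 hr Nat.prime_three (dvd6 hr h) k3)
  · exact hc (H493.PGG2.conn6 hr hs (dvd6 hr h) (dvd6 hs h'))

/-- **`F₄(u)`** -/
theorem no_f4 (H : Hyp k ↥(Cfsg.Lie.chevF4.group F)) : False := H.not_mod_four fun r hr h => by
  have h2 := hr.two_le
  rcases H378.ExcAdj.adj_F4 F hr (H.dvd_card hr h) with h1 | h1 | h1 | h1
  · exact absurd h1 (H.ne_two h)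
  · exact absurd (conn_of_adj h1) (H.not_two h)
  · have := H378.ExcNear.mod_of_od hr h1 (by norm_num)
    omega
  · have := H378.ExcNear.mod_of_od hr h1 (by norm_num)
    omega

/-- **`E₇(u)`**, `u` prime to 3 -/
theorem no_e7 (h3 : ¬ 3 ∣ Nat.card F) (H : Hyp k ↥(Cfsg.Lie.chevE7.group F)) : False := by
  have hq1 : 1 < Nat.card F := Finite.one_lt_card
  have hcase : ∀ t : ℕ, t.Prime → t ∣ n₁ k ∨ t ∣ n₂ k → t = 73 ∨ t = 127 := by
    intro t ht htn
    rcases H378.ExcNear.near_E7 (F := F) ht (H.dvd_card ht htn) with h | ⟨hq, h⟩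
    · exact absurd (conn_of h.conn) (H.not_two htn)
    · have hq2 : Nat.card F = 2 := by
        by_contra hne
        have : Nat.card F = 3 := by omega
        exact h3 (by rw [this])
      rw [hq2] at h
      rcases h with h | h
      · right
        have h1 : t ∣ 2 ^ 7 - 1 := H378.ExcAdj.dvd_of_od_dvd (by norm_num) (by rw [h])
        have h2 : (127 : ℕ).Prime := by norm_num
        exact (Nat.prime_dvd_prime_iff_eq ht h2).1 h1
      · left
        have h1 : t ∣ 2 ^ 9 - 1 := H378.ExcAdj.dvd_of_od_dvd (by norm_num) (by rw [h])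
        rw [show 2 ^ 9 - 1 = 7 * 73 by norm_num] at h1
        rcases ht.dvd_mul.1 h1 with h2 | h2
        · exfalso
          have h7 : t = 7 := (Nat.prime_dvd_prime_iff_eq ht (by norm_num)).1 h2
          have h9 := H378.ExcNear.mod_of_od ht h (by norm_num)
          rw [h7] at h9
          omega
        · exact (Nat.prime_dvd_prime_iff_eq ht (by norm_num)).1 h2
  obtain ⟨r, s, hr, hs, hrn, hsn, hrd, hsd, hc⟩ := H.exists_pair
  have hrs : r ≠ s := by
    rintro rfl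
    exact H.not_both hr hrn hsn
  have h1 := Nat.eq_prime_pow_of_unique_prime_dvd (n := n₁ k) (p := r) (by have := H.h1.one_lt; omega)
    fun {d} hd hdn => by
      have hds : d ≠ s := by
        rintro rfl
        exact H.not_both hd hdn hsn
      have a1 := hcase d hd (Or.inl hdn)
      have a2 := hcase r hr (Or.inl hrn)
      have a3 := hcase s hs (Or.inr hsn)
      omega
  have h2 := prime_power H.hk hr (mod_six₁ H.hk1 hr hrn) (a := (n₁ k).primeFactorsList.length) (by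
    intro h0
    rw [h0, pow_zero] at h1
    have := H.h1.one_lt
    omega) (Or.inl rfl) h1.symm
  rw [h2, pow_one] at h1
  have a2 := hcase r hr (Or.inl hrn)
  rw [← h1] at a2
  rw [n₁] at a2
  have hk := H.hk
  rcases Nat.lt_or_ge k 3 with hk3 | hk3
  · obtain rfl : k = 2 := by omega
    norm_num at a2
  · have h27 : 3 ^ 3 ≤ 3 ^ k := Nat.pow_le_pow_right (by norm_num) hk3
    have h28 : 27 * 3 ^ k ≤ (3 ^ k) ^ 2 := by
      rw [sq]
      exact Nat.mul_le_mul_right _ h27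
    omega

end Cfsg.Agent.H203.GI
end

-- part: H203/GI/RowPsl
section
/-!
# `S = PSL₂(u)`, `u` prime to 3 (helper203, for S3635, `L = G₂(3^k)`)
-/

set_option autoImplicit false

namespace Cfsg.Agent.H203.GI

open Cfsg.Agent.H493.PG Cfsg.Agent.H493.PGRows
open Cfsg.Agent

section arith

variable {k n n' t : ℕ}

theorem exists_X (hn : (n = n₁ k ∧ n' = n₂ k) ∨ (n = n₂ k ∧ n' = n₁ k)) :
    ∃ X : ℤ, X ^ 2 = (3 ^ k) ^ 2 ∧ (n : ℤ) = X ^ 2 + X + 1 ∧ (n' : ℤ) = X ^ 2 - X + 1 := by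
  rcases hn with ⟨h1, h2⟩ | ⟨h1, h2⟩
  · exact ⟨3 ^ k, rfl, by rw [h1, cast_n₁], by rw [h2, cast_n₂]⟩
  · exact ⟨-3 ^ k, by ring, by rw [h1, cast_n₂]; ring, by rw [h2, cast_n₁]; ring⟩

theorem arith_seven (hn : (n = n₁ k ∧ n' = n₂ k) ∨ (n = n₂ k ∧ n' = n₁ k)) (ht : t.Prime) (h1 : t ∣ n + 1)
    (h2 : t ∣ n') : t = 7 := by
  obtain ⟨X, -, e1, e2⟩ := exists_X hn
  have h1 := Int.natCast_dvd_natCast.2 h1
  have h2 := Int.natCast_dvd_natCast.2 h2
  push_cast at h1
  rw [e1] at h1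
  rw [e2] at h2
  have h3 : (t : ℤ) ∣ 2 * X + 1 := by
    have := dvd_sub h1 h2
    rwa [show X ^ 2 + X + 1 + 1 - (X ^ 2 - X + 1) = 2 * X + 1 by ring] at this
  have h4 : (t : ℤ) ∣ 7 := by
    have := dvd_sub (h2.mul_left 4) (h3.mul_left (2 * X - 3))
    rwa [show 4 * (X ^ 2 - X + 1) - (2 * X - 3) * (2 * X + 1) = 7 by ring] at this
  exact (Nat.prime_dvd_prime_iff_eq ht (by norm_num)).1 (by exact_mod_cast h4)

theorem arith_two (hn : (n = n₁ k ∧ n' = n₂ k) ∨ (n = n₂ k ∧ n' = n₁ k)) (ht : t.Prime) (h1 : t ∣ n + 1)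
    (h2 : t ∣ (3 ^ k) ^ 2 - 1) : t = 2 := by
  obtain ⟨X, e0, e1, -⟩ := exists_X hn
  have h1 := Int.natCast_dvd_natCast.2 h1
  have h2 := Int.natCast_dvd_natCast.2 h2
  rw [Nat.cast_sub (Nat.one_le_pow _ _ (by positivity))] at h2
  push_cast at h1 h2
  rw [e1] at h1
  rw [← e0] at h2
  have h3 : (t : ℤ) ∣ X + 3 := by
    have := dvd_sub h1 h2
    rwa [show X ^ 2 + X + 1 + 1 - (X ^ 2 - 1) = X + 3 by ring] at this
  have h4 : (t : ℤ) ∣ 8 := by
    have := dvd_sub h2 (h3.mul_left (X - 3))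
    rwa [show X ^ 2 - 1 - (X - 3) * (X + 3) = 8 by ring] at this
  have h5 : t ∣ 2 ^ 3 := by exact_mod_cast h4
  exact (Nat.prime_dvd_prime_iff_eq ht Nat.prime_two).1 (ht.dvd_of_dvd_pow h5)

theorem eq_of (hn : n = n₁ k ∨ n = n₂ k) {z : ℕ} (h : n + 1 = 2 * z) :
    3 ^ k * (3 ^ k + 1) = 2 * (z - 1) ∨ 3 ^ k * (3 ^ k - 1) = 2 * (z - 1) := by
  rcases hn with rfl | rfl
  · left
    rw [n₁] at h
    have : 3 ^ k * (3 ^ k + 1) = (3 ^ k) ^ 2 + 3 ^ k := by ring
    omega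
  · right
    rw [n₂] at h
    have : 3 ^ k * (3 ^ k - 1) = (3 ^ k) ^ 2 - 3 ^ k := by rw [Nat.mul_sub, mul_one, sq]
    omega

theorem fin_seven (hk : 2 ≤ k) (hn : n = n₁ k ∨ n = n₂ k) {c : ℕ} (h : n + 1 = 2 * 7 ^ c) : False :=
  no_seven hk (eq_of hn h)

theorem fin_two (hk : 2 ≤ k) (hn : n = n₁ k ∨ n = n₂ k) {c : ℕ} (h : n + 1 = 2 ^ c) : False := by
  have hn1 : 1 ≤ n := by
    rcases hn with rfl | rfl
    · rw [n₁]; exact Nat.succ_pos _
    · rw [n₂]; exact Nat.succ_pos _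
  obtain ⟨d, rfl⟩ : ∃ d, c = d + 1 := by
    refine ⟨c - 1, ?_⟩
    have : c ≠ 0 := by
      rintro rfl
      rw [pow_zero] at h
      omega
    omega
  rw [pow_succ, mul_comm] at h
  exact no_two hk (eq_of hn h)

end arith

variable {k : ℕ} {F : Type} [Field F] [Fintype F]

/-- **`PSL₂(u)`**, `u` prime to 3 -/
theorem no_psl_two {p f : ℕ} (hp : p.Prime) [CharP F p] (hp3 : p ≠ 3) (hF : Fintype.card F = p ^ f)
    (h4 : 4 ≤ Fintype.card F) (H : Hyp k (Matrix.ProjectiveSpecialLinearGroup (Fin 2) F)) : False := by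
  have := Fact.mk hp
  have hS := S2475.result (F := F) p h4
  obtain ⟨u, hu⟩ : ∃ u, u = Fintype.card F := ⟨_, rfl⟩
  rw [← hu] at hS hF h4
  obtain ⟨A, hA⟩ : ∃ A, A = (u - 1) / Nat.gcd 2 (u - 1) := ⟨_, rfl⟩
  obtain ⟨B, hB⟩ : ∃ B, B = (u + 1) / Nat.gcd 2 (u - 1) := ⟨_, rfl⟩
  rw [← hA, ← hB] at hS
  set S := Matrix.ProjectiveSpecialLinearGroup (Fin 2) F with hSdef
  obtain ⟨gA, hgA⟩ : A ∈ Set.range (orderOf : S → ℕ) := by rw [hS]; exact Or.inr (Or.inl dvd_rfl)
  obtain ⟨gB, hgB⟩ : B ∈ Set.range (orderOf : S → ℕ) := by rw [hS]; exact Or.inr (Or.inr dvd_rfl)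
  have cA : ∀ {r s : ℕ}, r.Prime → s.Prime → r ∣ A → s ∣ A → Conn S r s := fun hr hs h1 h2 =>
    conn_of_dvd_orderOf (g := gA) hr hs (hgA ▸ h1) (hgA ▸ h2)
  have cB : ∀ {r s : ℕ}, r.Prime → s.Prime → r ∣ B → s ∣ B → Conn S r s := fun hr hs h1 h2 =>
    conn_of_dvd_orderOf (g := gB) hr hs (hgB ▸ h1) (hgB ▸ h2)
  have cover : ∀ r : ℕ, r.Prime → r ∣ n₁ k ∨ r ∣ n₂ k → r = p ∨ r ∣ A ∨ r ∣ B := by
    intro r hr hrn
    have := Fact.mk hr
    obtain ⟨x, hx⟩ := exists_prime_orderOf_dvd_card' r (H.dvd_card hr hrn)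
    have h1 : r ∈ Set.range (orderOf : S → ℕ) := ⟨x, hx⟩
    rw [hS] at h1
    rcases h1 with h1 | h1 | h1
    · exact Or.inl ((Nat.prime_dvd_prime_iff_eq hr hp).1 h1)
    · exact Or.inr (Or.inl h1)
    · exact Or.inr (Or.inr h1)
  have h3u : ¬ 3 ∣ u := fun h => by
    rw [hF] at h
    exact hp3 ((Nat.prime_dvd_prime_iff_eq Nat.prime_three hp).1 (Nat.prime_three.dvd_of_dvd_pow h)).symm
  obtain ⟨r₁, r₂, hr₁, hr₂, hrn₁, hrn₂, -, -, hc⟩ := H.exists_pair
  by_cases hu2 : u % 2 = 0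
  · -- `u` even
    have hp2 : p = 2 := by
      have : 2 ∣ p ^ f := hF ▸ Nat.dvd_of_mod_eq_zero hu2
      exact ((Nat.prime_dvd_prime_iff_eq Nat.prime_two hp).1 (Nat.prime_two.dvd_of_dvd_pow this)).symm
    have hg : Nat.gcd 2 (u - 1) = 1 := by
      rw [← Nat.coprime_iff_gcd_eq_one, Nat.coprime_comm, Nat.coprime_two_right, Nat.odd_iff]
      omega
    rw [hg, Nat.div_one] at hA hB
    have h3 : 3 ∣ A ∨ 3 ∣ B := by
      have h3' : u % 3 = 1 ∨ u % 3 = 2 := by (clear * - h3u; omega)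
      rcases h3' with h3' | h3'
      · left; (clear * - hA h3'; omega)
      · right; (clear * - hB h3'; omega)
    rcases h3 with h3 | h3
    · have hall : ∀ r : ℕ, r.Prime → r ∣ n₁ k ∨ r ∣ n₂ k → r ∣ B := by
        intro r hr hrn
        rcases cover r hr hrn with h | h | h
        · exact absurd (h.trans hp2) (H.ne_two hrn)
        · exact absurd (cA hr Nat.prime_three h h3) (H.not_three hrn)
        · exact h
      exact hc (cB hr₁ hr₂ (hall r₁ hr₁ (Or.inl hrn₁)) (hall r₂ hr₂ (Or.inr hrn₂)))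
    · have hall : ∀ r : ℕ, r.Prime → r ∣ n₁ k ∨ r ∣ n₂ k → r ∣ A := by
        intro r hr hrn
        rcases cover r hr hrn with h | h | h
        · exact absurd (h.trans hp2) (H.ne_two hrn)
        · exact h
        · exact absurd (cB hr Nat.prime_three h h3) (H.not_three hrn)
      exact hc (cA hr₁ hr₂ (hall r₁ hr₁ (Or.inl hrn₁)) (hall r₂ hr₂ (Or.inr hrn₂)))
  · -- `u` odd
    have hg : Nat.gcd 2 (u - 1) = 2 := Nat.gcd_eq_left (by (clear * - hu2; omega))
    rw [hg] at hA hB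
    -- the odd half `Y`
    obtain ⟨Y, hcY, hcovY, hY⟩ : ∃ Y : ℕ, (∀ {r s : ℕ}, r.Prime → s.Prime → r ∣ Y → s ∣ Y → Conn S r s) ∧
        (∀ r : ℕ, r.Prime → r ∣ n₁ k ∨ r ∣ n₂ k → r = p ∨ r ∣ Y) ∧ ((Y = A ∧ u % 4 = 3) ∨ (Y = B ∧ u % 4 = 1)) := by
      have h24 : u % 4 = 3 ∨ u % 4 = 1 := by (clear * - hu2; omega)
      rcases h24 with h24 | h24
      · refine ⟨A, cA, fun r hr hrn => ?_, Or.inl ⟨rfl, h24⟩⟩
        rcases cover r hr hrn with h | h | h
        · exact Or.inl h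
        · exact Or.inr h
        · exact absurd (cB hr Nat.prime_two h (by (clear * - hB h24; omega))) (H.not_two hrn)
      · refine ⟨B, cB, fun r hr hrn => ?_, Or.inr ⟨rfl, h24⟩⟩
        rcases cover r hr hrn with h | h | h
        · exact Or.inl h
        · exact absurd (cA hr Nat.prime_two h (by (clear * - hA h24; omega))) (H.not_two hrn)
        · exact Or.inr h
    -- one of the two numbers is `p`
    obtain ⟨n, n', hnn, hpn, hYn⟩ : ∃ n n' : ℕ, ((n = n₁ k ∧ n' = n₂ k) ∨ (n = n₂ k ∧ n' = n₁ k)) ∧ p = n ∧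
        ∀ t : ℕ, t.Prime → t ∣ Y → t ∣ n' := by
      have base : ∀ n n' : ℕ, ((n = n₁ k ∧ n' = n₂ k) ∨ (n = n₂ k ∧ n' = n₁ k)) → p ∣ n →
          (∀ {r s : ℕ}, r ∣ n' → Conn S r s → s ∣ n') → (∀ r : ℕ, r.Prime → r ∣ n → r ∣ n' → False) →
          p = n ∧ ∀ t : ℕ, t.Prime → t ∣ Y → t ∣ n' := by
        intro n n' hnn hpn hcn hnb
        have hn1 : 1 < n := by
          rcases hnn with ⟨rfl, -⟩ | ⟨rfl, -⟩
          · exact H.h1.one_lt
          · exact H.h2.one_lt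
        have hn1' : 1 < n' := by
          rcases hnn with ⟨-, rfl⟩ | ⟨-, rfl⟩
          · exact H.h2.one_lt
          · exact H.h1.one_lt
        obtain ⟨s, hs, hsn⟩ := Nat.exists_prime_and_dvd hn1'.ne'
        have hsp : s ≠ p := by
          rintro rfl
          exact hnb s hs hpn hsn
        have hsY : s ∣ Y := (hcovY s hs (by rcases hnn with ⟨-, rfl⟩ | ⟨-, rfl⟩ <;> (clear * - k u A B Y hY s hsn; tauto))).resolve_left hsp
        have hYn : ∀ t : ℕ, t.Prime → t ∣ Y → t ∣ n' := fun t ht htY => hcn hsn (hcY hs ht hsY htY)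
        have hpow := Nat.eq_prime_pow_of_unique_prime_dvd (n := n) (p := p) (by omega) fun {d} hd hdn => by
          rcases hcovY d hd (by rcases hnn with ⟨rfl, -⟩ | ⟨rfl, -⟩ <;> (clear * - hdn k u A B Y hY d; tauto)) with h | h
          · exact h
          · exact (hnb d hd hdn (hYn d hd h)).elim
        have h6 : p % 6 = 1 := H.mod_six hp (by rcases hnn with ⟨rfl, -⟩ | ⟨rfl, -⟩ <;> (clear * - hpn k p u A B Y hY; tauto))
        have h2 := size_prime H.hk hp h6 (a := n.primeFactorsList.length) (by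
          intro h0
          rw [h0, pow_zero] at hpow
          omega) (by (clear * - hnn; tauto)) hpow.symm
        exact ⟨h2.1, hYn⟩
      have hpp : p ∣ n₁ k ∨ p ∣ n₂ k := by
        rcases hcovY r₁ hr₁ (Or.inl hrn₁) with h | h
        · exact Or.inl (h ▸ hrn₁)
        · rcases hcovY r₂ hr₂ (Or.inr hrn₂) with h' | h'
          · exact Or.inr (h' ▸ hrn₂)
          · exact absurd (hcY hr₁ hr₂ h h') hc
      rcases hpp with h | h
      · have := base (n₁ k) (n₂ k) (Or.inl ⟨rfl, rfl⟩) h (fun h hc => H.conn₂ h hc)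
          (fun r hr h1 h2 => H.not_both hr h1 h2)
        exact ⟨_, _, Or.inl ⟨rfl, rfl⟩, this⟩
      · have := base (n₂ k) (n₁ k) (Or.inr ⟨rfl, rfl⟩) h (fun h hc => H.conn₁ h hc)
          (fun r hr h1 h2 => H.not_both hr h2 h1)
        exact ⟨_, _, Or.inr ⟨rfl, rfl⟩, this⟩
    have hn' : ∀ t : ℕ, t ∣ n' → t ∣ n₁ k ∨ t ∣ n₂ k := by
      intro t ht
      rcases hnn with ⟨-, rfl⟩ | ⟨-, rfl⟩ <;> (clear * - k u A B Y hY t ht; tauto)
    have hnor : n = n₁ k ∨ n = n₂ k := by (clear * - hnn; tauto)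
    have h6 : p % 6 = 1 := H.mod_six hp (by
      rw [hpn]
      exact hnor.imp (fun h => dvd_of_eq h) (fun h => dvd_of_eq h))
    have hu3 : u % 3 = 1 := by
      have h := Nat.pow_mod p f 3
      rw [show p % 3 = 1 by omega, one_pow, ← hF] at h
      omega
    rcases hY with ⟨rfl, h43⟩ | ⟨rfl, h41⟩
    · -- `u = 3` modulo 4
      have h3 : 3 ∣ Y := by (clear * - hu3 h43 hA; omega)
      have := H.mod_six Nat.prime_three (hn' 3 (hYn 3 Nat.prime_three h3))
      omega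
    · -- `u = 1` modulo 4
      rcases Nat.even_or_odd f with hf | hf
      · -- `f` even
        have hdiv : p + 1 ∣ u - 1 := by
          obtain ⟨j, rfl⟩ := hf
          have h1 : p ^ 2 - 1 ∣ (p ^ 2) ^ j - 1 ^ j := Nat.sub_dvd_pow_sub_pow (p ^ 2) 1 j
          rw [one_pow, ← pow_mul, two_mul, ← hF] at h1
          refine Dvd.dvd.trans ⟨p - 1, ?_⟩ h1
          have := Nat.sq_sub_sq p 1
          rwa [one_pow] at this
        have hpow := Nat.eq_prime_pow_of_unique_prime_dvd (n := p + 1) (p := 2) (by omega) fun {d} hd hdn => by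
          by_contra hd2
          have hdA : d ∣ A := by
            have h1 : d ∣ u - 1 := hdn.trans hdiv
            have h2 : u - 1 = 2 * A := by (clear * - hA h41; omega)
            rw [h2] at h1
            exact (hd.dvd_mul.1 h1).resolve_left fun h => hd2 ((Nat.prime_dvd_prime_iff_eq hd Nat.prime_two).1 h)
          have hd2c : Conn S d 2 := cA hd Nat.prime_two hdA (by (clear * - hA h41; omega))
          have hdS : d ∣ Nat.card S := by
            have h1 : A ∣ Nat.card S := hgA ▸ orderOf_dvd_natCard gA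
            exact hdA.trans h1
          rcases H.hπ d hd hdS with h | h | h | h
          · rw [h] at hdn
            omega
          · exact hd2 (arith_two hnn hd (hpn ▸ hdn) h)
          · exact H.not_two (Or.inl h) hd2c
          · exact H.not_two (Or.inr h) hd2c
        exact fin_two H.hk hnor (hpn ▸ hpow)
      · -- `f` odd
        have hdiv : p + 1 ∣ u + 1 := by
          have h1 := Odd.nat_add_dvd_pow_add_pow p 1 hf
          rwa [one_pow, ← hF] at h1
        have hodd : p % 2 = 1 := by omega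
        obtain ⟨z, hz⟩ : ∃ z, p + 1 = 2 * z := ⟨(p + 1) / 2, by (clear * - h6; omega)⟩
        have hzY : z ∣ Y := by
          have h2 : u + 1 = 2 * Y := by (clear * - h41 hB; omega)
          rw [hz, h2] at hdiv
          exact Nat.dvd_of_mul_dvd_mul_left (by norm_num) hdiv
        have hpow := Nat.eq_prime_pow_of_unique_prime_dvd (n := z) (p := 7) (by omega) fun {d} hd hdn =>
          arith_seven hnn hd (by rw [← hpn, hz]; exact hdn.mul_left _) (hYn d hd (hdn.trans hzY))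
        rw [hpow, hpn] at hz
        exact fin_seven H.hk hnor hz

end Cfsg.Agent.H203.GI
end

-- part: H203/GI/RowLie
section
/-!
# `S` of Lie type in characteristic `p ≠ 3` (helper203, for S3635, `L = G₂(3^k)`)
-/

set_option autoImplicit false

namespace Cfsg.Agent.H203.GI

open Cfsg Cfsg.Agent.H493.PG Cfsg.Agent.H493.PGRows
open Cfsg.Agent

universe u

variable {k : ℕ}

/-- **`PSL₃(2)`, `PSL₃(4)`** -/
theorem no_psl_three {F : Type} [Field F] [Fintype F] (hF : Fintype.card F = 2 ∨ Fintype.card F = 4)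
    (H : Hyp k (Matrix.ProjectiveSpecialLinearGroup (Fin 3) F)) : False := by
  refine H.no_list (a := 7) (b := 7) (c := 7) (by norm_num) (by norm_num) (by norm_num) fun r hr hrn => ?_
  have hd := H.dvd_card hr hrn
  have h6 := H.mod_six hr hrn
  have h20160 : Nat.card (Matrix.ProjectiveSpecialLinearGroup (Fin 3) F) ∣ 20160 := by
    have h := Cfsg.Agent.S0243.result (F := F) rfl 3 (by norm_num)
    rcases hF with hF | hF
    · rw [hF, Fin.prod_univ_three] at h
      simp only [Fin.val_zero, Fin.val_one, Fin.val_two] at h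
      norm_num at h
      rw [h]
      norm_num
    · rw [hF, Fin.prod_univ_three] at h
      simp only [Fin.val_zero, Fin.val_one, Fin.val_two] at h
      norm_num at h
      have : Nat.card (Matrix.ProjectiveSpecialLinearGroup (Fin 3) F) = 20160 := by omega
      rw [this]
  have h1 : r ∣ 2 ^ 6 * 3 ^ 2 * 5 * 7 := by
    have := hd.trans h20160
    rwa [show 20160 = 2 ^ 6 * 3 ^ 2 * 5 * 7 by norm_num] at this
  left
  rcases hr.dvd_mul.1 h1 with h1 | h1
  · exfalso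
    rcases hr.dvd_mul.1 h1 with h1 | h1
    · rcases hr.dvd_mul.1 h1 with h1 | h1
      · have := (Nat.prime_dvd_prime_iff_eq hr Nat.prime_two).1 (hr.dvd_of_dvd_pow h1)
        omega
      · have := (Nat.prime_dvd_prime_iff_eq hr Nat.prime_three).1 (hr.dvd_of_dvd_pow h1)
        omega
    · have := (Nat.prime_dvd_prime_iff_eq hr Nat.prime_five).1 h1
      omega
  · exact (Nat.prime_dvd_prime_iff_eq hr (by norm_num)).1 h1

/-- **`PSU₆(2)`** -/
theorem no_psu_six {F : Type} [Field F] [Fintype F] {q : ℕ} (hq : q = 2) (hF : Fintype.card F = q ^ 2)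
    (H : Hyp k (PSU 6 F q)) : False := by
  subst hq
  refine H.no_list (a := 7) (b := 11) (c := 11) (by norm_num) (by norm_num) (by norm_num) fun r hr hrn => ?_
  rcases H948.UMain.psu_six_two hF hr (H.dvd_card hr hrn) with h | h | h
  · exact absurd (conn_of h.conn) (H.not_two hrn)
  · exact Or.inl h
  · exact Or.inr (Or.inl h)

/-- **`PΩ⁻(u)`**, `u ≠ 3` -/
theorem no_ominus {F : Type} [Field F] [Fintype F] (hF : Fintype.card F ≠ 3) {m : ℕ} (hm : 4 ≤ m) {a b : F}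
    (hab : ∀ z₁ z₂ : F, z₁ ^ 2 + a * z₁ * z₂ + b * z₂ ^ 2 = 0 → z₁ = 0 ∧ z₂ = 0)
    (H : Hyp k (POmega F (quadFormMinus (m - 1) F a b))) [Finite (POmega F (quadFormMinus (m - 1) F a b))] : False := by
  obtain ⟨r, s, hr, hs, hrn, hsn, hrd, hsd, hc⟩ := H.exists_pair
  have hcard := Cfsg.Agent.S0294.result (F := F) rfl m hm a b hab
  simp only [← Nat.card_eq_fintype_card] at hcard
  have hsg := H182.Sign.sg_minusForm (F := F) (m - 1) hab
  rw [Nat.sub_add_cancel (by omega)] at hsg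
  have h1 := H182.Orth.minus_three hsg hm hcard hr hs (H.ne_two (Or.inl hrn)) (H.ne_two (Or.inr hsn)) hrd hsd
  rw [LieClassical.OrthForms.coe_minusForm] at h1
  rcases h1 with h1 | h1 | h1 | h1
  · exact H.not_two (Or.inl hrn) (conn_of h1).symm
  · exact H.not_two (Or.inr hsn) (conn_of h1).symm
  · exact hc (conn_of h1)
  · exact hF (by rw [← Nat.card_eq_fintype_card]; exact h1.1)

open H426.LieFam in
/-- **Lie type in characteristic `p ≠ 3`** -/
theorem no_lie {S : Type u} [Group S] [Finite S] {p : ℕ} (hp : p.Prime) (hp3 : p ≠ 3) (hl : IsLieTypeChar p S)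
    (h2 : 2 ∣ Nat.card S) (H : Hyp k S) : False := by
  obtain ⟨fam, f, d, N, hIs, hSh⟩ := exists_fam hp hl
  have hf := hSh.f_pos
  have h3 : ∀ {c : ℕ}, c = p ^ f → ¬ 3 ∣ c := by
    rintro c rfl h
    exact hp3 ((Nat.prime_dvd_prime_iff_eq Nat.prime_three hp).1 (Nat.prime_three.dvd_of_dvd_pow h)).symm
  rcases H.tri.fam h2 hp hf hIs with h | ⟨h, h0⟩ | ⟨h, h0⟩ | ⟨h, h0⟩ | ⟨m, h⟩ | h | h | h | h | h | h | h | h
  · subst h
    obtain ⟨-, h4, F, _, _, _, hF, ⟨e⟩⟩ := hIs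
    exact no_psl_two hp hp3 hF (by rw [hF]; exact h4 rfl) (H.congr e)
  · subst h
    obtain ⟨-, h4, F, _, _, _, hF, ⟨e⟩⟩ := hIs
    exact no_psl_three (by rw [hF]; exact h0) (H.congr e)
  · subst h
    exact h3 h0.symm (by norm_num)
  · subst h
    obtain ⟨-, h4, F, _, _, _, hF, ⟨e⟩⟩ := hIs
    exact no_psu_six h0 hF (H.congr e)
  · subst h
    obtain ⟨hm, F, _, _, _, a, b, hF, hab, ⟨e⟩⟩ := hIs
    have : Finite (POmega F (quadFormMinus (m - 1) F a b)) := Finite.of_equiv S e.toEquiv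
    exact no_ominus (fun h => h3 hF (by rw [h])) hm hab (H.congr e)
  · subst h
    obtain ⟨-, F, _, _, _, hF, ⟨e⟩⟩ := hIs
    exact no_g2 (by rw [Nat.card_eq_fintype_card]; exact h3 hF) (H.congr e)
  · subst h
    obtain ⟨F, _, _, _, hF, ⟨e⟩⟩ := hIs
    exact no_f4 (H.congr e)
  · subst h
    obtain ⟨F, _, _, _, hF, ⟨e⟩⟩ := hIs
    exact no_e7 (by rw [Nat.card_eq_fintype_card]; exact h3 hF) (H.congr e)
  · subst h
    obtain ⟨F, _, _, _, hF, ⟨e⟩⟩ := hIs
    exact no_e8 (H.congr e)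
  · subst h
    obtain ⟨K, _, _, _, hK, ⟨e⟩⟩ := hIs
    exact no_te6 (hp.isPrimePow.pow (by omega)) hK (h3 rfl) (H.congr e)
  · subst h
    obtain ⟨-, m, hm, -, F, _, _, hF, ⟨e⟩⟩ := hIs
    obtain ⟨e'⟩ := Cfsg.Agent.OddCyclic.ClaimC.SzIso.iso hm hF
    exact no_sz hm hF (H.congr (e.trans e'.symm))
  · subst h
    exact hp3 hIs.1
  · subst h
    obtain ⟨-, m, hm, -, K, _, _, hK, ⟨e⟩⟩ := hIs
    exact no_tf4 hm hK (H.congr e)

end Cfsg.Agent.H203.GI
end

-- part: H203/GI/RowSpor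
section
/-!
# `S` alternating, sporadic, the Tits group (helper203, for S3635, `L = G₂(3^k)`)
-/

set_option autoImplicit false

namespace Cfsg.Agent.H203.GI

open Cfsg Cfsg.Agent.H493.PG Cfsg.Agent.H493.PGRows
open Cfsg.Agent

universe u

variable {k : ℕ} {S : Type u} [Group S] [Finite S]

theorem Hyp.no_nr (H : Hyp k S) {N : ℕ} (R : List ℕ) (hN : Nat.card S = N)
    (h : ∀ r, r.Prime → r ∣ N → r ∉ R → H94.PG.Sp.Nr S r) (a b c : ℕ) (habc : a < 73 ∧ b < 73 ∧ c < 73)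
    (hR : ∀ r ∈ R, r % 6 = 1 → r = a ∨ r = b ∨ r = c) : False := by
  refine H.no_list habc.1 habc.2.1 habc.2.2 fun r hr hrn => ?_
  by_cases hrR : r ∈ R
  · exact hR r hrR (H.mod_six hr hrn)
  · exact absurd (conn_of (h r hr (hN ▸ H.dvd_card hr hrn) hrR).conn) (H.not_two hrn)

/-- **alternating groups** -/
theorem no_alt (H : Hyp k S) (h : IsAlternating S) : False := by
  obtain ⟨n, hn, ⟨e⟩⟩ := h
  have H := H.congr e
  obtain ⟨r, s, hr, hs, hrn, hsn, hrd, hsd, hc⟩ := H.exists_pair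
  have key : ∀ t : ℕ, t.Prime → t ∣ n₁ k ∨ t ∣ n₂ k → t ≤ n ∧ n ≤ t + 3 := by
    intro t ht htn
    constructor
    · have h1 : t ∣ n.factorial := by
        have h2 : Nat.card (alternatingGroup (Fin n)) ∣ Nat.card (Equiv.Perm (Fin n)) :=
          Subgroup.card_subgroup_dvd_card _
        rw [Nat.card_eq_fintype_card (α := Equiv.Perm (Fin n)), Fintype.card_perm, Fintype.card_fin] at h2
        exact (H.dvd_card ht htn).trans h2
      exact (Nat.Prime.dvd_factorial ht).1 h1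
    · by_contra hlt
      exact H.not_two htn (conn_alt ht (H.ne_two htn) (by omega))
  have h1 := key r hr (Or.inl hrn)
  have h2 := key s hs (Or.inr hsn)
  have h3 := H.mod_six hr (Or.inl hrn)
  have h4 := H.mod_six hs (Or.inr hsn)
  have : r = s := by omega
  exact H.not_both hr hrn (this ▸ hsn)

open H94.PG.Sp in
/-- **the Tits group** -/
theorem no_tits (H : Hyp k S) (h : Lie.IsoTits S) : False :=
  H.no_nr [13] (NotCT.Orders.tits h) (fun _ hr hd hR => nr_tits h hr hd hR) 13 13 13 (by decide) (by decide)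

open H94.PG.Sp in
/-- **sporadic groups** -/
theorem no_spor (H : Hyp k S) (h : IsSporadicGroup S) : False := by
  rcases h with h | h | h | h | h | h | h | h | h | h | h | h | h | h | h | h | h | h | h | h | h | h | h | h | h | h
  · exact H.no_nr [5, 11] (NotCT.Orders.m11 h) (fun r hr hd hR => nr_m11' h hr hd hR) 7 7 7 (by decide) (by decide)
  · exact H.no_nr [11] (NotCT.Orders.m12 h) (fun r hr hd hR => nr_m12' h hr hd hR) 7 7 7 (by decide) (by decide)
  · exact H.no_nr [5, 7, 11] (NotCT.Orders.m22 h) (fun r hr hd hR => nr_m22' h hr hd hR) 7 7 7 (by decide) (by decide)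
  · exact H.no_nr [5, 11, 23] (NotCT.Orders.m23 h) (fun r hr hd hR => nr_m23' h hr hd hR) 7 7 7 (by decide) (by decide)
  · exact H.no_nr [11, 23] (NotCT.Orders.m24 h) (fun r hr hd hR => nr_m24' h hr hd hR) 7 7 7 (by decide) (by decide)
  · exact H.no_nr [7, 11, 19] (NotCT.Orders.j1 h) (fun r hr hd hR => nr_j1 h hr hd hR) 7 19 7 (by decide) (by decide)
  · exact H.no_nr [7] (NotCT.Orders.j2 h) (fun r hr hd hR => nr_j2 h hr hd hR) 7 7 7 (by decide) (by decide)
  · exact H.no_nr [17, 19] (NotCT.Orders.j3 h) (fun r hr hd hR => nr_j3 h hr hd hR) 19 7 7 (by decide) (by decide)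
  · exact H.no_nr [23, 29, 31, 37, 43] (NotCT.Orders.j4 h) (fun r hr hd hR => nr_j4 h hr hd hR) 31 37 43 (by decide) (by decide)
  · exact H.no_nr [23] (NotCT.Orders.co1 h) (fun r hr hd hR => nr_co1 h hr hd hR) 7 7 7 (by decide) (by decide)
  · exact H.no_nr [11, 23] (NotCT.Orders.co2 h) (fun r hr hd hR => nr_co2 h hr hd hR) 7 7 7 (by decide) (by decide)
  · exact H.no_nr [23] (NotCT.Orders.co3 h) (fun r hr hd hR => nr_co3 h hr hd hR) 7 7 7 (by decide) (by decide)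
  · exact H.no_nr [11] (NotCT.Orders.mcl h) (fun r hr hd hR => nr_mcl h hr hd hR) 7 7 7 (by decide) (by decide)
  · exact H.no_nr [7, 11] (NotCT.Orders.hs h) (fun r hr hd hR => nr_hs h hr hd hR) 7 7 7 (by decide) (by decide)
  · exact H.no_nr [11, 13] (NotCT.Orders.suz h) (fun r hr hd hR => nr_suz h hr hd hR) 13 7 7 (by decide) (by decide)
  · exact H.no_nr [17] (NotCT.Orders.he h) (fun r hr hd hR => nr_he h hr hd hR) 7 7 7 (by decide) (by decide)
  · exact H.no_nr [29] (NotCT.Orders.ru h) (fun r hr hd hR => nr_ru h hr hd hR) 7 7 7 (by decide) (by decide)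
  · exact H.no_nr [11, 19, 31] (NotCT.Orders.on h) (fun r hr hd hR => nr_on h hr hd hR) 19 31 7 (by decide) (by decide)
  · exact H.no_nr [31, 37, 67] (NotCT.Orders.ly h) (fun r hr hd hR => nr_ly h hr hd hR) 31 37 67 (by decide) (by decide)
  · exact H.no_nr [13] (NotCT.Orders.fi22 h) (fun r hr hd hR => nr_fi22 h hr hd hR) 13 7 7 (by decide) (by decide)
  · exact H.no_nr [17, 23] (NotCT.Orders.fi23 h) (fun r hr hd hR => nr_fi23 h hr hd hR) 7 7 7 (by decide) (by decide)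
  · exact H.no_nr [17, 23, 29] (NotCT.Orders.fi24 h) (fun r hr hd hR => nr_fi24 h hr hd hR) 7 7 7 (by decide) (by decide)
  · exact H.no_nr [19] (NotCT.Orders.hn h) (fun r hr hd hR => nr_hn h hr hd hR) 19 7 7 (by decide) (by decide)
  · exact H.no_nr [13, 19, 31] (NotCT.Orders.th h) (fun r hr hd hR => nr_th h hr hd hR) 13 19 31 (by decide) (by decide)
  · exact H.no_nr [31, 47] (NotCT.Orders.b h) (fun r hr hd hR => nr_b h hr hd hR) 31 7 7 (by decide) (by decide)
  · exact H.no_nr [29, 41, 59, 71] (NotCT.Orders.m h) (fun r hr hd hR => nr_m h hr hd hR) 7 7 7 (by decide) (by decide)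

end Cfsg.Agent.H203.GI
end

-- part: H203/GI/TorG2
section
/-!
# The primes of `q² + q + 1` (resp. `q² - q + 1`) are pairwise adjacent in `G₂(q)` (helper203, for S3635)
-/

set_option autoImplicit false

namespace Cfsg.Agent.H203.GI

open CoxeterSystem Subgroup Cfsg Cfsg.Agent Cfsg.Lie Cfsg.Lie.ChevalleyDatum
open Cfsg.Agent.ChevalleyStructure Cfsg.Agent.ChevalleyStructure.Elts Cfsg.Agent.ChevalleyStructure.CoxeterGeom
  Cfsg.Agent.ChevalleyStructure.CoxeterGeomTypes Cfsg.Agent.ChevalleyStructure.NPerm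
open Cfsg.Agent.Tits.Roots Cfsg.Agent.Tits.Core Cfsg.Agent.Nodes.Reps Cfsg.Agent.Nodes.BNOf
  Cfsg.Agent.Nodes.RGDChev Cfsg.Agent.Nodes.Bruhat
open Cfsg.Agent.KFacts.RgdField Cfsg.Agent.KFacts.RgdChevCoord Cfsg.Agent.BpExc.TorCent Cfsg.Agent.BpExc.TorChev
open Cfsg.Agent.BpExc.Tow Cfsg.Agent.BpExc.TowChev Cfsg.Agent.BpExc.FamExt Cfsg.Agent.BpExc.FamUntw
  Cfsg.Agent.BpExc.FamInst Cfsg.Agent.BpExc.LangFr Cfsg.Agent.BpExc.FamField
open Cfsg.Agent.H378.TorDual Cfsg.Agent.H378.TorChar Cfsg.Agent.H378.TorFin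
open Cfsg.Agent.H129.WData
open Cfsg.Agent.H493.PGTorus Cfsg.Agent.H493.PGCyc

universe u

section

variable {D : ChevalleyDatum} {l : ℕ} {M : CoxeterMatrix (Fin l)} (hp : IsType D l M) {W : Type*} [Group W] [Finite W]
  (cs : CoxeterSystem M W)

/-- two different primes dividing the values of two polynomials at `q` with eigenvectors of the same `w` are adjacent -/
theorem adj_of_eig {d : ℕ} {B : Fin l → Fin l → ℤ} (hB : InvC D l d B) (hd : d ≠ 0) {F : Type u} [Field F] [Finite F]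
    {w : W} {Th : Fin l → Fin l → ℤ} (hw : ∀ j, rep cs hp.isCartan w (sr j) = Th j)
    {f : ℕ} {c : Fin (f + 1) → ℤ} {V : Fin (f + 1) → Fin l → ℤ} {U : Fin l → ℤ} (h : EigOK Th c V U)
    {f' : ℕ} {c' : Fin (f' + 1) → ℤ} {V' : Fin (f' + 1) → Fin l → ℤ} {U' : Fin l → ℤ} (h' : EigOK Th c' V' U')
    {r s : ℕ} (hr : r.Prime) (hs : s.Prime) (hrs : r ≠ s) (hrd : ¬ r ∣ d) (hsd : ¬ s ∣ d)
    (h1 : (r : ℤ) ∣ pv c (Nat.card F)) (h2 : (s : ℤ) ∣ pv c' (Nat.card F)) :
    ∃ x : ↥(D.group F), orderOf x = r * s := by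
  obtain ⟨φ, hφ⟩ := exists_hom hp cs hB hd (F := F) w
  have hq : (2 : ℤ) ≤ (Nat.card F : ℤ) := by
    exact_mod_cast Finite.one_lt_card
  have hwn : (rep cs hp.isCartan w) ^ Nat.card W = 1 := by
    rw [← map_pow, pow_card_eq_one', map_one]
  obtain ⟨x, hx⟩ := exists_order (rep_apply_eq hp cs hw) Nat.card_pos hwn h hq hr h1
  obtain ⟨y, hy⟩ := exists_order (rep_apply_eq hp cs hw) Nat.card_pos hwn h' hq hs h2
  have key : ∀ {t : ℕ} (_ : t.Prime) (_ : ¬ t ∣ d) {z : Multiplicative ((Fin l → ℤ) ⧸ LinearMap.range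
      (rep cs hp.isCartan w - ((Nat.card F : ℕ) : ℤ) • (1 : Module.End ℤ (Fin l → ℤ))))} (_ : orderOf z = t),
      orderOf (φ z) = t := by
    intro t ht htd z hz
    have : Fact t.Prime := ⟨ht⟩
    refine orderOf_eq_prime ?_ ?_
    · rw [← map_pow, ← hz, pow_orderOf_eq_one, map_one]
    · intro h0
      exact htd (hz ▸ orderOf_dvd_of_pow_eq_one (hφ z h0))
  have e1 := key hr hrd hx
  have e2 := key hs hsd hy
  refine ⟨φ x * φ y, ?_⟩
  have hc : Commute (φ x) (φ y) := by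
    show φ x * φ y = φ y * φ x
    rw [← map_mul, ← map_mul, mul_comm]
  rw [hc.orderOf_mul_eq_mul_orderOf_of_coprime (by rw [e1, e2]; exact (Nat.coprime_primes hr hs).2 hrs), e1, e2]

end

variable {F : Type u} [Field F] [Finite F]

theorem adj3 {r s : ℕ} (hr : r.Prime) (hs : s.Prime) (hrs : r ≠ s)
    (h1 : (r : ℤ) ∣ pv c3 (Nat.card F)) (h2 : (s : ℤ) ∣ pv c3 (Nat.card F)) :
    ∃ x : ↥(chevG2.group F), orderOf x = r * s := by
  have := H493.PGG2.finW
  exact adj_of_eig H493.PGG2.hp CoxeterMatrix.G₂.toCoxeterSystem H129.TorusChar.invC_G2 one_ne_zero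
    (chain_rep H493.PGG2.hp CoxeterMatrix.G₂.toCoxeterSystem H493.PGG2.hA H493.PGG2.chain3_ok) H493.PGG2.eig3
    H493.PGG2.eig3 hr hs hrs (fun h => hr.one_lt.ne' (Nat.dvd_one.1 h)) (fun h => hs.one_lt.ne' (Nat.dvd_one.1 h)) h1 h2

/-- **the primes of `q² + q + 1`** -/
theorem clq₁ {k : ℕ} (hF : Nat.card F = 3 ^ k) : Clq ↥(chevG2.group F) (n₁ k) := by
  intro r s hr hs hrs h1 h2
  have e : pv c3 (Nat.card F : ℕ) = (n₁ k : ℤ) := by rw [pv_c3, hF, cast_n₁]; push_cast; rfl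
  exact adj3 hr hs hrs (e ▸ Int.natCast_dvd_natCast.2 h1) (e ▸ Int.natCast_dvd_natCast.2 h2)

end Cfsg.Agent.H203.GI
end

-- part: H203/GI/Main
section
/-!
# The identification for S3635, `L = G₂(3^k)`, `k ≥ 2` (helper203)

* `IdentC` : `Ident` with the extra hypothesis that the primes of `n₁` are pairwise adjacent in `S`;
* `ident_g2` : `IdentC L (n₁ k) (n₂ k)` for `L` of the family `.g2` over the field with `3 ^ k` elements.
-/

set_option autoImplicit false

namespace Cfsg.Agent.H203.GI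

open Cfsg Cfsg.Agent
open Cfsg.Agent.H415.PG3 (Ip Cl)

universe u v

/-- the identification; the primes of `n₁` are pairwise adjacent in `S` -/
def IdentC (L : Type v) [Group L] (n₁ n₂ : ℕ) : Prop :=
  ∀ (S : Type u) [Group S] [Finite S], IsSimpleGroup S → ¬ IsMulCommutative S → H415.PG3.Hyp L S n₁ n₂ → Clq S n₁ →
    Nonempty (S ≃* L)

variable {k : ℕ} {L : Type v} [Group L]

/-- primes of `|G₂(3^k)|` -/
theorem prime_g2 (hL : H426.LieFam.Fam.Is 3 k L .g2) {r : ℕ} (hr : r.Prime) (h : r ∣ Nat.card L) :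
    r = 3 ∨ r ∣ (3 ^ k) ^ 2 - 1 ∨ r ∣ n₁ k ∨ r ∣ n₂ k := by
  obtain ⟨-, F, _, _, _, hF, ⟨e⟩⟩ := hL
  rw [Nat.card_congr e.toEquiv, S1059.result hF] at h
  have hfac : (3 ^ k) ^ 6 - 1 = ((3 ^ k) ^ 2 - 1) * (n₁ k * n₂ k) := by
    have h1 : 1 ≤ (3 ^ k) ^ 6 := Nat.one_le_pow _ _ (by positivity)
    have h2 : 1 ≤ (3 ^ k) ^ 2 := Nat.one_le_pow _ _ (by positivity)
    have : (((3 ^ k) ^ 6 - 1 : ℕ) : ℤ) = (((3 ^ k) ^ 2 - 1) * (n₁ k * n₂ k) : ℕ) := by
      push_cast [h1, h2]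
      rw [cast_n₁, cast_n₂]
      ring
    exact_mod_cast this
  rcases hr.dvd_mul.1 h with h | h
  · rcases hr.dvd_mul.1 h with h | h
    · exact Or.inl ((Nat.prime_dvd_prime_iff_eq hr Nat.prime_three).1 (hr.dvd_of_dvd_pow (hr.dvd_of_dvd_pow h)))
    · exact Or.inr (Or.inl h)
  · rw [hfac] at h
    rcases hr.dvd_mul.1 h with h | h
    · exact Or.inr (Or.inl h)
    · exact Or.inr (Or.inr (hr.dvd_mul.1 h))

theorem two_dvd {S : Type u} [Group S] [Finite S] (hs : IsSimpleGroup S) (hna : ¬ IsMulCommutative S) :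
    2 ∣ Nat.card S := by
  by_contra h
  have hodd : Odd (Nat.card S) := by rw [← Nat.not_even_iff_odd, even_iff_two_dvd]; exact h
  have hsol := Cfsg.Agent.S0205.result hodd
  exact hna ⟨⟨IsSimpleGroup.comm_iff_isSolvable.2 hsol⟩⟩

/-- **Identification of `G₂(3^k)`, `k ≥ 2`.** -/
theorem ident_g2 [Finite L] (hcl : Cl.{u}) (hk : 2 ≤ k) (hL : H426.LieFam.Fam.Is 3 k L .g2) :
    IdentC.{u, v} L (n₁ k) (n₂ k) := by
  intro S _ _ hs hna hS hcq
  have hk1 : 1 ≤ k := by omega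
  have h2 := two_dvd hs hna
  have H : Hyp k S := ⟨hk, hS.i₁, hS.i₂, fun r hr hd => prime_g2 hL hr (hS.pi r hr hd), hcq⟩
  rcases PreUniq.known_cases (hcl S) with h | h | ⟨p, hp, h⟩ | h | h
  · exfalso
    have h1 : Fact (Nat.card S).Prime := ⟨h⟩
    have h3 : IsCyclic S := isCyclic_of_prime_card (p := Nat.card S) rfl
    exact hna IsCyclic.isMulCommutative
  · exact (no_alt H h).elim
  · by_cases hp3 : p = 3
    · subst hp3
      exact H200.PG.iso_g2 hk hL h h2 hS.pi hS.i₁ hS.i₂ (coprime_n hk1)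
    · exact (no_lie hp hp3 h h2 H).elim
  · exact (no_tits H h).elim
  · exact (no_spor H h).elim

/-- the primes of `n₁` are pairwise adjacent in `L` -/
theorem clq_L₁ (hL : H426.LieFam.Fam.Is 3 k L .g2) : Clq L (n₁ k) := by
  obtain ⟨-, F, _, _, _, hF, ⟨e⟩⟩ := hL
  exact (clq₁ (F := F) (by rw [Nat.card_eq_fintype_card, hF])).congr e.symm

end Cfsg.Agent.H203.GI
end

private theorem dce_281350258ba9 : _root_.True := by
  try have : _root_.True := by simp only [_root_.Cfsg.Agent.H203.GI.n₁.eq_1]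
  try have : _root_.True := by simp only [_root_.Cfsg.Agent.H203.GI.n₂.eq_1]
  exact _root_.True.intro
end

-- part: H203/GI/IpG2
section
set_option linter.all false
open scoped Cfsg.Agent.FastGrp

/-!
# `q² + q + 1`, `q² - q + 1` are isolated in `G₂(q)`, `q = 3^k` (helper203, for S3635)
-/

set_option autoImplicit false

namespace Cfsg.Agent.H203.GI

open Cfsg Cfsg.Agent
open Cfsg.Agent.H415.PG3 (Ip)

universe u v

section

variable {F : Type u} [Field F] [Finite F] {k : ℕ}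

/-- centralizers of elements of prime order `ℓ` dividing `Φ_m(q)`, `m = 3, 6` -/
theorem card_cent {m n : ℕ} (hF : Nat.card F = 3 ^ k) (hm : m = 3 ∨ m = 6) {ℓ : ℕ} (hℓ : ℓ.Prime)
    (h6 : ℓ % 6 = 1) (hn : (Polynomial.cyclotomic m ℤ).eval ((Nat.card F : ℕ) : ℤ) = (n : ℤ)) (hd : ℓ ∣ n)
    {x : ↥(Cfsg.Lie.chevG2.group F)} (hx : orderOf x = ℓ) :
    Nat.card ↥(Subgroup.centralizer {x}) = n := by
  have hp : Cfsg.Agent.Nodes.RGDChev.IsType Cfsg.Lie.chevG2 2 CoxeterMatrix.G₂ := by simp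
  have hW : Nat.card CoxeterMatrix.G₂.Group = 12 :=
    Cfsg.Agent.S1092.result (⟨2, CoxeterMatrix.G₂⟩, 12) (by simp)
  have : Finite CoxeterMatrix.G₂.Group := Nat.finite_of_card_ne_zero (by rw [hW]; norm_num)
  have hl12 : ¬ ℓ ∣ 12 := by
    intro h
    have h1 : ℓ ∣ 2 ^ 2 * 3 := h
    rcases hℓ.dvd_mul.1 h1 with h2 | h2
    · have := (Nat.prime_dvd_prime_iff_eq hℓ Nat.prime_two).1 (hℓ.dvd_of_dvd_pow h2)
      omega
    · have := (Nat.prime_dvd_prime_iff_eq hℓ Nat.prime_three).1 h2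
      omega
  have h1 := Cfsg.Agent.H378.Regular.centralizer_fin hp CoxeterMatrix.G₂.toCoxeterSystem
    Cfsg.Agent.H129.TorusChar.invC_G2 (F := F) (x := x) hℓ (by
      rw [hF]
      intro h
      have := (Nat.prime_dvd_prime_iff_eq hℓ Nat.prime_three).1 (hℓ.dvd_of_dvd_pow h)
      omega) hx
    (by rw [hW]; exact hl12) (m := m) (by omega)
    (by rcases hm with rfl | rfl <;> decide) (fun h => hl12 (h.trans (by rcases hm with rfl | rfl <;> decide)))
    (by rw [hn]; exact_mod_cast hd)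
  rw [h1.2.1, hn, Int.natAbs_natCast]

theorem isol_of_cent {G : Type u} [Group G] [Finite G] {n : ℕ}
    (h : ∀ (x : G) (ℓ : ℕ), ℓ.Prime → ℓ ∣ n → orderOf x = ℓ → Nat.card ↥(Subgroup.centralizer {x}) = n)
    {r s : ℕ} (hr : r.Prime) (hs : s.Prime) (hrn : r ∣ n) (hsn : ¬ s ∣ n) : ¬ ∃ x : G, orderOf x = r * s := by
  rintro ⟨g, hg⟩
  have hx : orderOf (g ^ s) = r := by
    rw [orderOf_pow' g hs.ne_zero, hg, Nat.gcd_eq_right (Dvd.intro_left r rfl)]
    exact Nat.mul_div_cancel _ hs.pos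
  have h1 := h (g ^ s) r hr hrn hx
  have h2 : g ∈ Subgroup.centralizer {g ^ s} := by
    rw [Subgroup.mem_centralizer_singleton_iff]
    exact (Commute.pow_self g s).eq.symm
  have h3 : orderOf (⟨g, h2⟩ : ↥(Subgroup.centralizer {g ^ s})) ∣ Nat.card ↥(Subgroup.centralizer {g ^ s}) :=
    orderOf_dvd_natCard _
  rw [← Subgroup.orderOf_coe, h1] at h3
  simp only at h3
  rw [hg] at h3
  exact hsn ((Dvd.intro_left r rfl).trans h3)

theorem eval3 (hF : Nat.card F = 3 ^ k) :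
    (Polynomial.cyclotomic 3 ℤ).eval ((Nat.card F : ℕ) : ℤ) = (n₁ k : ℤ) := by
  rw [Polynomial.cyclotomic_three, hF, cast_n₁]
  simp

theorem eval6 (hF : Nat.card F = 3 ^ k) :
    (Polynomial.cyclotomic 6 ℤ).eval ((Nat.card F : ℕ) : ℤ) = (n₂ k : ℤ) := by
  rw [Polynomial.cyclotomic_six, hF, cast_n₂]
  simp

theorem dvd_card_g2 (hF : Nat.card F = 3 ^ k) : n₁ k * n₂ k ∣ Nat.card ↥(Cfsg.Lie.chevG2.group F) := by
  have : Fintype F := Fintype.ofFinite F
  rw [S1059.result (F := F) (q := 3 ^ k) (by rw [← hF, Nat.card_eq_fintype_card])]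
  have hfac : (3 ^ k) ^ 6 - 1 = ((3 ^ k) ^ 2 - 1) * (n₁ k * n₂ k) := by
    have h1 : 1 ≤ (3 ^ k) ^ 6 := Nat.one_le_pow _ _ (by positivity)
    have h2 : 1 ≤ (3 ^ k) ^ 2 := Nat.one_le_pow _ _ (by positivity)
    have : (((3 ^ k) ^ 6 - 1 : ℕ) : ℤ) = (((3 ^ k) ^ 2 - 1) * (n₁ k * n₂ k) : ℕ) := by
      push_cast [h1, h2]
      rw [cast_n₁, cast_n₂]
      ring
    exact_mod_cast this
  rw [hfac]
  exact (Dvd.intro_left _ rfl).mul_left _

/-- **`q² + q + 1`** -/
theorem ip₁ (hk : 1 ≤ k) (hF : Nat.card F = 3 ^ k) : Ip ↥(Cfsg.Lie.chevG2.group F) (n₁ k) where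
  dvd := fun _ _ h => h.trans ((Dvd.intro _ rfl).trans (dvd_card_g2 hF))
  iso := fun r s hr hs hrn hsn => isol_of_cent (fun x ℓ hℓ hd hx =>
    card_cent hF (Or.inl rfl) hℓ (mod_six₁ hk hℓ hd) (eval3 hF) hd hx) hr hs hrn hsn
  not_two_dvd := by have := odd_n₁ k; omega
  one_lt := by
    have : 0 < 3 ^ k := by positivity
    rw [n₁]
    omega

/-- **`q² - q + 1`** -/
theorem ip₂ (hk : 1 ≤ k) (hF : Nat.card F = 3 ^ k) : Ip ↥(Cfsg.Lie.chevG2.group F) (n₂ k) where
  dvd := fun _ _ h => h.trans ((Dvd.intro_left _ rfl).trans (dvd_card_g2 hF))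
  iso := fun r s hr hs hrn hsn => isol_of_cent (fun x ℓ hℓ hd hx =>
    card_cent hF (Or.inr rfl) hℓ (mod_six₂ hk hℓ hd) (eval6 hF) hd hx) hr hs hrn hsn
  not_two_dvd := by have := odd_n₂ k; omega
  one_lt := by
    have h3 : 3 ^ 1 ≤ 3 ^ k := Nat.pow_le_pow_right (by norm_num) hk
    have h4 : 3 * 3 ^ k ≤ (3 ^ k) ^ 2 := by
      rw [sq]
      exact Nat.mul_le_mul_right _ h3
    rw [n₂]
    omega

end

variable {k : ℕ} {L : Type v} [Group L]

theorem ip_L₁ (hk : 1 ≤ k) (hL : H426.LieFam.Fam.Is 3 k L .g2) : Ip L (n₁ k) := by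
  obtain ⟨-, F, _, _, _, hF, ⟨e⟩⟩ := hL
  exact (ip₁ (F := F) hk (by rw [Nat.card_eq_fintype_card, hF])).congr e.symm

theorem ip_L₂ (hk : 1 ≤ k) (hL : H426.LieFam.Fam.Is 3 k L .g2) : Ip L (n₂ k) := by
  obtain ⟨-, F, _, _, _, hF, ⟨e⟩⟩ := hL
  exact (ip₂ (F := F) hk (by rw [Nat.card_eq_fintype_card, hF])).congr e.symm

theorem two_dvd_L (hL : H426.LieFam.Fam.Is 3 k L .g2) : 2 ∣ Nat.card L := by
  obtain ⟨-, F, _, _, _, hF, ⟨e⟩⟩ := hL
  rw [Nat.card_congr e.toEquiv, S1059.result hF]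
  refine dvd_mul_of_dvd_left (dvd_mul_of_dvd_right ?_ _) _
  have h : Odd ((3 ^ k) ^ 2) := Odd.pow (Odd.pow (by decide))
  obtain ⟨z, hz⟩ := h
  exact ⟨z, by omega⟩

end Cfsg.Agent.H203.GI
end

-- part: H564/TW/Val2
section
prune_inst 0x400032040800000000000000600002000000000000008000000002000200020200000800040001120000800000000000001000000000000000000000000000000000020040c10008000000000000000000000000000000000000000000000000000000000
set_option linter.all false
open scoped Cfsg.Agent.FastGrp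

-- part: H564/TW/Main
section
/-!
# Own characteristic of twisted groups in characteristic two: final assembly (helper564)

* `Hyp` : the hypotheses on the system, the homomorphism and the exponents;
* `exists_fix_tw` : modules over an algebraically closed field;
* `fixAll_tw` : nonzero finite modules over `ZMod 2`.
-/

set_option autoImplicit false
set_option linter.unusedSectionVars false
set_option linter.unusedSimpArgs false

namespace Cfsg.Agent.H564.TW

open Finset Polynomial Cfsg.Agent.H45.Uni Cfsg.Agent.H45.UniE TSys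

/-- the hypotheses -/
structure Hyp {J F S ι Φ k G : Type*} [Field F] [Fintype F] [Group S] [Finite S] (E : TSys J F S) [Field k]
    [Algebra F k] [Group G] [DecidableEq ι] [DecidableEq J] [Fintype ι] [Infinite k] (D : FDat ι Φ k G) (φ : S →* G)
    (orb : ι → J) (e : ι → ℕ) (qq : Φ → ℕ) : Prop where
  map : E.Map D φ orb e
  Up : IsPGroup 2 E.U
  Um : IsPGroup 2 E.Um
  qq_pos : ∀ b, 0 < qq b
  cmq : Cmq D.toGDat qq
  low : ∀ (l : ι → ℕ) (hl : ∀ i, l i < qq (D.zi i)), ∀ f ∈ (datQ D qq l hl qq_pos cmq).L,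
    (∀ u ∈ E.U.map φ, ∀ g, f (g * u) = f g) → ∀ n, (∀ m < n, (datQ D qq l hl qq_pos cmq).H m f = 0) →
      (datQ D qq l hl qq_pos cmq).H n f ∈ (datQ D qq l hl qq_pos cmq).K
  lam : ∀ a : J → ℕ, (∀ j, a j < Fintype.card F) → ∃ l : ι → ℕ, (∀ i, l i < qq (D.zi i)) ∧ ∀ j, wt orb e l j = a j

section main

variable {J F S ι Φ k G : Type*} [Field F] [Fintype F] [Group S] [Finite S] {E : TSys J F S} [Field k]
  [Algebra F k] [Group G] [DecidableEq ι] [DecidableEq J] [Fintype ι] [Infinite k] {D : FDat ι Φ k G} {φ : S →* G}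
  {orb : ι → J} {e : ι → ℕ} {qq : Φ → ℕ}

theorem two_dvd (hU : IsPGroup 2 E.U) (j : J) : 2 ∣ Nat.card (E.X j) := by
  have h1 : IsPGroup 2 (E.X j) := hU.to_le (E.X_le j)
  obtain ⟨n, hn⟩ := IsPGroup.iff_card.1 h1
  rw [hn]
  apply dvd_pow_self
  rintro rfl
  rw [pow_zero] at hn
  exact E.X_ne j ((Subgroup.card_eq_one).1 hn)

/-- **`T_j` acts on the function `g ↦ D.cc l (φ g)` by a constant** -/
theorem Hyp.Tj_c (h : Hyp E D φ orb e qq) [CharP k 2] {l : ι → ℕ} (hl : ∀ i, l i < qq (D.zi i)) (j : J) :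
    E.Tj (RRep (k := k) (G := S)) j (fun g => D.cc l (φ g)) =
      ((if wt orb e l j = 0 then 1 else 0) + E.sg k (wt orb e l) j) • (fun g => D.cc l (φ g)) := by
  classical
  set D' := datQ D qq l hl h.qq_pos h.cmq with hD'
  have hc' : D'.c = D.cc l := rfl
  set f : G → k := ∑ u ∈ E.XF j, RR (φ (u * E.n j)) (D.cc l) with hf
  have hfL : f ∈ D'.L := Submodule.sum_mem _ fun u _ => D'.RR_mem _ D'.c_mem
  have hfa : ∀ g, f g = ∑ u ∈ E.XF j, D.cc l (g * φ (u * E.n j)) := by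
    intro g
    rw [hf, Finset.sum_apply]
    rfl
  have hcP : ∀ u ∈ E.U.map φ, ∀ g, D'.c (g * u) = D'.c g := by
    rintro _ ⟨u, hu, rfl⟩ g
    exact cc_U D l (h.map.U u hu) g
  have hfix : ∀ u ∈ E.U.map φ, ∀ g, f (g * u) = f g := by
    rintro _ ⟨w, hw, rfl⟩ g
    obtain ⟨x, hx, v, hv, rfl⟩ := E.U_eq j w hw
    rw [hfa, hfa]
    refine Finset.sum_bij' (fun u _ => x * u) (fun u _ => x⁻¹ * u)
      (fun u hu => E.mem_XF.2 (mul_mem hx (E.mem_XF.1 hu))) (fun u hu => E.mem_XF.2 (mul_mem (inv_mem hx) (E.mem_XF.1 hu)))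
      (fun u _ => by group) (fun u _ => by group) fun u hu => ?_
    have h1 : (E.n j)⁻¹ * (u⁻¹ * v * u) * E.n j ∈ E.V j := E.n_V j _ (E.X_V j u (E.mem_XF.1 hu) v hv)
    have e1 : x * v * (u * E.n j) = x * u * E.n j * ((E.n j)⁻¹ * (u⁻¹ * v * u) * E.n j) := by group
    rw [mul_assoc g, ← map_mul, e1, map_mul, ← mul_assoc, cc_U D l (h.map.U _ (E.V_le j h1))]
  obtain ⟨μ, hμ⟩ := D'.fix_le hcP (h.low l hl) hfL hfix
  have hμ1 : μ = (if wt orb e l j = 0 then 1 else 0) + E.sg k (wt orb e l) j := by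
    have h1 := congrFun hμ 1
    rw [Pi.smul_apply, hc', D.cc_one, smul_eq_mul, mul_one, hfa] at h1
    rw [← h1, ← Finset.add_sum_erase _ _ (E.mem_XF.2 (one_mem (E.X j)))]
    simp only [one_mul]
    rw [h.map.cc_n]
    congr 1
    unfold sg
    refine Finset.sum_congr rfl fun u hu => ?_
    exact h.map.cc_un l (E.mem_XF.1 (Finset.mem_of_mem_erase hu)) (Finset.ne_of_mem_erase hu)
  rw [← hμ1]
  funext g
  have h2 := congrFun hμ (φ g)
  rw [hfa] at h2
  have h3 : E.Tj (RRep (k := k) (G := S)) j (fun g => D.cc l (φ g)) g =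
      ∑ u ∈ E.XF j, D.cc l (φ g * φ (u * E.n j)) := by
    rw [Tj_def, Finset.sum_apply]
    refine Finset.sum_congr rfl fun u _ => ?_
    show D.cc l (φ (g * (u * E.n j))) = _
    rw [map_mul]
  rw [h3, h2]
  rfl

/-- **the choice of the weight** -/
theorem Hyp.exists_weight (h : Hyp E D φ orb e qq) [CharP k 2] {W : Type*} [AddCommGroup W] [Module k W]
    (hwt : E.Wt k W) (ρ : S →* Module.End k W) (hfd : FiniteDimensional k W) (hnt : Nontrivial W) :
    ∃ (l : ι → ℕ) (v : W), (∀ i, l i < qq (D.zi i)) ∧ v ≠ 0 ∧ E.IsW ρ (wt orb e l) v ∧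
      ∀ j, E.Tj ρ j v = ((if wt orb e l j = 0 then 1 else 0) + E.sg k (wt orb e l) j) • v := by
  classical
  have hmul : ∀ (a b : S) (x : W), ρ (a * b) x = ρ a (ρ b x) := fun a b x => by rw [map_mul]; rfl
  obtain ⟨v, hv, hfix, hH, hT⟩ := hwt ρ hfd hnt
  have hinj : ∀ c d : k, c • v = d • v → c = d := fun c d e => smul_left_injective k hv e
  choose μ hμ using hT
  -- the characters
  have hχ : ∀ j, ∃ a < Fintype.card F - 1, ∀ b : Fˣ, ρ (E.hh j b) v = algebraMap F k (b : F) ^ a • v := by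
    intro j
    choose χ0 hχ0 using fun b : Fˣ => hH _ (E.hh_mem j b)
    let χ1 : Fˣ →* k :=
      { toFun := χ0
        map_one' := by
          apply hinj
          rw [← hχ0, E.hh_one, map_one, one_smul]
          rfl
        map_mul' := by
          intro b c
          apply hinj
          rw [← hχ0, E.hh_mul, hmul, hχ0, map_smul, hχ0, smul_smul, mul_comm] }
    obtain ⟨a, ha, ha'⟩ := Cfsg.Agent.H421.Uni.exists_pow (k := k) χ1.toHomUnits
    exact ⟨a, ha, fun b => by rw [hχ0, ← ha']; rfl⟩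
  choose a0 ha0 ha0' using hχ
  have hq : 1 < Fintype.card F := Fintype.one_lt_card
  obtain ⟨l0, hl0, hl0'⟩ := h.lam a0 fun j => (ha0 j).trans (by omega)
  have hl0'' : wt orb e l0 = a0 := _root_.funext hl0'
  have hW0 : E.IsW ρ a0 v := ⟨hfix, ha0'⟩
  have hsq := fun j => hW0.sq (p := 2) hv (two_dvd h.Up j) (hμ j)
  let a : J → ℕ := fun j => if a0 j = 0 ∧ μ j ≠ 0 then Fintype.card F - 1 else a0 j
  have hpow : ∀ j (b : Fˣ), algebraMap F k (b : F) ^ a j = algebraMap F k (b : F) ^ a0 j := by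
    intro j b
    show algebraMap F k (b : F) ^ (if a0 j = 0 ∧ μ j ≠ 0 then Fintype.card F - 1 else a0 j) = _
    split_ifs with h1
    · rw [h1.1, pow_zero, ← map_pow, FiniteField.pow_card_sub_one_eq_one _ b.ne_zero, map_one]
    · rfl
  obtain ⟨l, hl, hl'⟩ := h.lam a fun j => by
    show (if a0 j = 0 ∧ μ j ≠ 0 then Fintype.card F - 1 else a0 j) < _
    have := ha0 j
    split_ifs <;> omega
  have hl'' : wt orb e l = a := _root_.funext hl'
  refine ⟨l, v, hl, hv, ⟨hfix, fun j b => by rw [ha0', hl'', hpow]⟩, fun j => ?_⟩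
  rw [hμ, hl'']
  congr 1
  have hsg : E.sg k a j = E.sg k a0 j := by
    unfold sg
    exact Finset.sum_congr rfl fun u _ => hpow j _
  rw [hsg]
  by_cases h0 : a0 j = 0
  · have h1 : E.sg k a0 j = -1 := sg_one (p := 2) (fun b => by rw [h0, pow_zero]) (two_dvd h.Up j)
    have h2 := hsq j
    rw [h1] at h2
    by_cases h3 : μ j = 0
    · have h4 : a j = 0 := by
        show (if a0 j = 0 ∧ μ j ≠ 0 then Fintype.card F - 1 else a0 j) = 0
        rw [if_neg (fun h => h.2 h3), h0]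
      rw [h4, if_pos rfl, h1, h3]
      ring
    · have h4 : a j ≠ 0 := by
        show (if a0 j = 0 ∧ μ j ≠ 0 then Fintype.card F - 1 else a0 j) ≠ 0
        rw [if_pos ⟨h0, h3⟩]
        omega
      rw [if_neg h4, h1, zero_add]
      exact mul_right_cancel₀ h3 h2
  · have h1 : ∃ b : Fˣ, algebraMap F k (b : F) ^ wt orb e l0 j ≠ 1 := by
      by_contra hcon
      push Not at hcon
      rw [hl0''] at hcon
      obtain ⟨g, hg⟩ := IsCyclic.exists_generator (α := Fˣ)
      have h2 : g ^ a0 j = 1 := by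
        apply Units.ext
        rw [Units.val_pow_eq_pow_val, Units.val_one]
        apply (algebraMap F k).injective
        rw [map_pow, map_one]
        exact hcon g
      have h3 := orderOf_dvd_of_pow_eq_one h2
      have h4 : orderOf g = Fintype.card F - 1 := by
        rw [orderOf_eq_card_of_forall_mem_zpowers hg, Nat.card_eq_fintype_card, Fintype.card_units]
      have h5 := Nat.le_of_dvd (Nat.pos_of_ne_zero h0) h3
      have := ha0 j
      omega
    obtain ⟨b, hb⟩ := h1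
    have h2 := h.map.sg_zero l0 hb
    rw [hl0''] at h2
    have h3 := hsq j
    rw [h2, zero_mul] at h3
    have h4 : a j ≠ 0 := by
      show (if a0 j = 0 ∧ μ j ≠ 0 then Fintype.card F - 1 else a0 j) ≠ 0
      rw [if_neg (fun h => h0 h.1)]
      exact h0
    rw [if_neg h4, h2, mul_self_eq_zero.1 h3, add_zero]

/-- the pair `(v, c)` -/
theorem Hyp.gen (h : Hyp E D φ orb e qq) [CharP k 2] {W : Type*} [AddCommGroup W] [Module k W]
    (ρ : S →* Module.End k W) {l : ι → ℕ} (hl : ∀ i, l i < qq (D.zi i)) {v : W} (hv : E.IsW ρ (wt orb e l) v)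
    (hT : ∀ j, E.Tj ρ j v = ((if wt orb e l j = 0 then 1 else 0) + E.sg k (wt orb e l) j) • v) (g : S) :
    ((ρ g v, RR g (fun g : S => D.cc l (φ g))) : W × (S → k)) ∈ Submodule.span k
      {x : W × (S → k) | ∃ u ∈ E.Um, x = (ρ u v, RR u (fun g : S => D.cc l (φ g)))} := by
  set c : S → k := fun g : S => D.cc l (φ g) with hc
  have hcW := h.map.isW (k := k) l
  have e1 : ∀ g, prodRep ρ (RRep (k := k) (G := S)) g (v, c) = (ρ g v, RR g c) := fun g => rfl
  have hW : E.IsW (prodRep ρ (RRep (k := k) (G := S))) (wt orb e l) (v, c) := by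
    refine ⟨fun u hu => ?_, fun j b => ?_⟩
    · rw [e1, hv.fix u hu]
      exact congrArg (Prod.mk v) (hcW.fix u hu)
    · rw [e1, hv.tor, Prod.smul_mk]
      exact congrArg (Prod.mk _) (hcW.tor j b)
  have hTj : ∀ j, E.Tj (prodRep ρ (RRep (k := k) (G := S))) j (v, c) =
      ((if wt orb e l j = 0 then 1 else 0) + E.sg k (wt orb e l) j) • (v, c) := by
    intro j
    have h1 := h.Tj_c hl j
    rw [Prod.smul_mk, ← hT j, ← h1, Tj_def, Tj_def, Tj_def]
    simp only [e1]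
    apply Prod.ext
    · rw [Prod.fst_sum]
    · rw [Prod.snd_sum]
      rfl
  have h2 := E.neg (prodRep ρ (RRep (k := k) (G := S))) (w := (v, c)) hW.fix (fun t ht => hW.H ht)
    (fun j => hW.n_mem (hTj j)) g
  simpa only [e1] using h2

/-- **the relations on the algebraic group** -/
theorem Hyp.relations (h : Hyp E D φ orb e qq) [CharP k 2] {W : Type*} [AddCommGroup W] [Module k W]
    (ρ : S →* Module.End k W) {l : ι → ℕ} (hl : ∀ i, l i < qq (D.zi i)) {v : W} (hv0 : v ≠ 0)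
    (hv : E.IsW ρ (wt orb e l) v)
    (hT : ∀ j, E.Tj ρ j v = ((if wt orb e l j = 0 then 1 else 0) + E.sg k (wt orb e l) j) • v)
    {x : S} {r : ℕ} (hsum : ∀ w : W, ∑ i ∈ range r, ρ (x ^ i) w = 0) (h' g : G) :
    ∑ i ∈ range r, D.cc l (h' * φ x ^ i * g) = 0 := by
  classical
  have hrel : ∀ g h : S, ∑ i ∈ range r, D.cc l (φ (h * (x ^ i * g))) = 0 := by
    intro g h1
    have h6 := ann (p := 2) ρ hv0 (fun g : S => D.cc l (φ g)) h.Um (fun u hu => ?_)
      (h.gen ρ hl hv hT) (range r) (fun _ => 1) (fun i => x ^ i * g) ?_ h1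
    · simpa only [one_mul] using h6
    · have h7 := cc_Um D l (h.map.Um u hu) 1
      rw [mul_one, D.cc_one] at h7
      exact h7
    · simp only [one_smul]
      have e : ∀ i, ρ (x ^ i * g) v = ρ (x ^ i) (ρ g v) := by
        intro i
        rw [map_mul]; rfl
      simp only [e]
      exact hsum _
  let P : Subgroup G := E.U.map φ
  have hPfin : Finite P := Set.Finite.image φ (Set.toFinite (E.U : Set S))
  have hP : IsPGroup 2 P := h.Up.map _
  have hPS : P ≤ φ.range := by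
    rintro _ ⟨g, -, rfl⟩
    exact ⟨g, rfl⟩
  have hc : ∀ u ∈ P, ∀ g, D.cc l (g * u) = D.cc l g := by
    rintro _ ⟨u, hu, rfl⟩ g
    exact cc_U D l (h.map.U u hu) g
  exact (datQ D qq l hl h.qq_pos h.cmq).transfer (p := 2) (S := φ.range) hP hPS hc (h.low l hl)
    (fun a => D.cc_τ l a) h.map.τ (range r) (fun i => φ x ^ i) (by
      rintro _ ⟨h1, rfl⟩ _ ⟨g, rfl⟩
      have h6 := hrel g h1
      rw [← h6]
      refine Finset.sum_congr rfl fun i _ => ?_
      show D.cc l (φ h1 * φ x ^ i * φ g) = _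
      rw [← map_pow, ← map_mul, ← map_mul, mul_assoc]) h' g

/-- modules over an algebraically closed field -/
theorem Hyp.exists_fix (h : Hyp E D φ orb e qq) [CharP k 2] {W : Type*} [AddCommGroup W] [Module k W]
    (hwt : E.Wt k W) (ρ : S →* Module.End k W) [FiniteDimensional k W] [Nontrivial W] {T' : Subgroup G}
    (V : D.Vtx T') (x : S) (hx : (orderOf x).Coprime 2) {g0 t0 : G} (ht0 : t0 ∈ T') (hg0 : φ x = g0 * t0 * g0⁻¹) :
    ∃ v : W, v ≠ 0 ∧ ρ x v = v := by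
  classical
  by_contra hcon
  push Not at hcon
  obtain ⟨l, v, hl, hv0, hv, hT⟩ := h.exists_weight hwt ρ inferInstance inferInstance
  set r := orderOf x with hr
  have hrk : (r : k) ≠ 0 := by
    intro h
    rw [CharP.cast_eq_zero_iff k 2] at h
    have h6 := hx.symm
    rw [Nat.prime_two.coprime_iff_not_dvd] at h6
    exact h6 h
  have hsum : ∀ w : W, ∑ i ∈ range r, ρ (x ^ i) w = 0 := by
    intro w
    by_contra hne
    apply hcon _ hne
    rw [map_sum]
    have e : ∀ i, ρ x (ρ (x ^ i) w) = ρ (x ^ (i + 1)) w := by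
      intro i
      rw [pow_succ', map_mul]; rfl
    simp only [e]
    have h6 := Finset.sum_range_succ (fun i => ρ (x ^ i) w) r
    have h7 := Finset.sum_range_succ' (fun i => ρ (x ^ i) w) r
    rw [h6] at h7
    have h8 : x ^ r = 1 := pow_orderOf_eq_one x
    simp only [h8, pow_zero] at h7
    exact (add_right_cancel h7).symm
  have hrel := h.relations ρ hl hv0 hv hT hsum
  obtain ⟨g1, h1, lam, m, C, hC, hvt⟩ := FDat.Vtx.at D V l
  choose P hP hP' using fun i : ℕ => hvt (t0 ^ i) (T'.pow_mem ht0 i)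
  have hpow : ∀ i, φ x ^ i = g0 * t0 ^ i * g0⁻¹ := by
    intro i
    rw [hg0, conj_pow]
  have hsum0 : ∑ i ∈ range r, P i = 0 := by
    apply Polynomial.eq_of_infinite_eval_eq
    apply Set.Infinite.mono (s := ({(0 : k)}ᶜ : Set k))
    · intro s hs
      have hs' : s ≠ 0 := hs
      show eval s _ = eval s 0
      rw [eval_finsetSum, eval_zero]
      have h2 := hrel (h1 * lam (Units.mk0 s hs') * g0⁻¹) (g0 * g1)
      have h3 : ∀ i ∈ range r, (P i).eval s = (((Units.mk0 s hs') ^ m : kˣ) : k) *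
          D.cc l (h1 * lam (Units.mk0 s hs') * g0⁻¹ * φ x ^ i * (g0 * g1)) := by
        intro i _
        have h4 := hP' i (Units.mk0 s hs')
        rw [Units.val_mk0] at h4
        rw [← h4, hpow]
        congr 2
        group
      rw [Finset.sum_congr rfl h3, ← Finset.mul_sum, h2, mul_zero]
    · exact (Set.finite_singleton (0 : k)).infinite_compl
  have h5 := congrArg (fun P : k[X] => P.coeff 0) hsum0
  simp only [finsetSum_coeff, hP, coeff_zero, sum_const, card_range, nsmul_eq_mul] at h5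
  exact (mul_ne_zero hrk hC) h5

end main

section final

open TensorProduct

universe u v

/-- **own characteristic for twisted groups in characteristic two** -/
theorem fixAll_tw {J F S ι Φ G : Type*} {k : Type v} [Field F] [Fintype F] [Group S] [Finite S] {E : TSys J F S}
    [Field k] [Algebra F k] [Group G] [DecidableEq ι] [DecidableEq J] [Fintype ι] [Infinite k] {D : FDat ι Φ k G}
    {φ : S →* G} {orb : ι → J} {e : ι → ℕ} {qq : Φ → ℕ} [CharP k 2] (h : Hyp E D φ orb e qq)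
    (hwt : ∀ (W : Type (max u v)) [AddCommGroup W] [Module k W], E.Wt k W) {T' : Subgroup G} (X : D.Vtx T')
    (x : S) (hx : (orderOf x).Coprime 2) {g0 t0 : G} (ht0 : t0 ∈ T') (hg0 : φ x = g0 * t0 * g0⁻¹) :
    H425.KFix.FixAll.{u} 2 x := by
  intro V _ _ _ _ ρ
  classical
  let _ : Algebra (ZMod 2) k := ZMod.algebra k 2
  have : Module.Finite (ZMod 2) V := Module.Finite.of_finite
  let ρk : S →* Module.End k (k ⊗[ZMod 2] V) :=
    { toFun := fun g => (ρ g).toLinearMap.baseChange k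
      map_one' := by
        rw [map_one]
        exact LinearMap.baseChange_id
      map_mul' := fun g h => by
        rw [map_mul]
        exact LinearMap.baseChange_comp _ _ }
  have hnt : Nontrivial (k ⊗[ZMod 2] V) := by
    obtain ⟨w, hw⟩ := exists_ne (0 : V)
    have hinj : Function.Injective (fun v : V => (1 : k) ⊗ₜ[ZMod 2] v) := by
      have h1 : Function.Injective (LinearMap.rTensor V (Algebra.linearMap (ZMod 2) k)) :=
        Module.Flat.rTensor_preserves_injective_linearMap _ (algebraMap (ZMod 2) k).injective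
      intro a b hab
      have h2 : LinearMap.rTensor V (Algebra.linearMap (ZMod 2) k) ((TensorProduct.lid (ZMod 2) V).symm a) =
          LinearMap.rTensor V (Algebra.linearMap (ZMod 2) k) ((TensorProduct.lid (ZMod 2) V).symm b) := by
        rw [TensorProduct.lid_symm_apply, TensorProduct.lid_symm_apply, LinearMap.rTensor_tmul,
          LinearMap.rTensor_tmul, Algebra.linearMap_apply, map_one]
        exact hab
      exact (TensorProduct.lid (ZMod 2) V).symm.injective (h1 h2)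
    refine ⟨⟨(1 : k) ⊗ₜ[ZMod 2] w, 0, fun h => hw ?_⟩⟩
    apply hinj
    show (1 : k) ⊗ₜ[ZMod 2] w = (1 : k) ⊗ₜ[ZMod 2] (0 : V)
    rw [h, TensorProduct.tmul_zero]
  obtain ⟨v, hv0, hv⟩ := h.exists_fix (hwt _) ρk X x hx ht0 hg0
  by_contra hcon
  push Not at hcon
  have hinj : Function.Injective ((ρ x).toLinearMap - LinearMap.id : V →ₗ[ZMod 2] V) := by
    rw [injective_iff_map_eq_zero]
    intro w hw
    by_contra hw0
    exact hcon w hw0 (sub_eq_zero.1 hw)
  have hinj2 : Function.Injective (LinearMap.lTensor k ((ρ x).toLinearMap - LinearMap.id : V →ₗ[ZMod 2] V)) :=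
    Module.Flat.lTensor_preserves_injective_linearMap _ hinj
  apply hv0
  apply hinj2
  rw [LinearMap.lTensor_sub, LinearMap.sub_apply]
  have h4 : LinearMap.lTensor k (ρ x).toLinearMap v = v := hv
  rw [h4, LinearMap.lTensor_id]
  simp only [_root_.LinearMap.id_coe, _root_.id_eq, _root_.sub_self, _root_.LinearMap.sub_apply, _root_.map_zero]

end final

end Cfsg.Agent.H564.TW
end

-- part: H203/TW/Cls
section
/-!
# The classes of root elements of `²F₄(q)` in `F₄(k)` (S3635, task O1')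

* `tw hle : twistedF4 K e →* chevF4.group k` : base change;
* `tw_ro`, `tw_re` : the images of the root elements;
* `exists_cls` : the 12 classes `TwCls`.
-/

set_option autoImplicit false
set_option linter.unusedSectionVars false

namespace Cfsg.Agent.H203.TW

open Cfsg Cfsg.Lie Cfsg.Agent.H45.UniE Cfsg.Agent.H405.UE Cfsg.Agent.H421.UniE
open Cfsg.Agent.ChevalleyStructure Cfsg.Agent.ChevalleyStructure.Elts
open Cfsg.Agent.Nodes.RGDChev Cfsg.Agent.KFacts.RgdChevCoord Cfsg.Agent.H129.TorusChar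
open Cfsg.Agent.ChevalleyStructure.TwF4.Groups (isPosRoot_iff)
open Cfsg.Agent.ChevalleyStructure.TwF4.TwistedFix (Rln)
open Cfsg.Agent.KFacts.TwF4.Inst (go ge ro re oA oB eA eB eC eD lt48)
open Cfsg.Agent.H564.TW (qF)
open Cfsg.Agent.H564.U (zz zz_zero)

/-! ### the inclusion in the Chevalley group -/

section incl

variable {K : Type*} [Field K] [CharP K 2]

theorem X_eq_xG (r : ℕ) (t : K) : TwF4.Rel.X r t = xG Nodes.KindF.isType.inList r t := Units.ext rfl

theorem twisted_le (e : ℕ) : twistedF4 K e ≤ chevF4.group K := by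
  have h : ∀ w : List (ℕ × K), TwF4.Rel.W w ∈ chevF4.group K := by
    intro w
    induction w with
    | nil => exact one_mem _
    | cons p w ih =>
      rw [TwF4.Rel.W_cons, X_eq_xG]
      exact mul_mem (xG_mem_group _ _ _) ih
  unfold twistedF4 ChevalleyDatum.genSubgroup
  rw [Subgroup.closure_le]
  rintro g ⟨w, hw, hgw⟩
  have : g = TwF4.Rel.W w := Units.ext (by rw [hgw, TwF4.Rel.coe_W])
  rw [this]
  exact h w

end incl

variable {K : Type*} [Field K] [CharP K 2] {k : Type*} [Field k] [Algebra K k]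

/-- base change of the twisted group -/
def tw (K : Type*) [Field K] [CharP K 2] (k : Type*) [Field k] [Algebra K k] (e : ℕ) :
    ↥(twistedF4 K e) →* ↥(chevF4.group k) :=
  (bcC Nodes.KindF.isType.inList (algebraMap K k)).comp (Subgroup.inclusion (twisted_le e))

variable [Finite K] {φ : K →+* K} {e : ℕ}

theorem tw_ro (hφ : Rln φ e) (a : ZMod 8) (t : K) : tw K k e (ro hφ a t) =
    zz Nodes.KindF.isType (oA a) (algebraMap K k t) * zz Nodes.KindF.isType (oB a) (algebraMap K k (φ t)) := by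
  apply Subtype.ext
  show Matrix.GeneralLinearGroup.map (algebraMap K k) (TwF4.Rel.X (oA a) t * TwF4.Rel.X (oB a) (φ t)) = _
  rw [map_mul, X_eq_xG, X_eq_xG, glmap_xG, glmap_xG]
  rfl

theorem tw_re (hφ : Rln φ e) (a : ZMod 8) (p u : K) : tw K k e (re hφ a p u) =
    zz Nodes.KindF.isType (eA a) (algebraMap K k p) * zz Nodes.KindF.isType (eB a) (algebraMap K k (φ p)) *
      zz Nodes.KindF.isType (eC a) (algebraMap K k (p * φ p + u)) *
      zz Nodes.KindF.isType (eD a) (algebraMap K k (φ u)) := by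
  apply Subtype.ext
  show Matrix.GeneralLinearGroup.map (algebraMap K k) (TwF4.Rel.X (eA a) p * TwF4.Rel.X (eB a) (φ p) *
    TwF4.Rel.X (eC a) (p * φ p + u) * TwF4.Rel.X (eD a) (φ u)) = _
  simp only [map_mul, X_eq_xG, glmap_xG]
  rfl

/-! ### the tables -/

/-- heights -/
def hv (r : ℕ) : ℤ := ∑ i : Fin 4, vec chevF4 4 r i

def hN (r : ℕ) : ℕ := (2 * hv r).toNat

/-- check of a class: `a` long, `b` short, positive, `l` the other members -/
def chk (a b : ℕ) (l : List (ℕ × ℕ × ℕ)) : Bool :=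
  decide (24 ≤ a) && decide (a < 48) && decide (24 ≤ b) && decide (b < 48) &&
  (chevF4.isLong a == true) && (chevF4.isLong b == false) && decide (hN b ≤ hN a) && decide (hN a ≤ 2 * hN b) &&
  l.all fun x => decide (24 ≤ x.1) && decide (x.1 < 48) && decide (hN x.1 = x.2.1 * hN a + x.2.2 * hN b)

/-- the classes -/
def tabC : List (ℕ × ℕ × List (ℕ × ℕ × ℕ)) :=
  ((List.range 4).map fun a : ℕ => (oB ((a : ℕ) : ZMod 8), oA ((a : ℕ) : ZMod 8),
    [(oA ((a : ℕ) : ZMod 8), 0, 1), (oB ((a : ℕ) : ZMod 8), 1, 0)])) ++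
  ((List.range 4).map fun a : ℕ => (eB ((a + 1 : ℕ) : ZMod 8), eA ((a + 1 : ℕ) : ZMod 8),
    [(eA ((a + 1 : ℕ) : ZMod 8), 0, 1), (eB ((a + 1 : ℕ) : ZMod 8), 1, 0), (eC ((a + 1 : ℕ) : ZMod 8), 1, 1)])) ++
  ((List.range 4).map fun a : ℕ => (eD ((a + 1 : ℕ) : ZMod 8), eC ((a + 1 : ℕ) : ZMod 8),
    [(eC ((a + 1 : ℕ) : ZMod 8), 0, 1), (eD ((a + 1 : ℕ) : ZMod 8), 1, 0)]))

theorem tabC_ok : (tabC.all fun x => chk x.1 x.2.1 x.2.2) = true := by decide +kernel

theorem tabC_all : ((List.range 24).all fun r => tabC.any fun x => (x.1 == r + 24) || (x.2.1 == r + 24)) = true := by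
  decide +kernel

open Classical in
/-- a positive root from its index -/
noncomputable def pr (r : ℕ) : PR chevF4 :=
  if h : chevF4.IsPosRoot r then ⟨r, h⟩ else ⟨33, (isPosRoot_iff 33).2 ⟨by decide, by decide⟩⟩

theorem pr_val {r : ℕ} (h1 : 24 ≤ r) (h2 : r < 48) : (pr r).1 = r := by
  unfold pr
  rw [dif_pos ((isPosRoot_iff r).2 ⟨h2, h1⟩)]

theorem htt_eq (b : PR chevF4) : htt chevF4 4 b = hN b.1 := rfl

universe u

section build

variable {K : Type*} [Field K] [CharP K 2] {k : Type u} [Field k] [Algebra K k]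

theorem wd_map {l : List (ℕ × ℕ × ℕ)} (h : ∀ x ∈ l, 24 ≤ x.1 ∧ x.1 < 48) (s t : k) :
    wd (gdat Nodes.KindF.isType k).z (l.map fun x => (pr x.1, (1 : k), x.2)) s t =
      (l.map fun x => zz Nodes.KindF.isType x.1 (s ^ x.2.1 * t ^ x.2.2)).prod := by
  induction l with
  | nil => rfl
  | cons x l ih =>
    have h1 := ih fun y hy => h y (List.mem_cons_of_mem _ hy)
    obtain ⟨h2, h3⟩ := h x List.mem_cons_self
    unfold wd at h1 ⊢
    rw [List.map_cons, List.map_cons, List.prod_cons, h1, List.map_cons, List.prod_cons]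
    congr 1
    show zz Nodes.KindF.isType (pr x.1).1 (1 * s ^ x.2.1 * t ^ x.2.2) = _
    rw [pr_val h2 h3, one_mul]

theorem chk_spec {a b : ℕ} {l : List (ℕ × ℕ × ℕ)} (h : chk a b l = true) :
    (24 ≤ a ∧ a < 48) ∧ (24 ≤ b ∧ b < 48) ∧ chevF4.isLong a = true ∧ chevF4.isLong b = false ∧ hN b ≤ hN a ∧
      hN a ≤ 2 * hN b ∧ ∀ x ∈ l, (24 ≤ x.1 ∧ x.1 < 48) ∧ hN x.1 = x.2.1 * hN a + x.2.2 * hN b := by
  unfold chk at h
  simp only [Bool.and_eq_true, decide_eq_true_eq, List.all_eq_true, beq_iff_eq] at h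
  obtain ⟨⟨⟨⟨⟨⟨⟨⟨h1, h2⟩, h3⟩, h4⟩, h5⟩, h6⟩, h7⟩, h8⟩, h9⟩ := h
  exact ⟨⟨h1, h2⟩, ⟨h3, h4⟩, h5, h6, h7, h8, h9⟩

/-- the class from the tables -/
noncomputable def mkCls {m : ℕ} (hm : 1 ≤ m) {P : Subgroup ↥(chevF4.group k)} {a b : ℕ} {l : List (ℕ × ℕ × ℕ)}
    (h : chk a b l = true)
    (ha : ∀ s : k, (l.map fun x => zz Nodes.KindF.isType x.1 (s ^ x.2.1 * 0 ^ x.2.2)).prod = zz Nodes.KindF.isType a s)
    (hb : ∀ t : k, (l.map fun x => zz Nodes.KindF.isType x.1 (0 ^ x.2.1 * t ^ x.2.2)).prod = zz Nodes.KindF.isType b t)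
    (mem : ∀ t : K, (l.map fun x => zz Nodes.KindF.isType x.1
      ((algebraMap K k t ^ 2 ^ (m + 1)) ^ x.2.1 * algebraMap K k t ^ x.2.2)).prod ∈ P) :
    TwCls (gdat Nodes.KindF.isType k) K P (2 ^ m) (2 ^ (m + 1)) where
  a := pr a
  b := pr b
  l := l.map fun x => (pr x.1, (1 : k), x.2)
  hl := by
    obtain ⟨ha, hb, -, -, -, -, hl⟩ := chk_spec h
    intro x hx
    obtain ⟨y, hy, rfl⟩ := List.mem_map.1 hx
    obtain ⟨h1, h2⟩ := hl y hy
    show htt chevF4 4 (pr y.1) = y.2.1 * htt chevF4 4 (pr a) + y.2.2 * htt chevF4 4 (pr b)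
    rw [htt_eq, htt_eq, htt_eq, pr_val h1.1 h1.2, pr_val ha.1 ha.2, pr_val hb.1 hb.2, h2]
  ha s := by
    obtain ⟨ha', -, -, -, -, -, hl⟩ := chk_spec h
    rw [wd_map (fun x hx => (hl x hx).1), ha]
    show _ = zz Nodes.KindF.isType (pr a).1 s
    rw [pr_val ha'.1 ha'.2]
  hb t := by
    obtain ⟨-, hb', -, -, -, -, hl⟩ := chk_spec h
    rw [wd_map (fun x hx => (hl x hx).1), hb]
    show _ = zz Nodes.KindF.isType (pr b).1 t
    rw [pr_val hb'.1 hb'.2]
  h1 := by
    obtain ⟨ha', hb', -, -, h5, -, -⟩ := chk_spec h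
    have h6 := htt_pos Nodes.KindF.isType (pr a)
    have h7 : 2 ^ 1 ≤ 2 ^ m := Nat.pow_le_pow_right (by norm_num) hm
    show htt chevF4 4 (pr b) < 2 ^ m * htt chevF4 4 (pr a)
    rw [htt_eq, pr_val ha'.1 ha'.2] at h6
    rw [htt_eq, htt_eq, pr_val ha'.1 ha'.2, pr_val hb'.1 hb'.2]
    nlinarith only [h5, h6, h7]
  h2 := by
    obtain ⟨ha', hb', -, -, -, h5, -⟩ := chk_spec h
    have h6 := htt_pos Nodes.KindF.isType (pr b)
    have h7 : 2 ^ 2 ≤ 2 ^ (m + 1) := Nat.pow_le_pow_right (by norm_num) (by omega)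
    show htt chevF4 4 (pr a) < 2 ^ (m + 1) * htt chevF4 4 (pr b)
    rw [htt_eq, pr_val hb'.1 hb'.2] at h6
    rw [htt_eq, htt_eq, pr_val ha'.1 ha'.2, pr_val hb'.1 hb'.2]
    nlinarith only [h5, h6, h7]
  mem t := by
    obtain ⟨-, -, -, -, -, -, hl⟩ := chk_spec h
    rw [wd_map (fun x hx => (hl x hx).1)]
    exact mem t

end build

section cls

variable {K : Type*} [Field K] [CharP K 2] [Finite K] {φ : K →+* K} {k : Type u} [Field k] [Algebra K k]

theorem phi_eq {m : ℕ} (hφ : Rln φ (2 ^ m)) (t : K) : algebraMap K k (φ t) = algebraMap K k t ^ 2 ^ (m + 1) := by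
  rw [hφ.phi, ← pow_mul, ← pow_succ, map_pow]

/-- **the classes** -/
theorem exists_cls {m : ℕ} (hm : 1 ≤ m) (hφ : Rln φ (2 ^ m)) {U : Subgroup ↥(twistedF4 K (2 ^ m))}
    (hUo : ∀ a < 4, ∀ t, ro hφ ((a : ℕ) : ZMod 8) t ∈ U) (hUe : ∀ a < 4, ∀ p u, re hφ (((a + 1 : ℕ)) : ZMod 8) p u ∈ U)
    (c : PR chevF4) : ∃ T : TwCls (gdat Nodes.KindF.isType k) K (U.map (tw K k (2 ^ m))) (2 ^ m) (2 ^ (m + 1)),
      (c = T.a ∧ qF m c = 2 ^ m) ∨ (c = T.b ∧ qF m c = 2 ^ (m + 1)) := by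
  obtain ⟨h1, h2⟩ := (isPosRoot_iff c.1).1 c.2
  have h3 := tabC_all
  rw [List.all_eq_true] at h3
  have h4 := h3 (c.1 - 24) (List.mem_range.2 (by omega))
  rw [Nat.sub_add_cancel h2, List.any_eq_true] at h4
  obtain ⟨x, hx, h5⟩ := h4
  have h6 := tabC_ok
  rw [List.all_eq_true] at h6
  have h7 := h6 x hx
  have z0 : ∀ r, zz Nodes.KindF.isType r (0 : k) = 1 := fun r => zz_zero Nodes.KindF.isType r
  suffices key : ∃ T : TwCls (gdat Nodes.KindF.isType k) K (U.map (tw K k (2 ^ m))) (2 ^ m) (2 ^ (m + 1)),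
      T.a = pr x.1 ∧ T.b = pr x.2.1 by
    obtain ⟨T, hTa, hTb⟩ := key
    refine ⟨T, ?_⟩
    obtain ⟨ha, hb, hla, hlb, -⟩ := chk_spec h7
    simp only [Bool.or_eq_true, beq_iff_eq] at h5
    rcases h5 with h5 | h5
    · left
      refine ⟨?_, ?_⟩
      · rw [hTa]; apply Subtype.ext; rw [pr_val ha.1 ha.2, h5]
      · unfold qF; rw [← h5, if_pos hla]
    · right
      refine ⟨?_, ?_⟩
      · rw [hTb]; apply Subtype.ext; rw [pr_val hb.1 hb.2, h5]
      · unfold qF; rw [← h5, if_neg (by rw [hlb]; simp)]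
  unfold tabC at hx
  rw [List.mem_append, List.mem_append] at hx
  rcases hx with (hx | hx) | hx
  · obtain ⟨a, ha, rfl⟩ := List.mem_map.1 hx
    rw [List.mem_range] at ha
    refine ⟨mkCls hm h7 (fun s => ?_) (fun t => ?_) (fun t => ?_), rfl, rfl⟩
    · simp [z0]
    · simp only [z0, _root_.List.map_cons, _root_.pow_zero, _root_.pow_one, _root_.one_mul, _root_.mul_one, _root_.List.map_nil, _root_.List.prod_cons, _root_.List.prod_nil]
    · refine ⟨ro hφ a t, hUo a ha t, ?_⟩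
      rw [tw_ro, phi_eq hφ]
      simp
  · obtain ⟨a, ha, rfl⟩ := List.mem_map.1 hx
    rw [List.mem_range] at ha
    refine ⟨mkCls hm h7 (fun s => ?_) (fun t => ?_) (fun t => ?_), rfl, rfl⟩
    · simp [z0]
    · simp [z0]
    · refine ⟨re hφ _ t 0, hUe a ha t 0, ?_⟩
      rw [tw_re, map_zero φ, map_zero (algebraMap K k), z0, mul_one, add_zero, map_mul, phi_eq hφ]
      simp only [mul_assoc, mul_comm, _root_.Nat.cast_add, _root_.Nat.cast_one, _root_.List.map_cons, _root_.pow_one, _root_.pow_zero, _root_.one_mul, _root_.List.map_nil, _root_.List.prod_cons, _root_.List.prod_nil, _root_.mul_one]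
  · obtain ⟨a, ha, rfl⟩ := List.mem_map.1 hx
    rw [List.mem_range] at ha
    refine ⟨mkCls hm h7 (fun s => ?_) (fun t => ?_) (fun t => ?_), rfl, rfl⟩
    · simp [z0]
    · simp [z0]
    · refine ⟨re hφ _ 0 t, hUe a ha 0 t, ?_⟩
      rw [tw_re, map_zero φ, map_zero (algebraMap K k), z0, z0, one_mul, zero_mul, zero_add, one_mul, phi_eq hφ]
      simp

end cls

end Cfsg.Agent.H203.TW
end

-- part: H421/TW/Abs
section
/-!
# Rank one data with arbitrary root groups and representations in characteristic `p` (helper421)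

`R1 H D X Y n`: `X`, `Y` opposite root groups, `n` an involution interchanging them, `D ≤ H` the torus of the rank one
group, `x n ∈ Y D X` for `1 ≠ x ∈ X`.  `Tn ρ X n = ∑ x : X, ρ (x n)`.

For a vector `w` fixed by `X` which is an eigenvector of `H`:

* `R1.n_mem`, `R1.xy_mem` : if `Tn w = μ w` then `n w` and `x y w` lie in the span of `Y w`;
* `R1.Tn_sq` : `Tn (Tn w) = s Tn w`;
* `R1.mu_zero`, `R1.mu_one` : the possible values of `μ`;
* `R1.mu_f` : `μ` from a `Y`-invariant functional.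
* `span_neg` : the span of `G w` is the span of `Q w`, `Q` the opposite unipotent group;
* `exists_simul` : a common eigenvector for two rank one groups from a braid relation.
-/

set_option autoImplicit false
set_option linter.unusedSectionVars false

namespace Cfsg.Agent.H421.TW

open Finset

section rank1

variable {G k V : Type*} [Group G] [Finite G] [Field k] [AddCommGroup V] [Module k V]

/-- rank one data -/
structure R1 (H D X Y : Subgroup G) (n : G) : Prop where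
  XY : ∀ x ∈ X, n * x * n ∈ Y
  YX : ∀ y ∈ Y, n * y * n ∈ X
  sq : n * n = 1
  DH : D ≤ H
  HX : ∀ t ∈ H, ∀ x ∈ X, t * x * t⁻¹ ∈ X
  nH : ∀ t ∈ H, n * t * n ∈ H
  nD : ∀ t ∈ D, n * t * n = t⁻¹
  rk : ∀ x ∈ X, x ≠ 1 → ∃ y ∈ Y, ∃ t ∈ D, ∃ x' ∈ X, x * n = y * t * x'

/-- `∑ x : X, ρ (x n)` -/
noncomputable def Tn (ρ : G →* Module.End k V) (X : Subgroup G) (n : G) : Module.End k V :=
  let _ := Fintype.ofFinite X
  ∑ x : X, ρ ((x : G) * n)

theorem Tn_apply (ρ : G →* Module.End k V) (X : Subgroup G) [i : Fintype X] (n : G) (v : V) :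
    Tn ρ X n v = ∑ x : X, ρ ((x : G) * n) v := by
  have : i = Fintype.ofFinite X := Subsingleton.elim _ _
  subst this
  rw [Tn, LinearMap.sum_apply]

omit [Finite G] in
theorem mul_ap (ρ : G →* Module.End k V) (g h : G) (v : V) : ρ (g * h) v = ρ g (ρ h v) := by rw [map_mul]; rfl

omit [Finite G] in
theorem one_ap (ρ : G →* Module.End k V) (v : V) : ρ 1 v = v := by rw [map_one]; rfl

/-- translation inside the sum -/
theorem Tn_mul (ρ : G →* Module.End k V) (X : Subgroup G) (n : G) {z : G} (hz : z ∈ X) (v : V) :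
    Tn ρ X n (ρ (n⁻¹ * z * n) v) = Tn ρ X n v := by
  let _ := Fintype.ofFinite X
  rw [Tn_apply, Tn_apply]
  refine Fintype.sum_equiv (Equiv.mulRight (⟨z, hz⟩ : X)) _ _ fun x => ?_
  rw [← mul_ap]
  congr 2
  show (x : G) * n * (n⁻¹ * z * n) = (x : G) * z * n
  group

/-- translation on the left -/
theorem mul_Tn (ρ : G →* Module.End k V) (X : Subgroup G) (n : G) {z : G} (hz : z ∈ X) (v : V) :
    ρ z (Tn ρ X n v) = Tn ρ X n v := by
  let _ := Fintype.ofFinite X
  rw [Tn_apply, map_sum]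
  refine Fintype.sum_equiv (Equiv.mulLeft (⟨z, hz⟩ : X)) _ _ fun x => ?_
  rw [← mul_ap]
  congr 2
  show z * ((x : G) * n) = z * (x : G) * n
  group

/-- elements normalising `X` -/
theorem norm_Tn (ρ : G →* Module.End k V) (X : Subgroup G) (n : G) {z : G} (hz : ∀ x ∈ X, z * x * z⁻¹ ∈ X)
    (v : V) : ρ z (Tn ρ X n v) = Tn ρ X n (ρ (n⁻¹ * z * n) v) := by
  let _ := Fintype.ofFinite X
  rw [Tn_apply, Tn_apply, map_sum]
  have hinj : Function.Injective (fun x : X => (⟨z * x * z⁻¹, hz x x.2⟩ : X)) := by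
    intro a b h
    have h1 : z * (a : G) * z⁻¹ = z * (b : G) * z⁻¹ := congrArg Subtype.val h
    exact Subtype.ext (mul_left_cancel (mul_right_cancel h1))
  refine Fintype.sum_bijective (fun x : X => (⟨z * x * z⁻¹, hz x x.2⟩ : X))
    (Finite.injective_iff_bijective.1 hinj) _ _ fun x => ?_
  rw [← mul_ap, ← mul_ap]
  congr 2
  show z * ((x : G) * n) = z * (x : G) * z⁻¹ * n * (n⁻¹ * z * n)
  group

namespace R1

variable {H D X Y : Subgroup G} {n : G} (r : R1 H D X Y n) {ρ : G →* Module.End k V} {w : V}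
include r

theorem n_inv : n⁻¹ = n := inv_eq_of_mul_eq_one_left r.sq

/-- terms of the sum -/
theorem term (hX : ∀ x ∈ X, ρ x w = w) (hH : ∀ t ∈ H, ∃ c : k, ρ t w = c • w) {x : G} (hx : x ∈ X) (hx1 : x ≠ 1) :
    ∃ y ∈ Y, ∃ t ∈ D, ∃ c : k, ρ t w = c • w ∧ ρ (x * n) w = c • ρ y w := by
  obtain ⟨y, hy, t, ht, x', hx', e⟩ := r.rk x hx hx1
  obtain ⟨c, hc⟩ := hH t (r.DH ht)
  refine ⟨y, hy, t, ht, c, hc, ?_⟩
  rw [e, mul_ap, mul_ap, hX x' hx', hc, map_smul]

theorem n_mem (hX : ∀ x ∈ X, ρ x w = w) (hH : ∀ t ∈ H, ∃ c : k, ρ t w = c • w) {μ : k} (hμ : Tn ρ X n w = μ • w) :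
    ρ n w ∈ Submodule.span k {z | ∃ y ∈ Y, z = ρ y w} := by
  classical
  let _ := Fintype.ofFinite X
  rw [Tn_apply, ← Finset.add_sum_erase univ _ (Finset.mem_univ (1 : X))] at hμ
  have e1 : ρ (((1 : X) : G) * n) w = ρ n w := by rw [Subgroup.coe_one, one_mul]
  rw [e1] at hμ
  have e2 := eq_sub_of_add_eq hμ
  rw [e2]
  refine Submodule.sub_mem _ (Submodule.smul_mem _ _ (Submodule.subset_span ⟨1, one_mem _, (one_ap ρ w).symm⟩))
    (Submodule.sum_mem _ fun x hx => ?_)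
  have hx1 : (x : G) ≠ 1 := fun h => (Finset.mem_erase.1 hx).1 (Subtype.ext h)
  obtain ⟨y, hy, t, ht, c, -, e⟩ := r.term hX hH x.2 hx1
  rw [e]
  exact Submodule.smul_mem _ _ (Submodule.subset_span ⟨y, hy, rfl⟩)

/-- `y = x₁ n t x₂` -/
theorem y_eq {y : G} (hy : y ∈ Y) (hy1 : y ≠ 1) : ∃ x₁ ∈ X, ∃ t ∈ D, ∃ x₂ ∈ X, y = x₁ * n * t * x₂ := by
  have h1 := r.YX y hy
  have h2 : n * y * n ≠ 1 := by
    intro h
    apply hy1
    have h3 : n * (n * y * n) * n = n * n := by rw [h, mul_one]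
    have h4 : n * (n * y * n) * n = (n * n) * y * (n * n) := by group
    rw [h4, r.sq, one_mul, mul_one] at h3
    exact h3
  obtain ⟨y', hy', t, ht, x', hx', e⟩ := r.rk _ h1 h2
  refine ⟨n * y' * n, r.YX y' hy', t, ht, x', hx', ?_⟩
  have e1 : n * y * n * n = n * y := by rw [mul_assoc, r.sq, mul_one]
  rw [e1] at e
  have e2 : n * y' * n * n * t * x' = n * (y' * t * x') := by
    rw [mul_assoc (n * y') n n, r.sq, mul_one]; group
  rw [e2, ← e, ← mul_assoc, r.sq, one_mul]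

theorem xy_mem (hX : ∀ x ∈ X, ρ x w = w) (hH : ∀ t ∈ H, ∃ c : k, ρ t w = c • w) {μ : k} (hμ : Tn ρ X n w = μ • w)
    {x y : G} (hx : x ∈ X) (hy : y ∈ Y) : ρ (x * y) w ∈ Submodule.span k {z | ∃ y ∈ Y, z = ρ y w} := by
  by_cases hy1 : y = 1
  · rw [hy1, mul_one, hX x hx]
    exact Submodule.subset_span ⟨1, one_mem _, (one_ap ρ w).symm⟩
  obtain ⟨x₁, hx₁, t, ht, x₂, hx₂, rfl⟩ := r.y_eq hy hy1
  obtain ⟨c, hc⟩ := hH t (r.DH ht)
  have e : x * (x₁ * n * t * x₂) = (x * x₁) * n * t * x₂ := by group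
  rw [e, mul_ap, mul_ap, hX x₂ hx₂, hc, map_smul]
  refine Submodule.smul_mem _ _ ?_
  by_cases h : x * x₁ = 1
  · rw [h, one_mul]
    exact r.n_mem hX hH hμ
  · obtain ⟨y', hy', t', ht', c', -, e'⟩ := r.term hX hH (mul_mem hx hx₁) h
    rw [e']
    exact Submodule.smul_mem _ _ (Submodule.subset_span ⟨y', hy', rfl⟩)

theorem Tn_y (ρ : G →* Module.End k V) (w : V) {y : G} (hy : y ∈ Y) : Tn ρ X n (ρ y w) = Tn ρ X n w := by
  have h := Tn_mul ρ X n (r.YX y hy) w
  have e : n⁻¹ * (n * y * n) * n = y := by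
    rw [r.n_inv]
    have : n * (n * y * n) * n = (n * n) * y * (n * n) := by group
    rw [this, r.sq, one_mul, mul_one]
  rw [e] at h
  exact h

theorem Tn_n (hX : ∀ x ∈ X, ρ x w = w) : Tn ρ X n (ρ n w) = (Nat.card X : k) • w := by
  let _ := Fintype.ofFinite X
  rw [Tn_apply]
  have : ∀ x : X, ρ ((x : G) * n) (ρ n w) = w := by
    intro x
    rw [← mul_ap, mul_assoc, r.sq, mul_one, hX x x.2]
  simp only [this]
  rw [Finset.sum_const, Finset.card_univ, ← Nat.card_eq_fintype_card, ← Nat.cast_smul_eq_nsmul k]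

theorem Tn_sq (hX : ∀ x ∈ X, ρ x w = w) (hH : ∀ t ∈ H, ∃ c : k, ρ t w = c • w) (h0 : (Nat.card X : k) = 0) :
    ∃ s : k, Tn ρ X n (Tn ρ X n w) = s • Tn ρ X n w := by
  classical
  let _ := Fintype.ofFinite X
  have h1 : ∀ x : X, ∃ c : k, (x : G) ≠ 1 → Tn ρ X n (ρ ((x : G) * n) w) = c • Tn ρ X n w := by
    intro x
    by_cases hx1 : (x : G) = 1
    · exact ⟨0, fun h => absurd hx1 h⟩
    · obtain ⟨y, hy, t, ht, c, -, e⟩ := r.term hX hH x.2 hx1
      refine ⟨c, fun _ => ?_⟩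
      rw [e, map_smul, r.Tn_y ρ w hy]
  choose c hc using h1
  refine ⟨∑ x ∈ univ.erase (1 : X), c x, ?_⟩
  conv_lhs => rw [Tn_apply ρ X n w]
  rw [map_sum, ← Finset.add_sum_erase univ _ (Finset.mem_univ (1 : X))]
  have e1 : ρ (((1 : X) : G) * n) w = ρ n w := by rw [Subgroup.coe_one, one_mul]
  rw [e1, r.Tn_n hX, h0, zero_smul, zero_add, Finset.sum_smul]
  refine Finset.sum_congr rfl fun x hx => hc x ?_
  exact fun h => (Finset.mem_erase.1 hx).1 (Subtype.ext h)

end R1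

end rank1

/-! ### the opposite unipotent group -/

section neg

variable {ι G k V : Type*} [Group G] [Finite G] [Field k] [AddCommGroup V] [Module k V]

/-- the opposite unipotent group -/
structure Opp (Q : Subgroup G) (X Y M : ι → Subgroup G) : Prop where
  dec : ∀ i, ∀ g ∈ Q, ∃ a ∈ M i, ∃ y ∈ Y i, g = a * y
  YQ : ∀ i, Y i ≤ Q
  MQ : ∀ i, M i ≤ Q
  XM : ∀ i, ∀ x ∈ X i, ∀ a ∈ M i, x * a * x⁻¹ ∈ M i
  gen : Q ⊔ ⨆ i, X i = ⊤

/-- **the span of `G w` is the span of `Q w`** -/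
theorem span_neg {Q : Subgroup G} {X Y M : ι → Subgroup G} (o : Opp Q X Y M) (ρ : G →* Module.End k V) {w : V}
    (hxy : ∀ i, ∀ x ∈ X i, ∀ y ∈ Y i, ρ (x * y) w ∈ Submodule.span k {z | ∃ y ∈ Y i, z = ρ y w}) (g : G) :
    ρ g w ∈ Submodule.span k {z | ∃ u ∈ Q, z = ρ u w} := by
  set W := Submodule.span k {z | ∃ u ∈ Q, z = ρ u w} with hW
  have key : ∀ g : G, ∀ z ∈ W, ρ g z ∈ W := by
    intro g
    have hg : g ∈ Q ⊔ ⨆ i, X i := by rw [o.gen]; trivial
    have hgen : (Q : Set G) ∪ ⋃ i, (X i : Set G) ⊆ {g | ∀ z ∈ W, ρ g z ∈ W} := by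
      rintro g (hg | hg) z hz
      · induction hz using Submodule.span_induction with
        | mem z hz =>
          obtain ⟨u, hu, rfl⟩ := hz
          rw [← mul_ap]
          exact Submodule.subset_span ⟨g * u, mul_mem hg hu, rfl⟩
        | zero => rw [map_zero]; exact W.zero_mem
        | add a b _ _ h1 h2 => rw [map_add]; exact W.add_mem h1 h2
        | smul c a _ h1 => rw [map_smul]; exact W.smul_mem _ h1
      · obtain ⟨i, hi⟩ := Set.mem_iUnion.1 hg
        induction hz using Submodule.span_induction with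
        | mem z hz =>
          obtain ⟨u, hu, rfl⟩ := hz
          obtain ⟨a, ha, y, hy, rfl⟩ := o.dec i u hu
          have e : g * (a * y) = (g * a * g⁻¹) * (g * y) := by group
          rw [← mul_ap, e, mul_ap]
          have h1 := hxy i g hi y hy
          have h2 := o.MQ i (o.XM i g hi a ha)
          generalize ρ (g * y) w = z at h1
          induction h1 using Submodule.span_induction with
          | mem z hz =>
            obtain ⟨y', hy', rfl⟩ := hz
            rw [← mul_ap]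
            exact Submodule.subset_span ⟨_, mul_mem h2 (o.YQ i hy'), rfl⟩
          | zero => rw [map_zero]; exact W.zero_mem
          | add a b _ _ h1 h2 => rw [map_add]; exact W.add_mem h1 h2
          | smul c a _ h1 => rw [map_smul]; exact W.smul_mem _ h1
        | zero => rw [map_zero]; exact W.zero_mem
        | add a b _ _ h1 h2 => rw [map_add]; exact W.add_mem h1 h2
        | smul c a _ h1 => rw [map_smul]; exact W.smul_mem _ h1
    have hle : (Q ⊔ ⨆ i, X i) = Subgroup.closure ((Q : Set G) ∪ ⋃ i, (X i : Set G)) := by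
      rw [Subgroup.closure_union, Subgroup.closure_iUnion, Subgroup.closure_eq]
      simp only [Subgroup.closure_eq]
    rw [hle] at hg
    induction hg using Subgroup.closure_induction with
    | mem g hg => exact hgen hg
    | one => intro z hz; rw [one_ap]; exact hz
    | mul a b _ _ h1 h2 => intro z hz; rw [mul_ap]; exact h1 _ (h2 _ hz)
    | inv a _ h1 =>
      intro z hz
      -- `a` has finite order
      obtain ⟨n, hn⟩ : ∃ n : ℕ, a⁻¹ = a ^ n := by
        have := (mem_powers_iff_mem_zpowers (x := a) (y := a⁻¹)).2 (Subgroup.inv_mem _ (Subgroup.mem_zpowers a))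
        obtain ⟨n, hn⟩ := this
        exact ⟨n, hn.symm⟩
      rw [hn]
      clear hn
      induction n with
      | zero => rw [pow_zero, one_ap]; exact hz
      | succ n ih => rw [pow_succ', mul_ap]; exact h1 _ ih
  exact key g w (Submodule.subset_span ⟨1, one_mem _, (one_ap ρ w).symm⟩)

end neg

/-! ### a common eigenvector -/

section simul

variable {k V : Type*} [Field k] [AddCommGroup V] [Module k V]

/-- alternating words -/
def alt (T : Bool → Module.End k V) : Bool → ℕ → V → V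
  | _, 0, v => v
  | b, m + 1, v => T b (alt T (!b) m v)

theorem exists_simul (T : Bool → Module.End k V) (E : V → Prop) (hT : ∀ b v, E v → E (T b v))
    (hsq : ∀ b v, E v → ∃ s : k, T b (T b v) = s • T b v) (L : ℕ) (hL : 0 < L)
    (hbr : ∀ b v, E v → ∃ c : k, alt T b L v = c • alt T (!b) L v) {v : V} (hv : E v) (hv0 : v ≠ 0) :
    ∃ w, w ≠ 0 ∧ E w ∧ ∀ b, ∃ μ : k, T b w = μ • w := by
  classical
  have hE : ∀ m b, E (alt T b m v) := by
    intro m
    induction m with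
    | zero => exact fun _ => hv
    | succ m ih => exact fun b => hT b _ (ih _)
  set P : ℕ → Prop := fun m => ∃ b, alt T b m v ≠ 0 with hP
  have hP0 : P 0 := ⟨true, hv0⟩
  set m := Nat.findGreatest P L with hm
  have hPm : P m := Nat.findGreatest_spec (Nat.zero_le L) hP0
  have hmL : m ≤ L := Nat.findGreatest_le L
  obtain ⟨b, hb⟩ := hPm
  refine ⟨_, hb, hE m b, ?_⟩
  -- the other letter
  have hother : ∃ μ : k, T (!b) (alt T b m v) = μ • alt T b m v := by
    rcases lt_or_eq_of_le hmL with h | h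
    · have h1 := Nat.findGreatest_is_greatest (P := P) (n := L) (k := m + 1) (by omega) (by omega)
      rw [hP] at h1
      push Not at h1
      refine ⟨0, ?_⟩
      rw [zero_smul]
      have := h1 (!b)
      rw [alt, Bool.not_not] at this
      exact this
    · obtain ⟨c, hc⟩ := hbr b v hv
      have hc' : alt T b m v = c • alt T (!b) m v := by rw [h]; exact hc
      have hc0 : c ≠ 0 := by
        rintro rfl
        rw [zero_smul] at hc'
        exact hb hc'
      obtain ⟨l, hl⟩ : ∃ l, m = l + 1 := ⟨m - 1, by omega⟩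
      obtain ⟨s, hs⟩ := hsq (!b) _ (hE l b)
      refine ⟨s, ?_⟩
      have e : alt T (!b) m v = T (!b) (alt T b l v) := by rw [hl, alt, Bool.not_not]
      rw [hc', e, map_smul, hs, smul_comm]
  -- the same letter
  have hsame : ∃ μ : k, T b (alt T b m v) = μ • alt T b m v := by
    rcases Nat.eq_zero_or_pos m with h | h
    · have h1 := Nat.findGreatest_is_greatest (P := P) (n := L) (k := m + 1) (by omega) (by omega)
      rw [hP] at h1
      push Not at h1
      refine ⟨0, ?_⟩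
      rw [zero_smul]
      have := h1 b
      rw [h] at this ⊢
      exact this
    · obtain ⟨l, hl⟩ : ∃ l, m = l + 1 := ⟨m - 1, by omega⟩
      obtain ⟨s, hs⟩ := hsq b _ (hE l (!b))
      refine ⟨s, ?_⟩
      have e : alt T b m v = T b (alt T (!b) l v) := by rw [hl, alt]
      rw [e, hs]
  intro b'
  rcases eq_or_ne b' b with h | h
  · rw [h]; exact hsame
  · have : b' = !b := by cases b <;> cases b' <;> simp_all only [_root_.Bool.forall_bool, _root_.and_self, _root_.Bool.not_true, _root_.ne_eq, _root_.Bool.exists_bool, _root_.or_self, _root_.not_true_eq_false, _root_.Bool.not_false, _root_.Bool.true_eq_false, _root_.not_false_eq_true, _root_.Bool.false_eq_true]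
    rw [this]; exact hother

end simul

end Cfsg.Agent.H421.TW
end

-- part: H421/TW/Full
section
/-!
# Weight vectors of a group of type `²F₄` in characteristic two (helper421)

`S : Full σ G` (`KFacts/TwF4/Full.lean`; instance `KFacts.TwF4.Inst.full hK hφ : Full φ ↥(twistedF4 K (2 ^ m))`).
Nodes: `true` : `X_1 = {o 0 t}`, `n_1`, `D_1 = {h c c}`; `false` : `X_8 = {e 4 p u}`, `n_2`, `D_2 = {h (σ d) d}`.

* `Wt S ρ w` : `w` is fixed by `P = ⟨X_1, …, X_8⟩`, an eigenvector of the torus and of the two operators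
  `Tn ρ (XX S b) (nn S b)`;
* `exists_wt` : such vectors exist over an algebraically closed field of characteristic two;
* `Wt.gen` : the span of `G w` is the span of `Q w`, `Q = ⟨X_9, …, X_16⟩`;
* `Wt.mu_zero`, `Wt.mu_one`, `Wt.mu_f` : the eigenvalues `μ`.
-/

set_option autoImplicit false
set_option linter.unusedSectionVars false

namespace Cfsg.Agent.H421.TW

open Cfsg.Agent.SplitTwo Cfsg.Agent.SplitTwo.ZS Cfsg.Agent.TitsThree.RankTwoZ Cfsg.Agent.KFacts.TwF4 Finset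
open Cfsg.Agent.KFacts.TwF4.Full

universe u

/-! ### eigenvectors -/

section eig

variable {G k V : Type*} [Group G] [Field k] [AddCommGroup V] [Module k V]

theorem exists_eig [IsAlgClosed k] [FiniteDimensional k V] (ρ : G →* Module.End k V) (T : Subgroup G)
    (hT : ∀ s ∈ T, ∀ t ∈ T, s * t = t * s) (E : Submodule k V) (hE : E ≠ ⊥) (hinv : ∀ t ∈ T, ∀ v ∈ E, ρ t v ∈ E) :
    ∃ v ∈ E, v ≠ 0 ∧ ∀ t ∈ T, ∃ c : k, ρ t v = c • v := by
  obtain ⟨N, ⟨hN0, hNE, hNT⟩, hmin⟩ := (wellFounded_lt : WellFounded ((· < ·) : Submodule k V → _ → Prop)).has_min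
    {N | N ≠ ⊥ ∧ N ≤ E ∧ ∀ t ∈ T, ∀ v ∈ N, ρ t v ∈ N} ⟨E, hE, le_rfl, hinv⟩
  have hsc : ∀ t ∈ T, ∃ c : k, ∀ v ∈ N, ρ t v = c • v := by
    intro t ht
    have hnt : Nontrivial N := Submodule.nontrivial_iff_ne_bot.2 hN0
    obtain ⟨c, hc⟩ := Module.End.exists_eigenvalue ((ρ t).restrict (hNT t ht))
    obtain ⟨v, hv, hv0⟩ := hc.exists_hasEigenvector
    have hv1 : ρ t v = c • (v : V) := congrArg Subtype.val (Module.End.mem_eigenspace_iff.1 hv)
    set N' : Submodule k V := N ⊓ LinearMap.ker (ρ t - c • (1 : Module.End k V)) with hN'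
    have hmem : ∀ v, v ∈ N' ↔ v ∈ N ∧ ρ t v = c • v := by
      intro v
      rw [hN', Submodule.mem_inf, LinearMap.mem_ker, LinearMap.sub_apply, LinearMap.smul_apply, Module.End.one_apply,
        sub_eq_zero]
    have h1 : ¬ N' < N := by
      refine hmin N' ⟨?_, le_trans inf_le_left hNE, ?_⟩
      · intro h
        have h2 : (v : V) ∈ N' := (hmem _).2 ⟨v.2, hv1⟩
        rw [h, Submodule.mem_bot] at h2
        exact hv0 (Subtype.ext h2)
      · intro s hs w hw
        obtain ⟨hw1, hw2⟩ := (hmem w).1 hw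
        refine (hmem _).2 ⟨hNT s hs w hw1, ?_⟩
        rw [← mul_ap, hT t ht s hs, mul_ap, hw2, map_smul]
    have h2 : N' = N := by
      by_contra hne
      exact h1 (lt_of_le_of_ne inf_le_left hne)
    refine ⟨c, fun w hw => ?_⟩
    rw [← h2] at hw
    exact ((hmem w).1 hw).2
  obtain ⟨v, hv, hv0⟩ := (Submodule.ne_bot_iff N).1 hN0
  refine ⟨v, hNE hv, hv0, fun t ht => ?_⟩
  obtain ⟨c, hc⟩ := hsc t ht
  exact ⟨c, hc v hv⟩

end eig

/-! ### composition of sums -/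

section comp

variable {G k V : Type*} [Group G] [Finite G] [Field k] [AddCommGroup V] [Module k V]

theorem Tn_comp (ρ : G →* Module.End k V) {A B C : Subgroup G} {n g : G}
    (h1 : ∀ x ∈ A, ∀ u ∈ B, x * (n * u * n⁻¹) ∈ C)
    (h2 : ∀ c ∈ C, ∃ x ∈ A, ∃ u ∈ B, c = x * (n * u * n⁻¹))
    (h3 : ∀ x ∈ A, ∀ u ∈ B, x = n * u * n⁻¹ → x = 1) (w : V) :
    Tn ρ A n (Tn ρ B g w) = Tn ρ C (n * g) w := by
  classical
  let _ := Fintype.ofFinite A
  let _ := Fintype.ofFinite B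
  let _ := Fintype.ofFinite C
  rw [Tn_apply, Tn_apply, Tn_apply]
  have e : ∀ x : A, ρ ((x : G) * n) (∑ u : B, ρ ((u : G) * g) w) =
      ∑ u : B, ρ (((x : G) * (n * (u : G) * n⁻¹)) * (n * g)) w := by
    intro x
    rw [map_sum]
    refine Finset.sum_congr rfl fun u _ => ?_
    rw [← mul_ap]
    congr 2
    group
  simp only [e]
  rw [← Fintype.sum_prod_type' (f := fun (x : A) (u : B) => ρ (((x : G) * (n * (u : G) * n⁻¹)) * (n * g)) w)]
  refine Fintype.sum_bijective (fun x : A × B => (⟨x.1 * (n * x.2 * n⁻¹), h1 _ x.1.2 _ x.2.2⟩ : C)) ⟨?_, ?_⟩ _ _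
    fun x => rfl
  · rintro ⟨x, u⟩ ⟨x', u'⟩ h
    have h4 : (x : G) * (n * (u : G) * n⁻¹) = (x' : G) * (n * (u' : G) * n⁻¹) := congrArg Subtype.val h
    have h5 : (x' : G)⁻¹ * x = n * ((u' : G) * (u : G)⁻¹) * n⁻¹ := by
      have h6 : (x : G) = (x' : G) * (n * (u' : G) * n⁻¹) * (n * (u : G) * n⁻¹)⁻¹ := by
        rw [← h4]; group
      rw [h6]; group
    have h6 := h3 _ (mul_mem (inv_mem x'.2) x.2) _ (mul_mem u'.2 (inv_mem u.2)) h5
    have h7 : (x : G) = x' := (inv_mul_eq_one.1 h6).symm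
    rw [h6] at h5
    have h8 : (u' : G) * (u : G)⁻¹ = 1 := by
      have h9 := congrArg (fun z => n⁻¹ * z * n) h5
      have h10 : n⁻¹ * (n * ((u' : G) * (u : G)⁻¹) * n⁻¹) * n = (u' : G) * (u : G)⁻¹ := by group
      simp only [h10] at h9
      rw [← h9]; group
    have h9 : (u : G) = u' := (mul_inv_eq_one.1 h8).symm
    exact Prod.ext (Subtype.ext h7) (Subtype.ext h9)
  · rintro ⟨c, hc⟩
    obtain ⟨x, hx, u, hu, rfl⟩ := h2 c hc
    exact ⟨(⟨x, hx⟩, ⟨u, hu⟩), rfl⟩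

theorem Tn_mul_right (ρ : G →* Module.End k V) (A : Subgroup G) (g t : G) (w : V) :
    Tn ρ A (g * t) w = Tn ρ A g (ρ t w) := by
  let _ := Fintype.ofFinite A
  rw [Tn_apply, Tn_apply]
  refine Finset.sum_congr rfl fun u _ => ?_
  rw [← mul_ap, mul_assoc]

end comp

variable {F : Type*} [Field F] {σ : F →+* F} {G : Type u} [Group G] (S : Full σ G)

/-! ### the data -/

/-- the positive unipotent group -/
def P : Subgroup G := J S.XZ 1 8
/-- the negative unipotent group -/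
def Q : Subgroup G := J S.XZ 9 16
/-- the simple root groups -/
def XX : Bool → Subgroup G
  | true => S.XZ 1
  | false => S.XZ 8
/-- the opposite simple root groups -/
def YY : Bool → Subgroup G
  | true => S.XZ 9
  | false => S.XZ 16
/-- the unipotent radicals of the opposite minimal parabolics -/
def MM : Bool → Subgroup G
  | true => J S.XZ 10 16
  | false => J S.XZ 9 15
/-- the unipotent radicals of the minimal parabolics -/
def NN : Bool → Subgroup G
  | true => J S.XZ 2 8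
  | false => J S.XZ 1 7
/-- the reflections -/
def nn : Bool → G
  | true => S.n1
  | false => S.n2

/-- `c ↦ h c c`, `d ↦ h (σ d) d` -/
def hc : Bool → Fˣ → G
  | true => fun c => S.h c c
  | false => fun d => S.h (Units.map (σ : F →* F) d) d

theorem hc_mul (b : Bool) (c d : Fˣ) : hc S b (c * d) = hc S b c * hc S b d := by
  cases b
  · show S.h (Units.map (σ : F →* F) (c * d)) (c * d) = S.h _ _ * S.h _ _
    rw [S.h_mul, map_mul]
  · show S.h (c * d) (c * d) = S.h _ _ * S.h _ _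
    rw [S.h_mul]

/-- the tori of the rank one groups -/
def DD (b : Bool) : Subgroup G where
  carrier := {g | ∃ c, hc S b c = g}
  one_mem' := ⟨1, by
    cases b
    · show S.h (Units.map (σ : F →* F) 1) 1 = 1
      rw [map_one, S.h_one]
    · show S.h 1 1 = 1
      rw [S.h_one]⟩
  mul_mem' := by
    rintro _ _ ⟨c, rfl⟩ ⟨d, rfl⟩
    exact ⟨c * d, hc_mul S b c d⟩
  inv_mem' := by
    rintro _ ⟨c, rfl⟩
    refine ⟨c⁻¹, ?_⟩
    cases b
    · show S.h (Units.map (σ : F →* F) c⁻¹) c⁻¹ = (S.h _ _)⁻¹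
      rw [S.h_inv, map_inv]
    · show S.h c⁻¹ c⁻¹ = (S.h _ _)⁻¹
      rw [S.h_inv]

theorem hc_mem (b : Bool) (c : Fˣ) : hc S b c ∈ DD S b := ⟨c, rfl⟩

theorem nn_sq (b : Bool) : nn S b * nn S b = 1 := by
  cases b
  · exact S.n2_sq
  · exact S.n1_sq

theorem nn_inv (b : Bool) : (nn S b)⁻¹ = nn S b := inv_eq_of_mul_eq_one_left (nn_sq S b)

theorem refl (b : Bool) : _root_.Cfsg.Agent.SplitTwo.ZS.Refl S.XZ (bif b then 10 else 8) (nn S b) := by
  cases b
  · exact S.n2_refl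
  · exact S.n1_refl

theorem XZ_16 (k : ℤ) : S.XZ (k - 16) = S.XZ k := by
  have := S.zsys8.per' k
  simpa using this

/-! ### the reflections and the torus -/

theorem n2_maps : Maps S.R.X S.n2 (fun k => 8 - k) := by
  intro k x
  have h := S.n2_refl (k.val : ℤ) x
  have hk : (((k.val : ℕ) : ℤ) : ZMod (2 * 8)) = k := by rw [Int.cast_natCast]; exact ZMod.natCast_zmod_val _
  have h8 : x ∈ S.XZ (k.val : ℤ) ↔ x ∈ S.R.X k := by show x ∈ S.R.X _ ↔ _; rw [hk]
  have h9 : S.n2 * x * S.n2⁻¹ ∈ S.XZ (8 - (k.val : ℤ)) ↔ S.n2 * x * S.n2⁻¹ ∈ S.R.X (8 - k) := by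
    show _ ∈ S.R.X _ ↔ _
    rw [Int.cast_sub, hk]; rfl
  rw [h8, h9] at h
  exact h.symm

theorem n2_h (c d : Fˣ) : S.n2 * S.h c d * S.n2⁻¹ = S.h c⁻¹ (d / Units.map (σ : F →* F) c) := by
  have hT : S.h c d ∈ S.T := S.mem_T.2 ⟨c, d, rfl⟩
  have hT' : S.n2 * S.h c d * S.n2⁻¹ ∈ S.T := by
    show Maps S.R.X _ id
    have h1 : Maps S.R.X S.n2⁻¹ (fun k => 8 - k) := by rw [Arc.n2_inv S]; exact n2_maps S
    exact (((n2_maps S).mul hT).mul h1).congr fun k => by
      show 8 - (8 - k) = k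
      exact sub_sub_cancel 8 k
  have key : ∀ a : ZMod 8, (S.n2 * S.h c d * S.n2⁻¹) * S.e a 1 0 * (S.n2 * S.h c d * S.n2⁻¹)⁻¹ =
      S.e a (chE σ (4 - a) c d) 0 := by
    intro a
    have e1 : (S.n2 * S.h c d * S.n2⁻¹) * S.e a 1 0 * (S.n2 * S.h c d * S.n2⁻¹)⁻¹ =
        S.n2 * (S.h c d * (S.n2⁻¹ * S.e a 1 0 * S.n2) * (S.h c d)⁻¹) * S.n2⁻¹ := by group
    have e2 : S.n2⁻¹ * S.e a 1 0 * S.n2 = S.e (4 - a) 1 0 := by
      have := S.n2_e a 1 0
      rw [Arc.n2_inv S] at this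
      rw [Arc.n2_inv S]; exact this
    rw [e1, e2, S.h_e, S.n2_e, mul_one, mul_zero]
    congr 1; ring
  refine Arc.h_eq_of S hT' ?_ ?_
  · have := key 0
    rw [sub_zero, chE_four] at this
    exact this
  · have := key 1
    rw [show (4 : ZMod 8) - 1 = 3 by decide, chE_three] at this
    exact this

theorem T_comm : ∀ s ∈ S.T, ∀ t ∈ S.T, s * t = t * s := by
  intro s hs t ht
  obtain ⟨c, d, rfl⟩ := S.mem_T.1 hs
  obtain ⟨c', d', rfl⟩ := S.mem_T.1 ht
  rw [S.h_mul, S.h_mul, mul_comm c, mul_comm d]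

theorem DD_le (b : Bool) : DD S b ≤ S.T := by
  rintro _ ⟨c, rfl⟩
  cases b
  · exact S.mem_T.2 ⟨_, _, rfl⟩
  · exact S.mem_T.2 ⟨_, _, rfl⟩

theorem nH (b : Bool) : ∀ t ∈ S.T, nn S b * t * nn S b ∈ S.T := by
  intro t ht
  obtain ⟨c, d, rfl⟩ := S.mem_T.1 ht
  cases b
  · have := n2_h S c d
    rw [Arc.n2_inv S] at this
    show S.n2 * _ * S.n2 ∈ _
    rw [this]
    exact S.mem_T.2 ⟨_, _, rfl⟩
  · have := Arc.n1_h S c d
    rw [Arc.n1_inv S] at this
    show S.n1 * _ * S.n1 ∈ _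
    rw [this]
    exact S.mem_T.2 ⟨_, _, rfl⟩

theorem nD (b : Bool) : ∀ t ∈ DD S b, nn S b * t * nn S b = t⁻¹ := by
  rintro _ ⟨c, rfl⟩
  cases b
  · have := n2_h S (Units.map (σ : F →* F) c) c
    rw [Arc.n2_inv S] at this
    show S.n2 * S.h _ _ * S.n2 = (S.h _ _)⁻¹
    rw [this, S.h_inv]
    congr 1
    rw [_root_.Cfsg.Agent.KFacts.TwF4.map_map σ S.sq c, div_eq_iff_eq_mul, pow_two, ← mul_assoc, inv_mul_cancel, one_mul]
  · have := Arc.n1_h S c c
    rw [Arc.n1_inv S] at this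
    show S.n1 * S.h _ _ * S.n1 = (S.h _ _)⁻¹
    rw [this, S.h_inv]

/-- an element of `⟨X_1, X_9⟩` or `⟨X_0, X_8⟩` in the torus -/
theorem mem_DD_of {b : Bool} {t : G} (ht : t ∈ S.T)
    (h : bif b then t * S.o 2 1 = S.o 2 1 * t else t * S.e 2 1 0 = S.e 2 1 0 * t) : t ∈ DD S b := by
  obtain ⟨c, d, rfl⟩ := S.mem_T.1 ht
  cases b
  · have h1 : S.h c d * S.e 2 1 0 = S.e 2 1 0 * S.h c d := h
    have h2 := S.h_e c d 2 1 0
    rw [h1, mul_inv_cancel_right, mul_one, mul_zero] at h2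
    have h3 := (S.injE _ _ _ _ _ h2).1
    have h4 : (chE σ 2 c d) = 1 := Units.ext h3.symm
    rw [chE_two, div_eq_one] at h4
    exact ⟨d, by show S.h (Units.map (σ : F →* F) d) d = _; rw [h4]⟩
  · have h1 : S.h c d * S.o 2 1 = S.o 2 1 * S.h c d := h
    have h2 := S.h_o c d 2 1
    rw [h1, mul_inv_cancel_right, mul_one] at h2
    have h3 := S.injO _ h2
    have h4 : (chO σ 2 c d) = 1 := Units.ext h3.symm
    have h5 : chO σ 2 c d = (d / c) * Units.map (σ : F →* F) (d / c) := by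
      unfold chO
      rw [show (2 : ZMod 8) + 1 = 3 by decide, chE_two, chE_three, map_div]
      rw [div_mul_div_comm, div_mul_div_comm]
      congr 1
      rw [mul_comm]
    rw [h5] at h4
    have h6 := Arc.s1 S h4
    rw [div_eq_one] at h6
    exact ⟨c, by show S.h c c = _; rw [h6]⟩

/-! ### the rank one data -/

theorem XY (b : Bool) : ∀ x ∈ XX S b, nn S b * x * nn S b ∈ YY S b := by
  intro x hx
  have h := (refl S b).mem (j := bif b then 1 else 8) (x := x) (by cases b <;> exact hx)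
  rw [nn_inv S b] at h
  cases b
  · have h1 : nn S false * x * nn S false ∈ S.XZ (16 - 16) := h
    rw [XZ_16] at h1
    exact h1
  · exact h

theorem YX (b : Bool) : ∀ x ∈ YY S b, nn S b * x * nn S b ∈ XX S b := by
  intro x hx
  have h := (refl S b).mem (j := bif b then 9 else 16) (x := x) (by cases b <;> exact hx)
  rw [nn_inv S b] at h
  cases b
  · have h1 : nn S false * x * nn S false ∈ S.XZ (8 - 16) := h
    rw [XZ_16] at h1
    exact h1
  · exact h

theorem comm_XX {b : Bool} {x : G} (hx : x ∈ XX S b) :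
    bif b then x * S.o 2 1 = S.o 2 1 * x else x * S.e 2 1 0 = S.e 2 1 0 * x := by
  cases b
  · obtain ⟨p, u, rfl⟩ := (S.mem_XZ_even 4 x).1 hx
    exact (S.e_e2 2 1 0 p u).symm
  · obtain ⟨t, rfl⟩ := (S.mem_XZ_odd 0 x).1 hx
    exact S.o_o2 0 t 1

theorem comm_YY {b : Bool} {x : G} (hx : x ∈ YY S b) :
    bif b then x * S.o 2 1 = S.o 2 1 * x else x * S.e 2 1 0 = S.e 2 1 0 * x := by
  cases b
  · have hx' : x ∈ S.XZ (2 * 0) := by
      have := XZ_16 S 16
      rw [sub_self] at this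
      rw [mul_zero, this]
      exact hx
    obtain ⟨p, u, rfl⟩ := (S.mem_XZ_even 0 x).1 hx'
    exact S.e_e2 0 p u 1 0
  · obtain ⟨t, rfl⟩ := (S.mem_XZ_odd 4 x).1 hx
    exact (S.o_o2 2 1 t).symm

theorem comm_nn (b : Bool) :
    bif b then nn S b * S.o 2 1 = S.o 2 1 * nn S b else nn S b * S.e 2 1 0 = S.e 2 1 0 * nn S b := by
  cases b
  · have h := S.n2_e 2 1 0
    rw [show (4 : ZMod 8) - 2 = 2 by decide] at h
    show S.n2 * S.e 2 1 0 = S.e 2 1 0 * S.n2
    rw [mul_inv_eq_iff_eq_mul] at h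
    exact h
  · have h := S.n1_o 2 1
    rw [show (4 : ZMod 8) - 2 = 2 by decide] at h
    show S.n1 * S.o 2 1 = S.o 2 1 * S.n1
    rw [mul_inv_eq_iff_eq_mul] at h
    exact h

theorem mul_comm_el {a x y : G} (h1 : x * a = a * x) (h2 : y * a = a * y) : (x * y) * a = a * (x * y) := by
  rw [mul_assoc, h2, ← mul_assoc, h1, mul_assoc]

theorem rk (b : Bool) : ∀ x ∈ XX S b, x ≠ 1 →
    ∃ y ∈ YY S b, ∃ t ∈ DD S b, ∃ x' ∈ XX S b, x * nn S b = y * t * x' := by
  intro x hx hx1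
  obtain ⟨v, hv, v', hv', hm⟩ := S.zsys8.mu (bif b then 1 else 8) x (by cases b <;> exact hx) hx1
  have hvY : ∀ v ∈ S.XZ ((bif b then 1 else 8) - 8), v ∈ YY S b := by
    intro v hv
    cases b
    · have h1 : v ∈ S.XZ (16 - 16) := hv
      rw [XZ_16] at h1
      exact h1
    · have h1 : v ∈ S.XZ (9 - 16) := hv
      rw [XZ_16] at h1
      exact h1
  have hv1 := hvY v hv
  have hv1' := hvY v' hv'
  set m := v * x * v' with hmdef
  set t := m * nn S b with ht
  have htT : t ∈ S.T := by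
    show Maps S.R.X t id
    intro k x
    have h := hm ((bif b then 10 else 8) - (k.val : ℤ)) (nn S b * x * (nn S b)⁻¹)
    have h' := (refl S b) (k.val : ℤ) x
    rw [← h'] at h
    have hk : (((k.val : ℕ) : ℤ) : ZMod (2 * 8)) = k := by rw [Int.cast_natCast]; exact ZMod.natCast_zmod_val _
    have e1 : t * x * t⁻¹ = m * (nn S b * x * (nn S b)⁻¹) * m⁻¹ := by rw [ht]; group
    have e2 : 2 * (bif b then 1 else 8) - 8 - ((bif b then 10 else 8) - (k.val : ℤ)) = (k.val : ℤ) ∨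
        2 * (bif b then 1 else 8) - 8 - ((bif b then 10 else 8) - (k.val : ℤ)) = (k.val : ℤ) - 16 := by
      cases b
      · left
        show (2 * 8 - 8 - (8 - (k.val : ℤ)) : ℤ) = _
        ring
      · right
        show (2 * 1 - 8 - (10 - (k.val : ℤ)) : ℤ) = _
        ring
    have e3 : S.XZ (2 * (bif b then 1 else 8) - 8 - ((bif b then 10 else 8) - (k.val : ℤ))) = S.R.X k := by
      rcases e2 with e2 | e2
      · rw [e2]; show S.R.X _ = _; rw [hk]
      · rw [e2, XZ_16]; show S.R.X _ = _; rw [hk]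
    rw [e3, ← e1] at h
    have e4 : S.XZ (k.val : ℤ) = S.R.X k := by show S.R.X _ = _; rw [hk]
    rw [e4] at h
    exact h.symm
  have htD : t ∈ DD S b := by
    refine mem_DD_of S htT ?_
    cases b
    · exact mul_comm_el (mul_comm_el (mul_comm_el (comm_YY S hv1) (comm_XX S hx)) (comm_YY S hv1')) (comm_nn S false)
    · exact mul_comm_el (mul_comm_el (mul_comm_el (comm_YY S hv1) (comm_XX S hx)) (comm_YY S hv1')) (comm_nn S true)
  refine ⟨v⁻¹, inv_mem hv1, t, htD, nn S b * v'⁻¹ * nn S b, YX S b _ (inv_mem hv1'), ?_⟩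
  have h1 : t * nn S b = m := by rw [ht, mul_assoc, nn_sq, mul_one]
  calc x * nn S b = v⁻¹ * m * v'⁻¹ * nn S b := by rw [hmdef]; group
    _ = v⁻¹ * (t * nn S b) * v'⁻¹ * nn S b := by rw [h1]
    _ = v⁻¹ * t * (nn S b * v'⁻¹ * nn S b) := by group

theorem r1 (b : Bool) : R1 S.T (DD S b) (XX S b) (YY S b) (nn S b) where
  XY := XY S b
  YX := YX S b
  sq := nn_sq S b
  DH := DD_le S b
  HX := by
    intro t ht x hx
    cases b
    · exact S.T_conj ht 8 hx
    · exact S.T_conj ht 1 hx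
  nH := nH S b
  nD := nD S b
  rk := rk S b

/-! ### the opposite unipotent group -/

theorem opp : Opp (Q S) (XX S) (YY S) (MM S) where
  dec := by
    intro b g hg
    cases b
    · obtain ⟨y', hy', x, hx, e⟩ := S.zsys8.split_rr (a := 9) (b := 16) (by norm_num) (by norm_num) hg
      exact ⟨y', hy', x, hx, e⟩
    · obtain ⟨y', hy', x, hx, e⟩ := S.zsys8.split_lr (a := 9) (b := 16) (by norm_num) (by norm_num) hg
      exact ⟨y', hy', x, hx, e⟩
  YQ := by
    intro b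
    cases b
    · exact X_le_J (by norm_num) (by norm_num)
    · exact X_le_J (by norm_num) (by norm_num)
  MQ := by
    intro b
    cases b
    · exact J_mono (by norm_num) (by norm_num)
    · exact J_mono (by norm_num) (by norm_num)
  XM := by
    intro b x hx a ha
    cases b
    · exact S.zsys8.conj_X (a := 9) (b := 15) (k := 8) (by norm_num) (by norm_num) (by norm_num) hx ha
    · have hx' : x ∈ S.XZ 17 := by
        have := XZ_16 S 17
        rw [← this]
        exact hx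
      exact S.zsys8.conj_X (a := 10) (b := 16) (k := 17) (by norm_num) (by norm_num) (by norm_num) hx' ha
  gen := by
    set K := Q S ⊔ ⨆ i, XX S i with hK
    have hX1 : S.XZ 1 ≤ K := le_trans (le_iSup (XX S) true) le_sup_right
    have hX8 : S.XZ 8 ≤ K := le_trans (le_iSup (XX S) false) le_sup_right
    have hX9 : S.XZ 9 ≤ K := le_trans (X_le_J (X := S.XZ) (a := 9) (b := 16) (by norm_num) (by norm_num)) le_sup_left
    have hX16 : S.XZ 16 ≤ K :=
      le_trans (X_le_J (X := S.XZ) (a := 9) (b := 16) (by norm_num) (by norm_num)) le_sup_left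
    have hn1 : S.n1 ∈ K := by
      rw [S.n1_word]
      refine mul_mem (mul_mem (hX1 ?_) (hX9 ?_)) (hX1 ?_)
      · exact S.o_mem 0 1
      · exact S.o_mem 4 1
      · exact S.o_mem 0 1
    have h16 : S.XZ 0 = S.XZ 16 := by
      have := XZ_16 S 16
      rwa [sub_self] at this
    have hn2 : S.n2 ∈ K := by
      rw [S.n2_word]
      refine mul_mem (mul_mem (hX8 ?_) (hX16 ?_)) (hX8 ?_)
      · exact S.e_mem 4 0 1
      · rw [← h16]; exact S.e_mem 0 1 1
      · exact S.e_mem 4 1 0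
    have h1 : ∀ j : ℤ, S.XZ j ≤ K → S.XZ (10 - j) ≤ K := by
      intro j hj x hx
      have h2 := S.n1_refl.mem hx
      rw [sub_sub_cancel] at h2
      have h3 := hj h2
      have e : x = S.n1⁻¹ * (S.n1 * x * S.n1⁻¹) * S.n1 := by group
      rw [e]
      exact mul_mem (mul_mem (inv_mem hn1) h3) hn1
    have h2 : ∀ j : ℤ, S.XZ j ≤ K → S.XZ (8 - j) ≤ K := by
      intro j hj x hx
      have h2 := S.n2_refl.mem hx
      rw [sub_sub_cancel] at h2
      have h3 := hj h2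
      have e : x = S.n2⁻¹ * (S.n2 * x * S.n2⁻¹) * S.n2 := by group
      rw [e]
      exact mul_mem (mul_mem (inv_mem hn2) h3) hn2
    have h3 : ∀ j : ℤ, S.XZ j ≤ K → S.XZ (j + 2) ≤ K := by
      intro j hj
      have := h1 _ (h2 _ hj)
      rwa [show 10 - (8 - j) = j + 2 by ring] at this
    have h4 : ∀ n : ℕ, S.XZ (1 + 2 * n) ≤ K ∧ S.XZ (8 + 2 * n) ≤ K := by
      intro n
      induction n with
      | zero => simpa using ⟨hX1, hX8⟩
      | succ n ih =>
        have h5 := h3 _ ih.1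
        have h6 := h3 _ ih.2
        constructor
        · have e : (1 : ℤ) + 2 * ((n + 1 : ℕ) : ℤ) = 1 + 2 * n + 2 := by push_cast; ring
          rw [e]; exact h5
        · have e : (8 : ℤ) + 2 * ((n + 1 : ℕ) : ℤ) = 8 + 2 * n + 2 := by push_cast; ring
          rw [e]; exact h6
    rw [eq_top_iff, ← S.R.gen]
    refine iSup_le fun k => ?_
    have hk : (((k.val : ℕ) : ℤ) : ZMod (2 * 8)) = k := by rw [Int.cast_natCast]; exact ZMod.natCast_zmod_val _
    rcases Nat.even_or_odd' k.val with ⟨l, hl | hl⟩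
    · have h5 := (h4 (l + 4)).2
      have e : S.XZ (8 + 2 * ((l + 4 : ℕ) : ℤ)) = S.R.X k := by
        rw [← XZ_16]
        show S.R.X _ = _
        rw [← hk, hl]
        congr 2
        push_cast; ring
      rw [← e]; exact h5
    · have h5 := (h4 l).1
      have e : S.XZ (1 + 2 * ((l : ℕ) : ℤ)) = S.R.X k := by
        show S.R.X _ = _
        rw [← hk, hl]
        congr 2
        push_cast; ring
      rw [← e]; exact h5

/-! ### words -/

/-- the root groups made negative by an alternating word -/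
def arc : Bool → ℕ → Subgroup G
  | true, m => J S.XZ 1 m
  | false, m => J S.XZ (9 - m) 8

/-- alternating products of `n_1`, `n_2` -/
def gg : Bool → ℕ → G
  | _, 0 => 1
  | b, m + 1 => nn S b * gg (!b) m

theorem arc_mem (b : Bool) {m : ℕ} (hm : m + 1 ≤ 8) : ∀ x ∈ XX S b, ∀ u ∈ arc S (!b) m,
    x * (nn S b * u * (nn S b)⁻¹) ∈ arc S b (m + 1) := by
  intro x hx u hu
  cases b
  · have h1 := S.n2_refl.mem_J (a := 1) (b := m) (a' := 8 - m) (b' := 7) hu (by omega) (by omega)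
    refine mul_mem (mem_J (k := 8) hx ?_ le_rfl) (J_mono ?_ ?_ h1)
    · push_cast; omega
    · push_cast; omega
    · norm_num
  · have h1 := S.n1_refl.mem_J (a := 9 - m) (b := 8) (a' := 2) (b' := m + 1) hu (by omega) (by omega)
    refine mul_mem (mem_J (k := 1) hx le_rfl ?_) (J_mono ?_ ?_ h1)
    · push_cast; omega
    · norm_num
    · push_cast; omega

theorem arc_surj (b : Bool) {m : ℕ} (hm : m + 1 ≤ 8) : ∀ c ∈ arc S b (m + 1), ∃ x ∈ XX S b, ∃ u ∈ arc S (!b) m,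
    c = x * (nn S b * u * (nn S b)⁻¹) := by
  intro c hc
  cases b
  · obtain ⟨x, hx, y, hy, rfl⟩ := S.zsys8.split_rl (a := 9 - ((m + 1 : ℕ) : ℤ)) (b := 8) (by push_cast; omega)
      (by push_cast; omega) hc
    refine ⟨x, hx, S.n2⁻¹ * y * S.n2, ?_, ?_⟩
    · exact S.n2_refl.mem_J_inv (a' := 1) (b' := m) hy (by norm_num) (by push_cast; omega)
    · show x * y = x * (S.n2 * (S.n2⁻¹ * y * S.n2) * S.n2⁻¹)
      group
  · obtain ⟨x, hx, y, hy, rfl⟩ := S.zsys8.split_ll (a := 1) (b := ((m + 1 : ℕ) : ℤ)) (by push_cast; omega)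
      (by push_cast; omega) hc
    refine ⟨x, hx, S.n1⁻¹ * y * S.n1, ?_, ?_⟩
    · exact S.n1_refl.mem_J_inv (a' := 9 - m) (b' := 8) hy (by push_cast; omega) (by norm_num)
    · show x * y = x * (S.n1 * (S.n1⁻¹ * y * S.n1) * S.n1⁻¹)
      group

theorem arc_inj (b : Bool) {m : ℕ} (hm : m + 1 ≤ 8) : ∀ x ∈ XX S b, ∀ u ∈ arc S (!b) m,
    x = nn S b * u * (nn S b)⁻¹ → x = 1 := by
  intro x hx u hu e
  cases b
  · have h1 := S.n2_refl.mem_J (a := 1) (b := m) (a' := 8 - m) (b' := 7) hu (by omega) (by omega)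
    have h2 : x ∈ J S.XZ (8 - m) 7 := by rw [e]; exact h1
    exact S.zsys8.inter' (k := 8) hx (J_mono (by omega) (by norm_num) h2)
  · have h1 := S.n1_refl.mem_J (a := 9 - m) (b := 8) (a' := 2) (b' := m + 1) hu (by omega) (by omega)
    have h2 : x ∈ J S.XZ 2 (m + 1) := by rw [e]; exact h1
    exact S.zsys8.inter 1 x hx (J_mono (by norm_num) (by omega) h2)

section rep

variable [Finite G] {k V : Type*} [Field k] [AddCommGroup V] [Module k V] (ρ : G →* Module.End k V)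

/-- the two operators -/
noncomputable def TT (b : Bool) : Module.End k V := Tn ρ (XX S b) (nn S b)

theorem word (m : ℕ) : ∀ b, m ≤ 8 → ∀ w : V, alt (TT S ρ) b m w = Tn ρ (arc S b m) (gg S b m) w := by
  induction m with
  | zero =>
    intro b _ w
    have h : arc S b 0 = ⊥ := by
      cases b
      · exact J_empty (by norm_num)
      · exact J_empty (by norm_num)
    rw [h]
    let _ : Fintype (⊥ : Subgroup G) := Fintype.ofFinite _
    rw [Tn_apply]
    have : ∀ x : (⊥ : Subgroup G), ρ ((x : G) * gg S b 0) w = w := by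
      intro x
      have hx : (x : G) = 1 := Subgroup.mem_bot.1 x.2
      rw [hx, one_mul]
      exact one_ap ρ w
    simp only [this]
    rw [Finset.sum_const, Finset.card_univ, ← Nat.card_eq_fintype_card, Subgroup.card_bot, one_smul]
    rfl
  | succ m ih =>
    intro b hm w
    show TT S ρ b (alt (TT S ρ) (!b) m w) = _
    rw [ih (!b) (by omega) w]
    exact Tn_comp ρ (arc_mem S b hm) (arc_surj S b hm) (arc_inj S b hm) w

theorem gg_maps : ∀ m : ℕ, ∀ b, Maps S.R.X (gg S b m) (fun k => if Even m then (bif b then k + m else k - m)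
    else (bif b then 9 + m - k else 9 - m - k)) := by
  intro m
  induction m with
  | zero =>
    intro b
    refine Maps.one.congr fun k => ?_
    cases b <;> simp only [_root_.Nat.reduceMul, _root_.id_eq, _root_.Even.zero, ↓ _root_.reduceIte, _root_.Nat.cast_zero, _root_.add_zero, _root_.sub_zero, _root_.Bool.cond_self]
  | succ m ih =>
    intro b
    cases b
    · refine ((n2_maps S).mul (ih true)).congr fun k => ?_
      by_cases h : Even m
      · have h' : ¬ Even (m + 1) := by rw [Nat.even_add_one]; simpa only [_root_.Nat.not_even_iff_odd, _root_.Nat.not_odd_iff_even] using h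
        simp only [Function.comp, h, h', if_true, if_false, cond_true, cond_false]
        push_cast; ring
      · have h' : Even (m + 1) := by rw [Nat.even_add_one]; exact h
        simp only [Function.comp, h, h', if_true, if_false, cond_true, cond_false]
        push_cast; ring
    · refine ((Arc.n1_maps S).mul (ih false)).congr fun k => ?_
      by_cases h : Even m
      · have h' : ¬ Even (m + 1) := by rw [Nat.even_add_one]; simpa only [_root_.Nat.not_even_iff_odd, _root_.Nat.not_odd_iff_even] using h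
        simp only [Function.comp, h, h', if_true, if_false, cond_true, cond_false]
        push_cast; ring
      · have h' : Even (m + 1) := by rw [Nat.even_add_one]; exact h
        simp only [Function.comp, h, h', if_true, if_false, cond_true, cond_false]
        push_cast; ring

theorem gg_mem (b : Bool) : (gg S (!b) 8)⁻¹ * gg S b 8 ∈ S.T := by
  have h : ∀ b, Maps S.R.X (gg S b 8) (fun k => k + 8) := by
    intro b
    refine (gg_maps S 8 b).congr fun k => ?_
    have h8 : Even 8 := by decide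
    cases b
    · simp only [h8, if_true, cond_false]
      have : (16 : ZMod (2 * 8)) = 0 := by decide
      push_cast
      linear_combination -this
    · simp only [h8, if_true, cond_true]
      push_cast; ring
  have h1 := (h (!b)).inv (g := fun k => k - 8) (fun k => by ring)
  exact (h1.mul (h b)).congr fun k => by show k + 8 - 8 = k; ring

/-- fixed by `P`, eigenvector of the torus -/
structure W0 (w : V) : Prop where
  fix : ∀ u ∈ P S, ρ u w = w
  tor : ∀ t ∈ S.T, ∃ c : k, ρ t w = c • w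

omit [Finite G] in
theorem XX_le (b : Bool) : XX S b ≤ P S := by
  cases b
  · exact X_le_J (by norm_num) (by norm_num)
  · exact X_le_J (by norm_num) (by norm_num)

omit [Finite G] in
theorem P_dec (b : Bool) : ∀ g ∈ P S, ∃ x ∈ XX S b, ∃ a ∈ NN S b, g = x * a := by
  intro g hg
  cases b
  · exact S.zsys8.split_rl (a := 1) (b := 8) (by norm_num) (by norm_num) hg
  · exact S.zsys8.split_ll (a := 1) (b := 8) (by norm_num) (by norm_num) hg

omit [Finite G] in
theorem NN_le (b : Bool) : NN S b ≤ P S := by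
  cases b
  · exact J_mono (by norm_num) (by norm_num)
  · exact J_mono (by norm_num) (by norm_num)

omit [Finite G] in
theorem NN_conj (b : Bool) : ∀ x ∈ XX S b, ∀ a ∈ NN S b, x⁻¹ * a * x ∈ NN S b := by
  intro x hx a ha
  cases b
  · have := S.zsys8.conj_X (a := 1) (b := 7) (k := 8) (by norm_num) (by norm_num) (by norm_num) (inv_mem hx) ha
    rwa [inv_inv] at this
  · have := S.zsys8.conj_X (a := 2) (b := 8) (k := 1) (by norm_num) (by norm_num) (by norm_num) (inv_mem hx) ha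
    rwa [inv_inv] at this

omit [Finite G] in
theorem nn_NN (b : Bool) : ∀ a ∈ NN S b, (nn S b)⁻¹ * a * nn S b ∈ NN S b := by
  intro a ha
  cases b
  · exact S.n2_refl.mem_J_inv (a' := 1) (b' := 7) ha (by norm_num) (by norm_num)
  · exact S.n1_refl.mem_J_inv (a' := 2) (b' := 8) ha (by norm_num) (by norm_num)

variable {S ρ}

theorem W0.X {w : V} (h : W0 S ρ w) (b : Bool) : ∀ x ∈ XX S b, ρ x w = w := fun x hx => h.fix x (XX_le S b hx)

theorem W0.TT (b : Bool) {w : V} (h : W0 S ρ w) : W0 S ρ (TT S ρ b w) where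
  fix := by
    intro g hg
    obtain ⟨x, hx, a, ha, rfl⟩ := P_dec S b g hg
    rw [mul_ap]
    have h1 : ρ a (Tn ρ (XX S b) (nn S b) w) = Tn ρ (XX S b) (nn S b) w := by
      let _ := Fintype.ofFinite (XX S b)
      rw [Tn_apply, map_sum]
      refine Finset.sum_congr rfl fun x _ => ?_
      rw [← mul_ap]
      have e : a * ((x : G) * nn S b) = ((x : G) * nn S b) *
          ((nn S b)⁻¹ * ((x : G)⁻¹ * a * (x : G)) * nn S b) := by group
      rw [e, mul_ap, h.fix _ (NN_le S b (nn_NN S b _ (NN_conj S b _ x.2 _ ha)))]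
    have h2 : ρ x (Tn ρ (XX S b) (nn S b) w) = Tn ρ (XX S b) (nn S b) w := mul_Tn ρ _ _ hx w
    show ρ x (ρ a (Tn ρ (XX S b) (nn S b) w)) = Tn ρ (XX S b) (nn S b) w
    rw [h1, h2]
  tor := by
    intro t ht
    have h1 : (nn S b)⁻¹ * t * nn S b ∈ S.T := by
      rw [nn_inv]; exact nH S b t ht
    obtain ⟨c, hc⟩ := h.tor _ h1
    refine ⟨c, ?_⟩
    have h2 := norm_Tn ρ (XX S b) (nn S b) ((r1 S b).HX t ht) w
    show ρ t (Tn ρ (XX S b) (nn S b) w) = c • Tn ρ (XX S b) (nn S b) w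
    rw [h2, hc, map_smul]

/-! ### existence -/

variable (S) in
theorem isPGroup_XZ (k : ℤ) : IsPGroup 2 (S.XZ k) := by
  rintro ⟨x, hx⟩
  refine ⟨2, Subtype.ext ?_⟩
  show x ^ (2 ^ 2) = 1
  obtain ⟨a, h | h⟩ := Int.even_or_odd' k
  · rw [h] at hx
    obtain ⟨p, u, rfl⟩ := (S.mem_XZ_even a x).1 hx
    have e : S.e (a : ZMod 8) p u ^ (2 ^ 2) = (S.e (a : ZMod 8) p u * S.e (a : ZMod 8) p u) *
        (S.e (a : ZMod 8) p u * S.e (a : ZMod 8) p u) := by
      rw [← pow_two, ← pow_two, ← pow_mul]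
      norm_num
    rw [e, Arc.e_sq, S.e_mul, map_zero, mul_zero, add_zero, add_zero, Arc.char2 S, S.e_zero]
  · rw [h] at hx
    obtain ⟨t, rfl⟩ := (S.mem_XZ_odd a x).1 hx
    have e : S.o (a : ZMod 8) t ^ (2 ^ 2) = (S.o (a : ZMod 8) t * S.o (a : ZMod 8) t) *
        (S.o (a : ZMod 8) t * S.o (a : ZMod 8) t) := by
      rw [← pow_two, ← pow_two, ← pow_mul]
      norm_num
    rw [e, S.o_add, Arc.char2 S, S.o_zero, one_mul]

variable (S) in
theorem isPGroup_P : IsPGroup 2 (P S) :=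
  Arc.isPGroup_J S.zsys8 (isPGroup_XZ S) 8 1 8 (by norm_num) (by norm_num)

variable (S) in
theorem isPGroup_Q : IsPGroup 2 (Q S) :=
  Arc.isPGroup_J S.zsys8 (isPGroup_XZ S) 8 9 16 (by norm_num) (by norm_num)

theorem card_XX [CharP k 2] (b : Bool) : (Nat.card (XX S b) : k) = 0 := by
  have h1 : IsPGroup 2 (XX S b) := by
    cases b
    · exact isPGroup_XZ S 8
    · exact isPGroup_XZ S 1
  obtain ⟨n, hn⟩ := IsPGroup.iff_card.1 h1
  have h2 : n ≠ 0 := by
    rintro rfl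
    have h3 : XX S b = ⊥ := Subgroup.card_eq_one.1 (by rw [hn, pow_zero])
    cases b
    · exact S.zsys8.ne_bot 8 h3
    · exact S.zsys8.ne_bot 1 h3
  rw [hn, Nat.cast_pow, show ((2 : ℕ) : k) = 0 from CharP.cast_eq_zero k 2, zero_pow h2]

theorem W0.sq [CharP k 2] (b : Bool) {w : V} (h : W0 S ρ w) :
    ∃ s : k, TW.TT S ρ b (TW.TT S ρ b w) = s • TW.TT S ρ b w :=
  (r1 S b).Tn_sq (h.X b) h.tor (card_XX b)

theorem W0.braid (b : Bool) {w : V} (h : W0 S ρ w) :
    ∃ c : k, alt (TW.TT S ρ) b 8 w = c • alt (TW.TT S ρ) (!b) 8 w := by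
  obtain ⟨c, hc⟩ := h.tor _ (gg_mem S b)
  refine ⟨c, ?_⟩
  have harc : ∀ b, arc S b 8 = J S.XZ 1 8 := by
    intro b
    cases b
    · show J S.XZ (9 - (8 : ℕ)) 8 = _
      norm_num
    · rfl
  rw [word S ρ 8 b le_rfl, word S ρ 8 (!b) le_rfl, harc, harc]
  have e : gg S b 8 = gg S (!b) 8 * ((gg S (!b) 8)⁻¹ * gg S b 8) := by group
  conv_lhs => rw [e]
  rw [Tn_mul_right, hc, map_smul]

theorem exists_W0 [IsAlgClosed k] [CharP k 2] [FiniteDimensional k V] [Nontrivial V] :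
    ∃ w : V, w ≠ 0 ∧ W0 S ρ w := by
  obtain ⟨v, hv⟩ := exists_ne (0 : V)
  obtain ⟨w, -, hw, hfix⟩ := H45.Uni.exists_fix (p := 2) (isPGroup_P S) (ρ.comp (P S).subtype) hv
  let E : Submodule k V :=
    { carrier := {v | ∀ u ∈ P S, ρ u v = v}
      add_mem' := fun {a b} ha hb u hu => by rw [map_add, ha u hu, hb u hu]
      zero_mem' := fun u _ => map_zero _
      smul_mem' := fun c a ha u hu => by rw [map_smul, ha u hu] }
  have hE : E ≠ ⊥ := by
    intro h
    have h1 : w ∈ E := fun u hu => hfix ⟨u, hu⟩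
    rw [h, Submodule.mem_bot] at h1
    exact hw h1
  obtain ⟨v, hv1, hv0, hv2⟩ := exists_eig ρ S.T (T_comm S) E hE (by
    intro t ht v hv u hu
    have h1 : t⁻¹ * u * t ∈ P S := by
      have := S.T_conj_J (inv_mem ht) hu
      rwa [inv_inv] at this
    have e : u * t = t * (t⁻¹ * u * t) := by group
    rw [← mul_ap, e, mul_ap, hv _ h1])
  exact ⟨v, hv0, hv1, hv2⟩

end rep

/-! ### weight vectors -/

section wt

variable [Finite G] {k V : Type*} [Field k] [AddCommGroup V] [Module k V]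

/-- weight vectors -/
structure Wt (S : Full σ G) (ρ : G →* Module.End k V) (w : V) : Prop extends W0 S ρ w where
  mu : ∀ b, ∃ μ : k, TT S ρ b w = μ • w

variable {S} {ρ : G →* Module.End k V}

/-- **(O2)** weight vectors exist -/
theorem exists_wt [IsAlgClosed k] [CharP k 2] [FiniteDimensional k V] [Nontrivial V] : ∃ w : V, w ≠ 0 ∧ Wt S ρ w := by
  obtain ⟨v, hv0, hv⟩ := exists_W0 (S := S) (ρ := ρ)
  obtain ⟨w, hw0, hw, hw'⟩ := exists_simul (TT S ρ) (W0 S ρ) (fun b v hv => hv.TT b) (fun b v hv => hv.sq b) 8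
    (by norm_num) (fun b v hv => hv.braid b) hv hv0
  exact ⟨w, hw0, ⟨hw, hw'⟩⟩

/-- the span of `G w` is the span of `Q w` -/
theorem Wt.gen {w : V} (h : Wt S ρ w) (g : G) : ρ g w ∈ Submodule.span k {z | ∃ u ∈ Q S, z = ρ u w} := by
  refine span_neg (opp S) ρ (fun b x hx y hy => ?_) g
  obtain ⟨μ, hμ⟩ := h.mu b
  exact (r1 S b).xy_mem (h.X b) h.tor hμ hx hy

end wt

end Cfsg.Agent.H421.TW
end

-- part: H421/TW/Sys
section
/-!
# The rank one data `TSys` of a group of type `²F₄` and (O2) (helper421)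

`tsys S : H564.TW.TSys Bool F G` for `S : Full σ G`, `F` finite; `wt S : (tsys S).Wt k W` for `k` algebraically closed of
characteristic two.
-/

set_option autoImplicit false
set_option linter.unusedSectionVars false

namespace Cfsg.Agent.H421.TW

open Cfsg.Agent.SplitTwo Cfsg.Agent.SplitTwo.ZS Cfsg.Agent.TitsThree.RankTwoZ Cfsg.Agent.KFacts.TwF4 Finset
open Cfsg.Agent.KFacts.TwF4.Full

universe u

variable {F : Type*} [Field F] {σ : F →+* F} {G : Type u} [Group G] (S : Full σ G)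

theorem J_16 (a b : ℤ) : J S.XZ (a - 16) (b - 16) = J S.XZ a b := by
  apply le_antisymm
  · refine J_le fun k h1 h2 => ?_
    have h3 := XZ_16 S (k + 16)
    rw [add_sub_cancel_right] at h3
    rw [h3]
    exact X_le_J (by omega) (by omega)
  · refine J_le fun k h1 h2 => ?_
    rw [← XZ_16 S k]
    exact X_le_J (by omega) (by omega)

/-- the torus is generated by the two rank one tori -/
theorem T_gen [Finite F] : S.T ≤ Subgroup.closure {g | ∃ b c, g = hc S b c} := by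
  intro t ht
  obtain ⟨a, b, rfl⟩ := S.mem_T.1 ht
  -- `σ d / d = a / b`
  have hinj : Function.Injective (fun d : Fˣ => Units.map (σ : F →* F) d / d) := by
    intro x y h
    have h1 : Units.map (σ : F →* F) (x / y) = x / y := by
      rw [map_div]
      have h2 : Units.map (σ : F →* F) x / x = Units.map (σ : F →* F) y / y := h
      rw [div_eq_div_iff_mul_eq_mul] at h2 ⊢
      rw [h2]
      exact mul_comm _ _
    have h2 := Arc.s2 S h1
    exact div_eq_one.1 h2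
  obtain ⟨d, hd⟩ := (Finite.injective_iff_surjective.1 hinj) (a / b)
  have hd' : Units.map (σ : F →* F) d / d = a / b := hd
  have e : S.h a b = hc S true (b / d) * hc S false d := by
    show S.h a b = S.h (b / d) (b / d) * S.h (Units.map (σ : F →* F) d) d
    rw [S.h_mul, div_mul_cancel]
    congr 1
    rw [div_mul_eq_mul_div, mul_div_assoc, hd', mul_div_cancel]
  rw [e]
  exact mul_mem (Subgroup.subset_closure ⟨_, _, rfl⟩) (Subgroup.subset_closure ⟨_, _, rfl⟩)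

theorem nMM (b : Bool) : ∀ z ∈ MM S b, nn S b * z * (nn S b)⁻¹ ∈ MM S b := by
  intro z hz
  cases b
  · have h1 := S.n2_refl.mem_J (a := 9) (b := 15) (a' := 9 - 16) (b' := 15 - 16) hz (by norm_num) (by norm_num)
    rw [J_16] at h1
    exact h1
  · have h1 := S.n1_refl.mem_J (a := 10) (b := 16) (a' := 10 - 16) (b' := 16 - 16) hz (by norm_num) (by norm_num)
    rw [J_16] at h1
    exact h1

/-- the rank one data -/
def tsys [Finite F] : H564.TW.TSys Bool F G where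
  U := P S
  Um := Q S
  H := S.T
  X := XX S
  Y := YY S
  V := NN S
  Z := MM S
  n := nn S
  hh := hc S
  gen := by
    rw [eq_top_iff, ← (opp S).gen]
    refine sup_le (fun u hu => Subgroup.subset_closure (Or.inl hu)) (iSup_le fun b x hx => ?_)
    have h1 := XY S b x hx
    have h2 : x = nn S b * (nn S b * x * nn S b) * nn S b := by
      have : nn S b * (nn S b * x * nn S b) * nn S b = (nn S b * nn S b) * x * (nn S b * nn S b) := by group
      rw [this, nn_sq, one_mul, mul_one]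
    rw [h2]
    have hn : nn S b ∈ Subgroup.closure {g | g ∈ Q S ∨ g ∈ S.T ∨ ∃ j, g = nn S j} :=
      Subgroup.subset_closure (Or.inr (Or.inr ⟨b, rfl⟩))
    exact mul_mem (mul_mem hn (Subgroup.subset_closure (Or.inl ((opp S).YQ b h1)))) hn
  H_comm := T_comm S
  hh_mem := fun b c => DD_le S b (hc_mem S b c)
  hh_mul := hc_mul S
  H_gen := T_gen S
  n_hh := by
    intro b c
    rw [nn_inv, nD S b _ (hc_mem S b c)]
    have h1 := hc_mul S b c c⁻¹
    have h2 : hc S b 1 = 1 := by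
      have := hc_mul S b 1 1
      rw [mul_one] at this
      exact mul_eq_left.1 this.symm
    rw [mul_inv_cancel, h2] at h1
    exact inv_eq_of_mul_eq_one_right h1.symm
  n_sq := by
    intro b
    rw [nn_sq]
    exact one_mem _
  X_ne := by
    intro b
    cases b
    · exact S.zsys8.ne_bot 8
    · exact S.zsys8.ne_bot 1
  X_le := XX_le S
  Y_le := (opp S).YQ
  Z_le := (opp S).MQ
  U_eq := P_dec S
  Um_eq := (opp S).dec
  V_le := NN_le S
  X_V := NN_conj S
  n_V := nn_NN S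
  n_Z := nMM S
  n_Y := by
    intro b y hy
    rw [nn_inv]
    exact YX S b y hy
  H_X := fun b => (r1 S b).HX
  H_Um := fun t ht u hu => S.T_conj_J ht hu
  rank := by
    intro b u hu hu1
    obtain ⟨y, hy, t, ⟨c, rfl⟩, x', hx', e⟩ := rk S b u hu hu1
    exact ⟨y, hy, c, x', hx', e⟩

theorem Tj_eq [Finite F] [Finite G] {k V : Type*} [Field k] [AddCommGroup V] [Module k V] (ρ : G →* Module.End k V)
    (b : Bool) (v : V) : (tsys S).Tj ρ b v = TT S ρ b v := by
  classical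
  let _ := Fintype.ofFinite (XX S b)
  show _ = Tn ρ (XX S b) (nn S b) v
  rw [Tn_apply]
  unfold H564.TW.TSys.Tj
  refine Finset.sum_bij' (fun x hx => (⟨x, (Set.Finite.mem_toFinset _).1 hx⟩ : XX S b)) (fun x _ => (x : G))
    (fun _ _ => Finset.mem_univ _) (fun x _ => (Set.Finite.mem_toFinset _).2 x.2) (fun _ _ => rfl) (fun _ _ => rfl)
    (fun _ _ => rfl)

/-- **(O2)** -/
theorem wt [Finite F] [Finite G] {k : Type*} [Field k] [IsAlgClosed k] [CharP k 2] {W : Type*} [AddCommGroup W]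
    [Module k W] : (tsys S).Wt k W := by
  intro ρ _ _
  obtain ⟨w, hw0, hw⟩ := exists_wt (S := S) (ρ := ρ)
  refine ⟨w, hw0, hw.fix, hw.tor, fun b => ?_⟩
  obtain ⟨μ, hμ⟩ := hw.mu b
  exact ⟨μ, by rw [Tj_eq]; exact hμ⟩

end Cfsg.Agent.H421.TW
end

-- part: H564/TW/Val
section
/-!
# Own characteristic of `2F4(q)`: the values of the fundamental functions (helper564)

* `TSys.reparam` : change of the parametrisation of the coroot elements;
* `tw_T` : the images of the torus elements in `chevF4.group k`;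
* `Δ_tor` : the values of `Δ i` on the torus; `Δ_n1`, `Δ_n2` : the values on the images of `n1`, `n2`;
* `lam_F4` : the digits.
-/

set_option autoImplicit false
set_option linter.unusedSectionVars false

namespace Cfsg.Agent.H564.TW

open Cfsg Cfsg.Lie Cfsg.Lie.ChevalleyDatum
open Cfsg.Agent.H45.UniE Cfsg.Agent.H405.UE Cfsg.Agent.H421.UniE
open Cfsg.Agent.ChevalleyStructure Cfsg.Agent.ChevalleyStructure.Elts Cfsg.Agent.ChevalleyStructure.NPerm
  Cfsg.Agent.ChevalleyStructure.RootVec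
open Cfsg.Agent.Nodes.RGDChev Cfsg.Agent.KFacts.RgdChevCoord Cfsg.Agent.Nodes Cfsg.Agent.H564.U
open Cfsg.Agent.H129.TorusChar Cfsg.Agent.Tits.Roots Cfsg.Agent.ChevalleyStructure.CoxeterGeom
  Cfsg.Agent.ChevalleyStructure.CoxeterGeomTypes
open Cfsg.Agent.ChevalleyStructure.TwF4.TwistedFix (Rln)
open Cfsg.Agent.ChevalleyStructure.TwF4.Torus (T chi hMat_eq single_mul_prod)
open Cfsg.Agent.ChevalleyStructure.TwF4.TwGen (tc)
open Cfsg.Agent.KFacts.TwF4.Inst (go ge ro re oA oB eA eB eC eD lt48)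
open Cfsg.Agent.H203.TW (tw tw_ro tw_re twisted_le)

/-! ### reparametrisation -/

/-- change of the parametrisation of the coroot elements -/
def TSys.reparam {J F S : Type*} [Field F] [Group S] (E : TSys J F S) (ψ : J → Fˣ ≃* Fˣ) : TSys J F S where
  U := E.U
  Um := E.Um
  H := E.H
  X := E.X
  Y := E.Y
  V := E.V
  Z := E.Z
  n := E.n
  hh j b := E.hh j (ψ j b)
  gen := E.gen
  H_comm := E.H_comm
  hh_mem j b := E.hh_mem j _
  hh_mul j b c := by rw [map_mul, E.hh_mul]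
  H_gen := E.H_gen.trans (Subgroup.closure_mono (by
    rintro _ ⟨j, b, rfl⟩
    exact ⟨j, (ψ j).symm b, by rw [MulEquiv.apply_symm_apply]⟩))
  n_hh j b := by rw [E.n_hh, map_inv]
  n_sq := E.n_sq
  X_ne := E.X_ne
  X_le := E.X_le
  Y_le := E.Y_le
  Z_le := E.Z_le
  U_eq := E.U_eq
  Um_eq := E.Um_eq
  V_le := E.V_le
  X_V := E.X_V
  n_V := E.n_V
  n_Z := E.n_Z
  n_Y := E.n_Y
  H_X := E.H_X
  H_Um := E.H_Um
  rank j u hu h1 := by
    obtain ⟨y, hy, b, x, hx, h⟩ := E.rank j u hu h1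
    exact ⟨y, hy, (ψ j).symm b, x, hx, by rw [MulEquiv.apply_symm_apply]; exact h⟩

theorem TSys.wt_reparam {J F S : Type*} [Field F] [Group S] [Finite S] {E : TSys J F S} (ψ : J → Fˣ ≃* Fˣ)
    {k W : Type*} [Field k] [AddCommGroup W] [Module k W] (h : E.Wt k W) : (E.reparam ψ).Wt k W := h

/-! ### the digits -/

/-- the orbits of the simple roots: `p₁, p₄` and `p₂, p₃` -/
def orb : Fin 4 → Bool := ![true, false, false, true]

/-- the exponents -/
def ee (m : ℕ) : Fin 4 → ℕ := ![1, 1, 2 ^ (m + 1), 2 ^ (m + 1)]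

theorem ee_pos (m : ℕ) (i : Fin 4) : 0 < ee m i := by
  fin_cases i
  · exact Nat.one_pos
  · exact Nat.one_pos
  · exact Nat.two_pow_pos _
  · exact Nat.two_pow_pos _

theorem long_tab : ∀ i : Fin 4, chevF4.isLong (psr KindF.isType i).1 = (![false, false, true, true] : Fin 4 → Bool) i := by
  have h : ∀ i : Fin 4, chevF4.isLong (chevF4.simple i) = (![false, false, true, true] : Fin 4 → Bool) i := by decide +kernel
  exact h

theorem lam_F4 (m : ℕ) (a : Bool → ℕ) (ha : ∀ j, a j < 2 ^ (2 * m + 1)) : ∃ l : Fin 4 → ℕ,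
    (∀ i, l i < qF m (psr KindF.isType i)) ∧ ∀ j, TSys.wt orb (ee m) l j = a j := by
  have hq : 2 ^ (2 * m + 1) = 2 ^ (m + 1) * 2 ^ m := by rw [← pow_add]; congr 1; omega
  have hpos : 0 < 2 ^ (m + 1) := Nat.two_pow_pos _
  refine ⟨![a true % 2 ^ (m + 1), a false % 2 ^ (m + 1), a false / 2 ^ (m + 1), a true / 2 ^ (m + 1)], fun i => ?_,
    fun j => ?_⟩
  · unfold qF
    rw [long_tab]
    fin_cases i
    · exact Nat.mod_lt _ hpos
    · exact Nat.mod_lt _ hpos
    · show a false / 2 ^ (m + 1) < 2 ^ m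
      rw [Nat.div_lt_iff_lt_mul hpos, mul_comm, ← hq]
      exact ha false
    · show a true / 2 ^ (m + 1) < 2 ^ m
      rw [Nat.div_lt_iff_lt_mul hpos, mul_comm, ← hq]
      exact ha true
  · unfold TSys.wt
    rw [Finset.sum_filter, Fin.sum_univ_four]
    cases j
    · show 0 + 1 * (a false % 2 ^ (m + 1)) + 2 ^ (m + 1) * (a false / 2 ^ (m + 1)) + 0 = a false
      rw [zero_add, add_zero, one_mul]
      exact Nat.mod_add_div _ _
    · show 1 * (a true % 2 ^ (m + 1)) + 0 + 0 + 2 ^ (m + 1) * (a true / 2 ^ (m + 1)) = a true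
      rw [add_zero, add_zero, one_mul]
      exact Nat.mod_add_div _ _

/-! ### the torus -/

section torus

variable {K : Type*} [Field K] [CharP K 2] {k : Type*} [Field k] [Algebra K k]

theorem hG_eq_T {r : ℕ} (hr : r < 48) (t : Kˣ) :
    hG KindF.isType.inList r (t : K) = T (Cfsg.Agent.ChevalleyStructure.TwF4.Torus.hc r t) :=
  Units.ext (by rw [coe_hG]; exact hMat_eq hr t)

/-- the image of a torus element -/
theorem tw_T {e : ℕ} (c : Fin 4 → Kˣ) {g : ↥(twistedF4 K e)} (h : (g : GL chevF4.Idx K) = T c) :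
    tw K k e g = hc KindF.isType 0 (algebraMap K k (c 0)) * hc KindF.isType 1 (algebraMap K k (c 1)) *
      hc KindF.isType 2 (algebraMap K k (c 2)) * hc KindF.isType 3 (algebraMap K k (c 3)) := by
  apply Subtype.ext
  show Matrix.GeneralLinearGroup.map (algebraMap K k) (g : GL chevF4.Idx K) =
    hG KindF.isType.inList 33 (algebraMap K k (c 0)) * hG KindF.isType.inList 27 (algebraMap K k (c 1)) *
      hG KindF.isType.inList 25 (algebraMap K k (c 2)) * hG KindF.isType.inList 24 (algebraMap K k (c 3))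
  have e1 : (g : GL chevF4.Idx K) = hG KindF.isType.inList 33 (c 0 : K) * hG KindF.isType.inList 27 (c 1 : K) *
      hG KindF.isType.inList 25 (c 2 : K) * hG KindF.isType.inList 24 (c 3 : K) := by
    rw [h, hG_eq_T (by norm_num), hG_eq_T (by norm_num), hG_eq_T (by norm_num), hG_eq_T (by norm_num), ← map_mul,
      ← map_mul, ← map_mul, ← single_mul_prod]
  rw [e1, map_mul, map_mul, map_mul, glmap_hG, glmap_hG, glmap_hG, glmap_hG]

end torus

/-! ### the values of the fundamental functions -/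

section val

variable {k : Type*} [Field k] [Infinite k] (F : FDat (Fin 4) (PR chevF4) k ↥(chevF4.group k))

theorem Δ_prod (u : Fin 4 → kˣ) (i : Fin 4) : F.Δ i (F.hh 0 (u 0) * F.hh 1 (u 1) * F.hh 2 (u 2) * F.hh 3 (u 3)) = u i := by
  rw [F.Δ_T i _ (F.hh_mem _ _), F.Δ_T i _ (F.hh_mem _ _), F.Δ_T i _ (F.hh_mem _ _)]
  simp only [F.Δ_hh]
  fin_cases i <;> simp

variable {F} (hF : F.toGDat = gdat KindF.isType k)
include hF

theorem F_hh (j : Fin 4) (c : kˣ) : F.hh j c = hc KindF.isType j (c : k) := by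
  show F.toGDat.hh j c = _
  rw [hF]
  rfl

theorem F_x (j : Fin 4) (s : k) : F.x j s = zz KindF.isType (chevF4.simple j) s := by
  show F.toGDat.x j s = _
  rw [hF]
  exact zz_simple _ _ _

theorem F_y (j : Fin 4) (s : k) : F.y j s = zz KindF.isType (chevF4.neg (chevF4.simple j)) s := by
  show F.toGDat.y j s = _
  rw [hF]
  exact zz_neg_simple _ _ _

variable {K : Type*} [Field K] [CharP K 2] [Algebra K k]

/-- the values on the images of the torus elements -/
theorem Δ_tw_T {e : ℕ} (c : Fin 4 → Kˣ) {g : ↥(twistedF4 K e)} (h : (g : GL chevF4.Idx K) = T c) (i : Fin 4) :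
    F.Δ i (tw K k e g) = algebraMap K k (c i) := by
  have h1 := Δ_prod F (fun j => Units.map (algebraMap K k).toMonoidHom (c j)) i
  rw [F_hh hF, F_hh hF, F_hh hF, F_hh hF] at h1
  rw [tw_T c h]
  exact h1

theorem tw_T_mem {e : ℕ} (c : Fin 4 → Kˣ) {g : ↥(twistedF4 K e)} (h : (g : GL chevF4.Idx K) = T c) :
    tw K k e g ∈ F.T := by
  rw [tw_T c h]
  have h1 : ∀ j (u : Kˣ), hc KindF.isType j (algebraMap K k u) ∈ F.T := fun j u => by
    have := F.hh_mem j (Units.map (algebraMap K k).toMonoidHom u)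
    rw [F_hh hF] at this
    exact this
  exact mul_mem (mul_mem (mul_mem (h1 _ _) (h1 _ _)) (h1 _ _)) (h1 _ _)

/-- the group generated by the simple root elements of an orbit -/
def CC (F : FDat (Fin 4) (PR chevF4) k ↥(chevF4.group k)) (b : Bool) : Subgroup ↥(chevF4.group k) :=
  Subgroup.closure {g | ∃ j s, orb j = b ∧ (g = F.x j s ∨ g = F.y j s)}

theorem mem_CC_simple {b : Bool} (j : Fin 4) (hj : orb j = b) (s : k) :
    zz KindF.isType (chevF4.simple j) s ∈ CC F b := by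
  rw [← F_x hF]
  exact Subgroup.subset_closure ⟨j, s, hj, Or.inl rfl⟩

theorem mem_CC_neg {b : Bool} (j : Fin 4) (hj : orb j = b) (s : k) :
    zz KindF.isType (chevF4.neg (chevF4.simple j)) s ∈ CC F b := by
  rw [← F_y hF]
  exact Subgroup.subset_closure ⟨j, s, hj, Or.inr rfl⟩

theorem mem_CC_refl {b : Bool} (j : Fin 4) (hj : orb j = b) {r : ℕ} (hr : r < 48)
    (h : ∀ s : k, zz KindF.isType r s ∈ CC F b) (s : k) : zz KindF.isType (chevF4.reflectRoot j r) s ∈ CC F b := by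
  have hn : nc KindF.isType k j ∈ CC F b := by
    have e : nc KindF.isType k j = zz KindF.isType (chevF4.simple j) 1 *
        (zz KindF.isType (chevF4.neg (chevF4.simple j)) (-(1 : k)⁻¹) * zz KindF.isType (chevF4.simple j) 1) := by
      apply Subtype.ext
      show nG KindF.isType.inList (chevF4.simple j) 1 = _
      rw [nG_def]
      rfl
    rw [e]
    exact mul_mem (mem_CC_simple hF j hj _) (mul_mem (mem_CC_neg hF j hj _) (mem_CC_simple hF j hj _))
  obtain ⟨c, hc0, e⟩ := nact KindF.isType (K := k) (i := j) (r := r) hr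
  have h1 := e (c⁻¹ * s)
  rw [mul_inv_cancel_left₀ hc0, zz_vec KindF.isType hr, zz_vec KindF.isType (reflectRoot_lt KindF.isType.inList j.2 hr)] at h1
  rw [← h1]
  exact mul_mem (mul_mem hn (h _)) (inv_mem hn)

theorem Δ_CC {i : Fin 4} {b : Bool} (hi : orb i ≠ b) {g : ↥(chevF4.group k)} (hg : g ∈ CC F b) : F.Δ i g = 1 := by
  have h := Δ_one_of F (i := i) (A := fun j => orb j = b) (fun j hj h => hi (h ▸ hj)) hg 1
  rw [one_mul, F.Δ_one] at h
  exact h

end val

end Cfsg.Agent.H564.TW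
end

-- part: H564/TW/Val2
section
/-!
# Own characteristic of `2F4(q)`: coroots and reflections (helper564)
-/

set_option autoImplicit false
set_option linter.unusedSectionVars false

namespace Cfsg.Agent.H564.TW

open Cfsg Cfsg.Lie Cfsg.Lie.ChevalleyDatum
open Cfsg.Agent.H45.UniE Cfsg.Agent.H405.UE Cfsg.Agent.H421.UniE
open Cfsg.Agent.ChevalleyStructure Cfsg.Agent.ChevalleyStructure.Elts
open Cfsg.Agent.Nodes.RGDChev Cfsg.Agent.KFacts.RgdChevCoord Cfsg.Agent.Nodes Cfsg.Agent.H564.U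
open Cfsg.Agent.ChevalleyStructure.TwF4.TwistedFix (Rln)
open Cfsg.Agent.ChevalleyStructure.TwF4.Torus (T chi chi_def)
open Cfsg.Agent.ChevalleyStructure.F4NTab (ca)
open Cfsg.Agent.ChevalleyStructure.TwF4.TwGen (tc)
open Cfsg.Agent.KFacts.TwF4.Inst (ro re oA oB eA eB eC eD lt48 hT hT_eq full n1_word n2_word)
open Cfsg.Agent.Octagon.KPar (sq_phi)
open Cfsg.Agent.H203.TW (tw tw_ro tw_re twisted_le)
open Cfsg.Agent.KFacts.TwF4 (Full)

theorem tab20 : ca 0 20 = 1 ∧ ca 1 20 = -2 ∧ ca 2 20 = 1 ∧ ca 3 20 = 0 := by decide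
theorem tab34 : ca 0 34 = 1 ∧ ca 1 34 = 1 ∧ ca 2 34 = -1 ∧ ca 3 34 = 0 := by decide

section

variable {K : Type*} [Field K]

theorem chi20 (c : Fin 4 → Kˣ) : chi c 20 = c 0 * ((c 1) ^ 2)⁻¹ * c 2 := by
  obtain ⟨h0, h1, h2, h3⟩ := tab20
  rw [chi_def, h0, h1, h2, h3, zpow_one, zpow_one, zpow_zero, mul_one, zpow_neg]
  rfl

theorem chi34 (c : Fin 4 → Kˣ) : chi c 34 = c 0 * c 1 * (c 2)⁻¹ := by
  obtain ⟨h0, h1, h2, h3⟩ := tab34
  rw [chi_def, h0, h1, h2, h3, zpow_one, zpow_one, zpow_zero, mul_one, zpow_neg, zpow_one]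

end

variable {K : Type*} [Field K] [CharP K 2] [Finite K] {φ : K →+* K} {e : ℕ}

theorem units_phi_pow (hφ : Rln φ e) (c : Kˣ) : (Units.map (φ : K →* K) c) ^ e = c := by
  apply Units.ext
  rw [Units.val_pow_eq_pow_val]
  show (φ (c : K)) ^ e = c
  rw [← map_pow, hφ.phi_pow]

/-- the coroot elements of the first node -/
theorem hT_true (hφ : Rln φ e) (c : Kˣ) :
    (hT hφ c c : GL chevF4.Idx K) = T ![c, 1, 1, Units.map (φ : K →* K) c] := by
  have e1 : tc e 1 (Units.map (φ : K →* K) c) = ![c, 1, 1, Units.map (φ : K →* K) c] := by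
    unfold tc
    rw [units_phi_pow hφ, one_pow]
  rw [← e1]
  refine hT_eq hφ ?_ ?_
  · rw [e1]
    show chi _ 20 = c
    rw [chi20]
    simp
  · rw [e1]
    show chi _ 34 = c
    rw [chi34]
    simp

/-- the coroot elements of the second node -/
theorem hT_false (hφ : Rln φ e) (a : Kˣ) :
    (hT hφ (Units.map (φ : K →* K) (a / Units.map (φ : K →* K) a)) (a / Units.map (φ : K →* K) a) : GL chevF4.Idx K) =
      T ![1, a, Units.map (φ : K →* K) a, 1] := by
  have e1 : tc e (Units.map (φ : K →* K) a) 1 = ![1, a, Units.map (φ : K →* K) a, 1] := by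
    unfold tc
    rw [units_phi_pow hφ, one_pow]
  rw [← e1]
  refine hT_eq hφ ?_ ?_
  · rw [e1]
    show chi _ 20 = _
    rw [chi20, map_div, Cfsg.Agent.KFacts.TwF4.map_map φ (sq_phi hφ)]
    show 1 * (a ^ 2)⁻¹ * Units.map (φ : K →* K) a = Units.map (φ : K →* K) a / a ^ 2
    rw [one_mul, mul_comm, div_eq_mul_inv]
  · rw [e1]
    show chi _ 34 = _
    rw [chi34]
    show 1 * a * (Units.map (φ : K →* K) a)⁻¹ = _
    rw [one_mul, div_eq_mul_inv]

/-- the reparametrisation of the second node -/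
noncomputable def psi (hφ : Rln φ e) : Kˣ ≃* Kˣ :=
  MulEquiv.ofBijective ((MonoidHom.id Kˣ) / (Units.map (φ : K →* K))) (by
    rw [← Finite.injective_iff_bijective, injective_iff_map_eq_one]
    intro a ha
    have h1 : a = Units.map (φ : K →* K) a := div_eq_one.1 ha
    have h2 := Cfsg.Agent.KFacts.TwF4.map_map φ (sq_phi hφ) a
    rw [← h1, ← h1, sq] at h2
    exact mul_eq_left.1 h2.symm)

/-- the reparametrisation -/
noncomputable def ps (hφ : Rln φ e) : Bool → Kˣ ≃* Kˣ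
  | true => MulEquiv.refl _
  | false => psi hφ

section fin

variable {K : Type*} [Field K] [CharP K 2] [Fintype K] {φ : K →+* K} {m : ℕ}

/-- **the system of `2F4(q)`** -/
noncomputable def sysF (hK : Fintype.card K = 2 ^ (2 * m + 1)) (hφ : Rln φ (2 ^ m)) :
    TSys Bool K ↥(twistedF4 K (2 ^ m)) :=
  (Cfsg.Agent.H421.TW.tsys (full hK hφ)).reparam (ps hφ)

/-- the coroot elements in the torus -/
def cor (φ : K →+* K) : Bool → Kˣ → Fin 4 → Kˣ
  | true => fun c => ![c, 1, 1, Units.map (φ : K →* K) c]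
  | false => fun a => ![1, a, Units.map (φ : K →* K) a, 1]

theorem hh_eq (hK : Fintype.card K = 2 ^ (2 * m + 1)) (hφ : Rln φ (2 ^ m)) (j : Bool) (b : Kˣ) :
    ((sysF hK hφ).hh j b : GL chevF4.Idx K) = T (cor φ j b) := by
  cases j
  · exact hT_false hφ b
  · exact hT_true hφ b

variable {k : Type*} [Field k] [Infinite k] [Algebra K k] {F : FDat (Fin 4) (PR chevF4) k ↥(chevF4.group k)}
  (hF : F.toGDat = gdat KindF.isType k)
include hF

theorem cor_val (hφ : Rln φ (2 ^ m)) (i : Fin 4) (j : Bool) (b : Kˣ) :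
    algebraMap K k (cor φ j b i) = if orb i = j then algebraMap K k (b : K) ^ ee m i else 1 := by
  have h1 : algebraMap K k (φ (b : K)) = algebraMap K k (b : K) ^ 2 ^ (m + 1) := by
    rw [hφ.phi, ← pow_mul, ← pow_succ, map_pow]
  cases j <;> (revert i; simp only [cor, orb, ee, h1, _root_.Fin.forall_fin_succ, Fin.isValue, _root_.Matrix.cons_val_zero, _root_.Units.val_one, _root_.map_one, _root_.Bool.true_eq_false, ↓reduceIte, _root_.Matrix.cons_val_succ, _root_.pow_one, _root_.Units.coe_map, _root_.MonoidHom.coe_coe, _root_.Matrix.cons_val_fin_one, _root_.implies_true, _root_.and_self, _root_.Bool.false_eq_true])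

/-- values on the coroot elements -/
theorem Δ_hh' (hK : Fintype.card K = 2 ^ (2 * m + 1)) (hφ : Rln φ (2 ^ m)) (i : Fin 4) (j : Bool) (b : Kˣ) :
    F.Δ i (tw K k (2 ^ m) ((sysF hK hφ).hh j b)) = if orb i = j then algebraMap K k (b : K) ^ ee m i else 1 := by
  rw [Δ_tw_T hF (cor φ j b) (hh_eq hK hφ j b), cor_val hF hφ]

theorem hh_mem' (hK : Fintype.card K = 2 ^ (2 * m + 1)) (hφ : Rln φ (2 ^ m)) (j : Bool) (b : Kˣ) :
    tw K k (2 ^ m) ((sysF hK hφ).hh j b) ∈ F.T := tw_T_mem hF (cor φ j b) (hh_eq hK hφ j b)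

theorem H_mem' (hK : Fintype.card K = 2 ^ (2 * m + 1)) (hφ : Rln φ (2 ^ m)) {t : ↥(twistedF4 K (2 ^ m))}
    (ht : t ∈ (sysF hK hφ).H) : tw K k (2 ^ m) t ∈ F.T := by
  have h0 := (sysF hK hφ).H_gen ht
  clear ht
  induction h0 using Subgroup.closure_induction with
  | mem g hg => obtain ⟨j, b, rfl⟩ := hg; exact hh_mem' hF hK hφ j b
  | one => rw [map_one]; exact one_mem _
  | mul a b _ _ h1 h2 => rw [map_mul]; exact mul_mem h1 h2
  | inv a _ h1 => rw [map_inv]; exact inv_mem h1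

end fin

end Cfsg.Agent.H564.TW
end

private theorem dce_5b967f056133 : _root_.True := by
  try have : _root_.True := by simp only [_root_.Cfsg.Agent.H421.TW.alt.eq_def]
  try have : _root_.True := by simp only [_root_.Cfsg.Agent.H421.TW.Tn.eq_1]
  try have : _root_.True := by simp only [_root_.Cfsg.Agent.H564.TW.TSys.wt.congr_simp]
  try have : _root_.True := by simp only [_root_.Cfsg.Agent.H564.TW.cor.eq_2]
  try have : _root_.True := by simp only [_root_.Cfsg.Agent.H564.TW.TSys.sg.congr_simp]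
  try have : _root_.True := by simp only [_root_.Cfsg.Agent.H564.TW.orb.eq_1]
  try have : _root_.True := by simp only [_root_.Cfsg.Agent.H421.TW.alt.eq_2]
  try have : _root_.True := by simp only [_root_.Cfsg.Agent.H421.TW.alt.eq_1]
  try have : _root_.True := by simp only [_root_.Cfsg.Agent.H564.TW.cor.eq_1]
  try have : _root_.True := by simp only [_root_.Cfsg.Agent.H564.TW.ee.eq_1]
  try have : _root_.True := by simp only [_root_.Cfsg.Agent.H421.TW.TT.congr_simp]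
  exact _root_.True.intro
end
end
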